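import Cfsg.Agent.H179.SLC.Coc_m3
import Cfsg.Agent.H943.No6_m3
import Cfsg.Agent.H943.L729
import Cfsg.Agent.H597.E8Form
import Cfsg.Agent.H288.E8L.Brk
import Cfsg.Agent.BpExc.AsmN_m3
import Cfsg.Agent.H593.RobinsonRank
import Cfsg.Agent.S1093
import Cfsg.Agent.Lib.FinFast
import Mathlib
import Cfsg.Agent.H834.E8.NoFix
import Cfsg.Agent.Lib.GenFitting
import Cfsg.Agent.LieClassical.FieldTransfer
import Cfsg.Agent.FastGrp
import Cfsg.Agent.Prune
set_option linter.all false

section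
prune_inst 0x7ff0adfb8bb8a9dfdfff7e7fa6d8cffc3b911fffa6dff94b7fe061ff2b98230209c56b8d09e010fe1ed6e21410b87803fb7eeeffe06bdc7ffffd5ff41ffbee4fe5f7b508519488340fb80ff603f0778e7f3fffffffffffffffffffffffffffaeffbffffff7ff

-- part: H525/E8L/POne_mg
section
prune_inst 0x342007047522020000000000200000002000040000000000008004027109000000400000020000021000000008050008111000a0420000000a000000000000000000100400400000420098000000000000000000000000000000000000010000000000800
set_option linter.all false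
open scoped Cfsg.Agent.FastGrp

namespace Cfsg.Agent.H90F

private noncomputable def frc {α : Type} (x : ℕ) (f : ℕ → α) : α := Nat.rec (f 0) (fun k _ => f (Nat.succ k)) x

private theorem frc_eq {α : Type} (x : ℕ) (f : ℕ → α) : frc x f = f x := by cases x <;> rfl

private noncomputable def nth {α : Type} (d : α) (l : List α) : ℕ → α :=
  List.rec (fun _ => d) (fun a _ ih n => Nat.rec a (fun k _ => ih k) n) l

private theorem nth_eq {α : Type} (d : α) (l : List α) (n : ℕ) : nth d l n = l.getD n d := by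
  induction l generalizing n with
  | nil => rfl
  | cons a l ih => cases n with
    | zero => rfl
    | succ k => exact ih k

private noncomputable def fld {α : Type} (l : List α) (n : ℕ) (d : α) : α := frc n (nth d l)

private theorem ld_eq {α : Type} (l : List α) (n : ℕ) (d : α) : l.getD n d = fld l n d := by
  rw [fld, frc_eq, nth_eq]

private theorem ld_fun : @List.getD.{0} = @fld := by
  funext α a n d; exact ld_eq a n d

private noncomputable def fal {α : Type} (l : List α) (p : α → Bool) : Bool :=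
  List.rec true (fun a _ ih => Bool.rec false ih (p a)) l

private theorem al_fun : @List.all.{0} = @fal := by
  funext α l p
  induction l with
  | nil => rfl
  | cons a l ih => rw [List.all_cons, ih]; show _ = (Bool.rec false (fal l p) (p a) : Bool); cases p a <;> rfl

private noncomputable def fmp {α β : Type} (f : α → β) (l : List α) : List β := List.rec [] (fun a _ ih => f a :: ih) l

private theorem mp_fun : @List.map.{0, 0} = @fmp := by
  funext α β f l
  induction l with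
  | nil => rfl
  | cons a l ih => rw [List.map_cons, ih]; rfl

private noncomputable def ffr {α β : Type} (f : α → β → β) (b : β) (l : List α) : β := List.rec b (fun a _ ih => f a ih) l

private theorem fr_fun : @List.foldr.{0, 0} = @ffr := by
  funext α β f b l
  induction l with
  | nil => rfl
  | cons a l ih => rw [List.foldr_cons, ih]; rfl

private noncomputable def fap {α : Type} (l m : List α) : List α := List.rec m (fun a _ ih => a :: ih) l

private theorem fap_eq {α : Type} (l m : List α) : l ++ m = fap l m := by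
  induction l with
  | nil => rfl
  | cons a l ih => rw [List.cons_append, ih]; rfl

private noncomputable def ffm {α β : Type} (f : α → List β) (l : List α) : List β := List.rec [] (fun a _ ih => fap (f a) ih) l

private theorem fm_fun : @List.flatMap.{0, 0} = @ffm := by
  funext α β f l
  induction l with
  | nil => rfl
  | cons a l ih => rw [List.flatMap_cons, ih, fap_eq]; rfl

private noncomputable def fen (a : ℕ) (l : List ℕ) : Bool :=
  frc a fun a => List.rec false (fun b _ ih => Bool.rec ih true (Nat.beq a b)) l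

private theorem bn_eq (a b : ℕ) : (a == b) = Nat.beq a b := by
  rw [Bool.eq_iff_iff, beq_iff_eq, Nat.beq_eq]

private theorem fen_eq (a : ℕ) (l : List ℕ) : List.elem a l = fen a l := by
  rw [fen, frc_eq]
  induction l with
  | nil => rfl
  | cons b l ih => rw [List.elem_cons, ih, bn_eq]; show _ = (Bool.rec _ true (Nat.beq a b) : Bool); cases Nat.beq a b <;> rfl

private theorem en_fun : @List.elem ℕ instBEqOfDecidableEq = fen := by
  funext a l; exact fen_eq a l

private theorem bn_fun : @BEq.beq ℕ instBEqOfDecidableEq = Nat.beq := by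
  funext a b; exact bn_eq a b

private noncomputable def dOf {P : Prop} (b : Bool) (h : b = true ↔ P) : Decidable P :=
  Bool.rec (motive := fun c => b = c → Decidable P) (fun e => isFalse fun hp => Bool.noConfusion (e.symm.trans (h.2 hp)))
    (fun e => isTrue (h.1 e)) b rfl

private theorem dn_fun : instDecidableEqNat = fun a b => dOf (Nat.beq a b) Nat.beq_eq.to_iff := by
  funext a b; exact Subsingleton.elim _ _

private noncomputable def ibq (a b : ℤ) : Bool :=
  Int.rec (fun m => Int.rec (fun n => Nat.beq m n) (fun _ => false) b) (fun m => Int.rec (fun _ => false) (fun n => Nat.beq m n) b) a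

private theorem ibq_iff (a b : ℤ) : ibq a b = true ↔ a = b := by
  rcases a with m | m <;> rcases b with n | n
  · exact Nat.beq_eq.to_iff.trans ⟨fun h => h ▸ rfl, Int.ofNat.inj⟩
  · exact ⟨fun h => Bool.noConfusion h, fun h => nomatch h⟩
  · exact ⟨fun h => Bool.noConfusion h, fun h => nomatch h⟩
  · exact Nat.beq_eq.to_iff.trans ⟨fun h => h ▸ rfl, Int.negSucc.inj⟩

private theorem dz_fun : Int.instDecidableEq = fun a b => dOf (ibq a b) (ibq_iff a b) := by
  funext a b; exact Subsingleton.elim _ _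

private noncomputable def ile (a b : ℤ) : Bool :=
  Int.rec (fun m => Int.rec (fun n => Nat.ble m n) (fun _ => false) b) (fun m => Int.rec (fun _ => true) (fun n => Nat.ble n m) b) a

private theorem ile_iff (a b : ℤ) : ile a b = true ↔ a ≤ b := by
  rcases a with m | m <;> rcases b with n | n
  · exact Nat.ble_eq.to_iff.trans Int.ofNat_le.symm
  · exact ⟨fun h => Bool.noConfusion h, fun h => absurd (Int.le_trans (Int.natCast_nonneg m) h) (Int.negSucc_not_nonneg n).mp⟩
  · exact ⟨fun _ => Int.le_of_lt (Int.lt_of_lt_of_le (Int.negSucc_lt_zero m) (Int.natCast_nonneg n)), fun _ => rfl⟩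
  · refine Nat.ble_eq.to_iff.trans ?_
    rw [Int.negSucc_eq, Int.negSucc_eq]; omega

private theorem ie_fun : Int.decLe = fun a b => dOf (ile a b) (ile_iff a b) := by
  funext a b; exact Subsingleton.elim _ _

end Cfsg.Agent.H90F

-- part: H525/E8L/Ops
section
/-!
# The operators `D_m` for representations of `SL(2, 81)` in characteristic 3 (helper525, S5921)

`ρ (u t) = 1 + ∑_{m = 1}^{80} t ^ m D_m`, `D_m = -∑ t ^ (80 - m) ρ (u t)`.
-/

set_option autoImplicit false
set_option linter.unusedSectionVars false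

namespace Cfsg.Agent.H525.E8L

open Matrix Cfsg.Agent.H943.SL2Rel Cfsg.Agent.H943.SL2Mod Cfsg.Agent.H943.RepAdd

variable {k : Type*} [Field k] {F : Type*} [Field F] [Fintype F] [DecidableEq F] (ι : F →+* k)

section Sums

variable [CharP k 3] [CharP F 3] (hF : Fintype.card F = 81)

include hF

/-- the power sums -/
theorem psum {e : ℕ} (he : e < 160) : ∑ t : F, ι t ^ e = if e = 80 then -1 else 0 := by
  classical
  have : Fact (Nat.Prime 3) := ⟨Nat.prime_three⟩
  have h81 : Fintype.card F - 1 = 80 := by rw [hF]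
  split_ifs with h
  · have := power_sum_eq ι (k := k) (F := F)
    rw [h81] at this
    rw [h]
    exact this
  · by_contra hne
    have h1 : e = 80 ∨ e = 160 := by
      have := power_sum_ne ι (e := e) (by rw [h81]; omega) hne
      rw [h81] at this
      omega
    omega

theorem pow80 {t : F} (ht : t ≠ 0) : ι t ^ 80 = 1 := by
  have h81 : Fintype.card F - 1 = 80 := by rw [hF]
  rw [← map_pow, ← h81, FiniteField.pow_card_sub_one_eq_one t ht, map_one]

theorem pow81 (t : F) : ι t ^ 81 = ι t := by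
  rw [← map_pow, ← hF, FiniteField.pow_card]

/-- the kernel of the interpolation -/
theorem gsum {t s : F} (ht : t ≠ 0) : ∑ m ∈ Finset.Icc 1 80, ι t ^ m * ι s ^ (80 - m) =
    (if s = 0 then 1 else 0) - (if s = t then 1 else 0) := by
  have h0 : ∑ m ∈ Finset.range 81, ι t ^ m * ι s ^ (81 - 1 - m) =
      ι s ^ 80 + ∑ m ∈ Finset.Icc 1 80, ι t ^ m * ι s ^ (80 - m) := by
    rw [Finset.range_eq_Ico, Finset.sum_eq_sum_Ico_succ_bot (by norm_num)]
    rw [pow_zero, one_mul]
    congr 1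
  by_cases hst : s = t
  · subst hst
    rw [if_neg ht, if_pos rfl]
    have h1 : ∀ m ∈ Finset.Icc 1 80, ι s ^ m * ι s ^ (80 - m) = 1 := by
      intro m hm
      rw [Finset.mem_Icc] at hm
      rw [← pow_add, show m + (80 - m) = 80 by omega, pow80 ι hF ht]
    rw [Finset.sum_congr rfl h1, Finset.sum_const, Nat.card_Icc, nsmul_eq_mul, mul_one]
    have h3 : ((3 : ℕ) : k) = 0 := CharP.cast_eq_zero k 3
    have h4 : ((80 + 1 - 1 : ℕ) : k) = (27 : k) * ((3 : ℕ) : k) - 1 := by norm_num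
    rw [h4, h3]
    ring
  · rw [if_neg hst, sub_zero]
    have h1 := geom_sum₂_mul (ι t) (ι s) 81
    rw [h0, pow81 ι hF, pow81 ι hF] at h1
    have h2 : ι t - ι s ≠ 0 := sub_ne_zero.2 fun h => hst (ι.injective h).symm
    have h3 : ι s ^ 80 + ∑ m ∈ Finset.Icc 1 80, ι t ^ m * ι s ^ (80 - m) = 1 :=
      mul_right_cancel₀ h2 (by rw [h1, one_mul])
    by_cases hs : s = 0
    · rw [if_pos hs]
      rw [hs, map_zero, zero_pow (by norm_num), zero_add] at h3
      rw [hs, map_zero]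
      exact h3
    · rw [if_neg hs]
      rw [pow80 ι hF hs] at h3
      linear_combination h3

end Sums

variable {V : Type*} [AddCommGroup V] [Module k V] (ρ : Representation k (_root_.Matrix.SpecialLinearGroup (Fin 2) F) V)

/-- the coefficient of `t ^ m` in `ρ (u t)`, for `1 ≤ m ≤ 80` -/
def Dm (m : ℕ) : V →ₗ[k] V := -∑ t : F, ι t ^ (80 - m) • ρ (u t)

theorem Dm_apply (m : ℕ) (x : V) : Dm ι ρ m x = -∑ t : F, ι t ^ (80 - m) • ρ (u t) x := by
  simp only [Dm, LinearMap.sum_apply, _root_.Cfsg.Agent.H525.E8L.Dm, _root_.LinearMap.neg_apply, _root_.LinearMap.sum_apply, _root_.LinearMap.smul_apply]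

section

variable [CharP k 3] [CharP F 3] (hF : Fintype.card F = 81)

include hF

/-- **interpolation** -/
theorem u_eq (t : F) (x : V) : ρ (u t) x = x + ∑ m ∈ Finset.Icc 1 80, ι t ^ m • Dm ι ρ m x := by
  by_cases ht : t = 0
  · subst ht
    rw [u_zero, map_one, Module.End.one_apply, Finset.sum_eq_zero, add_zero]
    intro m hm
    rw [Finset.mem_Icc] at hm
    rw [map_zero, zero_pow (by omega), zero_smul]
  · have h1 : ∑ m ∈ Finset.Icc 1 80, ι t ^ m • Dm ι ρ m x =
        -∑ s : F, (∑ m ∈ Finset.Icc 1 80, ι t ^ m * ι s ^ (80 - m)) • ρ (u s) x := by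
      have h2 : ∀ m ∈ Finset.Icc 1 80, ι t ^ m • Dm ι ρ m x =
          -∑ s : F, (ι t ^ m * ι s ^ (80 - m)) • ρ (u s) x := by
        intro m _
        rw [Dm_apply, smul_neg, Finset.smul_sum]
        congr 1
        exact Finset.sum_congr rfl fun s _ => smul_smul _ _ _
      rw [Finset.sum_congr rfl h2, Finset.sum_neg_distrib, Finset.sum_comm]
      congr 1
      exact Finset.sum_congr rfl fun s _ => (Finset.sum_smul).symm
    rw [h1, Finset.sum_congr rfl fun s _ => by rw [gsum ι hF ht]]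
    simp only [sub_smul, Finset.sum_sub_distrib, ite_smul, one_smul, zero_smul, Finset.sum_ite_eq', Finset.mem_univ,
      if_true]
    rw [u_zero, map_one, Module.End.one_apply]
    abel

/-- the products -/
theorem Dm_mul {m n : ℕ} (hm : 1 ≤ m) (hn : 1 ≤ n) (hn' : n ≤ 80) (hm' : m ≤ 80) (x : V) :
    Dm ι ρ m (Dm ι ρ n x) = ((-1) ^ m * ((80 - n).choose m : k)) • Dm ι ρ (m + n) x := by
  rw [Dm_apply, Dm_apply]
  have h1 : ∀ s : F, ι s ^ (80 - m) • ρ (u s) (-∑ t : F, ι t ^ (80 - n) • ρ (u t) x) =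
      -∑ r : F, (ι s ^ (80 - m) * (ι r - ι s) ^ (80 - n)) • ρ (u r) x := by
    intro s
    rw [map_neg, smul_neg, map_sum, Finset.smul_sum]
    congr 1
    refine Fintype.sum_equiv (Equiv.addLeft s) _ _ fun t => ?_
    rw [map_smul, smul_smul, apply_mul, ← u_add]
    show _ = (ι s ^ (80 - m) * (ι (s + t) - ι s) ^ (80 - n)) • ρ (u (s + t)) x
    rw [map_add, add_sub_cancel_left]
  have h2 : ∀ r : F, ∑ s : F, ι s ^ (80 - m) * (ι r - ι s) ^ (80 - n) =
      -((-1) ^ m * ((80 - n).choose m : k)) * ι r ^ (80 - (m + n)) := by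
    intro r
    have h3 : ∀ s : F, ι s ^ (80 - m) * (ι r - ι s) ^ (80 - n) =
        ∑ j ∈ Finset.range (80 - n + 1), ((-1) ^ j * ι r ^ (80 - n - j) * ((80 - n).choose j : k)) *
          ι s ^ (80 - m + j) := by
      intro s
      rw [sub_eq_neg_add, add_pow, Finset.mul_sum]
      refine Finset.sum_congr rfl fun j _ => ?_
      rw [neg_pow, pow_add]
      ring
    rw [Finset.sum_congr rfl fun s _ => h3 s, Finset.sum_comm]
    have h4 : ∀ j ∈ Finset.range (80 - n + 1), ∑ s : F, ((-1) ^ j * ι r ^ (80 - n - j) * ((80 - n).choose j : k)) *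
          ι s ^ (80 - m + j) = if j = m then -((-1) ^ m * ι r ^ (80 - n - m) * ((80 - n).choose m : k)) else 0 := by
      intro j hj
      rw [Finset.mem_range] at hj
      rw [← Finset.mul_sum, psum ι hF (by omega)]
      by_cases hjm : j = m
      · rw [if_pos hjm, if_pos (by omega), hjm]
        ring
      · rw [if_neg hjm, if_neg (by omega), mul_zero]
    rw [Finset.sum_congr rfl h4, Finset.sum_ite_eq' ]
    by_cases hmn : m ∈ Finset.range (80 - n + 1)
    · rw [if_pos hmn, show 80 - n - m = 80 - (m + n) by omega]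
      ring
    · rw [if_neg hmn, Nat.choose_eq_zero_of_lt (by rw [Finset.mem_range] at hmn; omega)]
      simp only [_root_.Nat.cast_zero, _root_.MulZeroClass.mul_zero, _root_.neg_zero, _root_.MulZeroClass.zero_mul]
  rw [Finset.sum_congr rfl fun s _ => h1 s, Finset.sum_neg_distrib, neg_neg, Finset.sum_comm, Dm_apply, smul_neg,
    Finset.smul_sum, ← Finset.sum_neg_distrib]
  refine Finset.sum_congr rfl fun r _ => ?_
  rw [← Finset.sum_smul, h2, smul_smul, neg_mul, neg_smul]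

/-- the torus -/
theorem h_Dm {m : ℕ} (hm : m ≤ 80) (a : Fˣ) (x : V) :
    ρ (h a) (Dm ι ρ m x) = ι a ^ (2 * m) • Dm ι ρ m (ρ (h a) x) := by
  rw [Dm_apply, Dm_apply, map_neg, map_sum, smul_neg, Finset.smul_sum]
  congr 1
  have ha : (a : F) ^ 2 ≠ 0 := pow_ne_zero _ a.ne_zero
  refine Fintype.sum_equiv (Equiv.mulLeft₀ ((a : F) ^ 2) ha) _ _ fun t => ?_
  rw [map_smul, apply_mul, h_u, map_mul]
  show ι t ^ (80 - m) • ρ (u ((a : F) ^ 2 * t)) (ρ (h a) x) =
    ι a ^ (2 * m) • (ι ((a : F) ^ 2 * t) ^ (80 - m) • ρ (u ((a : F) ^ 2 * t)) (ρ (h a) x))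
  rw [smul_smul]
  congr 1
  rw [map_mul, mul_pow, map_pow, ← pow_mul, ← mul_assoc, ← pow_add, show 2 * m + 2 * (80 - m) = 80 * 2 by omega, pow_mul,
    pow80 ι hF a.ne_zero, one_pow, one_mul]

/-- an invariant subspace with trivial quotient contains the images of the `D_m` -/
theorem Dm_mem {W : Submodule k V} (hW : ∀ g x, ρ g x - x ∈ W) {m : ℕ} (hm : 1 ≤ m) (x : V) :
    Dm ι ρ m x ∈ W := by
  rw [Dm_apply, neg_mem_iff]
  have h1 : ∑ t : F, ι t ^ (80 - m) • x = 0 := by
    rw [← Finset.sum_smul, psum ι hF (by omega), if_neg (by omega), zero_smul]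
  have h2 : ∑ t : F, ι t ^ (80 - m) • ρ (u t) x = ∑ t : F, ι t ^ (80 - m) • (ρ (u t) x - x) := by
    simp only [smul_sub, Finset.sum_sub_distrib]
    rw [h1, sub_zero]
  rw [h2]
  exact sum_mem fun t _ => W.smul_mem _ (hW _ _)

end

/-- the action on the monomials -/
theorem Dm_mon [CharP k 3] [CharP F 3] (hF : Fintype.card F = 81) {b n m : ℕ} (hb : b ≤ 80) (hn : n ≤ b) (hm : 1 ≤ m)
    (hm' : m ≤ 80) :
    Dm ι (fRep k F) m (mon ι b n) = ((b - n).choose m : k) • mon ι b (n + m) := by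
  have h0 : ∀ t : F, fRep k F (u t) (mon ι b n) =
      ∑ j ∈ Finset.range (b - n + 1), (((b - n).choose j : k) * ι t ^ j) • mon ι b (n + j) := by
    intro t
    funext z
    rcases z with ⟨x, y⟩
    rw [fRep_u, Finset.sum_apply]
    show ι x ^ n * ι (x * t + y) ^ (b - n) = _
    rw [map_add, map_mul, add_pow, Finset.mul_sum]
    refine Finset.sum_congr rfl fun j hj => ?_
    show _ = (((b - n).choose j : k) * ι t ^ j) * (ι x ^ (n + j) * ι y ^ (b - (n + j)))
    rw [show b - (n + j) = b - n - j by omega, mul_pow, pow_add]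
    ring
  rw [Dm_apply, Finset.sum_congr rfl fun t _ => by rw [h0 t, Finset.smul_sum], Finset.sum_comm, ← Finset.sum_neg_distrib]
  have h1 : ∀ j ∈ Finset.range (b - n + 1), -∑ t : F, ι t ^ (80 - m) • (((b - n).choose j : k) * ι t ^ j) • mon ι b (n + j) =
      if j = m then ((b - n).choose m : k) • mon ι b (n + m) else 0 := by
    intro j hj
    rw [Finset.mem_range] at hj
    have h2 : ∀ t : F, ι t ^ (80 - m) • (((b - n).choose j : k) * ι t ^ j) • mon ι b (n + j) =
        (ι t ^ (80 - m + j) * ((b - n).choose j : k)) • mon ι b (n + j) := by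
      intro t
      rw [smul_smul, pow_add]
      congr 1
      ring
    rw [Finset.sum_congr rfl fun t _ => h2 t, ← Finset.sum_smul, ← Finset.sum_mul, psum ι hF (by omega)]
    by_cases hjm : j = m
    · rw [if_pos hjm, if_pos (by omega), hjm, neg_one_mul, neg_smul, neg_neg]
    · rw [if_neg hjm, if_neg (by omega), zero_mul, zero_smul, neg_zero]
  rw [Finset.sum_congr rfl h1, Finset.sum_ite_eq']
  by_cases hmn : m ∈ Finset.range (b - n + 1)
  · rw [if_pos hmn]
  · rw [if_neg hmn, Nat.choose_eq_zero_of_lt (by rw [Finset.mem_range] at hmn; omega), Nat.cast_zero, zero_smul]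

end Cfsg.Agent.H525.E8L
end

-- part: H940/E8L/Pressure
section
/-!
# Pressure lemmas (helper940, for S5921, interface of helper525)

`psi` : an additive integer function on the finite-dimensional representations of a perfect group `G` over `k`.

* `pressure_one` : `M ^ G = 0 → psi M ≤ 0`;
* `pressure_two` : `M ^ G = 0`, `M` self-dual for `psi`, `M` has a trivial composition factor `→ psi M ≤ -D'`.
-/

set_option autoImplicit false

open scoped commutatorElement

namespace Cfsg.Agent.H940.E8L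

open Cfsg.Agent.H943.RepAdd

universe u v w

/-- invariant subspace -/
abbrev Inv {k : Type u} [Field k] {G : Type v} [Group G] {V : Type w} [AddCommGroup V] [Module k V]
    (ρ : Representation k G V) (W : Submodule k V) : Prop := ∀ g, ∀ x ∈ W, ρ g x ∈ W

/-- no nonzero fixed vectors -/
def NoFix {k : Type u} [Field k] {G : Type v} [Group G] {V : Type w} [AddCommGroup V] [Module k V]
    (ρ : Representation k G V) : Prop := ∀ x : V, (∀ g, ρ g x = x) → x = 0

/-- an additive integer function on the finite-dimensional representations -/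
structure AddFun (k : Type u) [Field k] (G : Type v) [Group G] where
  psi : ∀ {V : Type w} [AddCommGroup V] [Module k V], Representation k G V → ℤ
  add : ∀ {V : Type w} [AddCommGroup V] [Module k V] [FiniteDimensional k V] (ρ : Representation k G V)
    (W : Submodule k V) (hW : Inv ρ W), psi ρ = psi (subRep ρ W hW) + psi (quotRep ρ W hW)
  iso : ∀ {V₁ V₂ : Type w} [AddCommGroup V₁] [Module k V₁] [AddCommGroup V₂] [Module k V₂]
    [FiniteDimensional k V₁] [FiniteDimensional k V₂]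
    (ρ₁ : Representation k G V₁) (ρ₂ : Representation k G V₂) (φ : V₁ ≃ₗ[k] V₂), (∀ g x, φ (ρ₁ g x) = ρ₂ g (φ x)) →
    psi ρ₁ = psi ρ₂

variable {k : Type u} [Field k] {G : Type v} [Group G]

/-- `W` is an irreducible invariant subspace -/
def IrrIn {V : Type w} [AddCommGroup V] [Module k V] (ρ : Representation k G V) (W : Submodule k V) : Prop :=
  W ≠ ⊥ ∧ ∀ W' ≤ W, Inv ρ W' → W' = ⊥ ∨ W' = W

/-- `ρ` is trivial modulo `W` -/
def TrivMod {V : Type w} [AddCommGroup V] [Module k V] (ρ : Representation k G V) (W : Submodule k V) : Prop :=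
  ∀ g x, ρ g x - x ∈ W

section basic

variable {V : Type w} [AddCommGroup V] [Module k V] (ρ : Representation k G V)

/-- the vectors fixed modulo `W` -/
def fixMod (W : Submodule k V) : Submodule k V where
  carrier := {x | ∀ g, ρ g x - x ∈ W}
  add_mem' {a b} ha hb g := by
    rw [map_add, add_sub_add_comm]
    exact W.add_mem (ha g) (hb g)
  zero_mem' g := by
    rw [map_zero, sub_zero]
    exact W.zero_mem
  smul_mem' c x hx g := by
    rw [map_smul, ← smul_sub]
    exact W.smul_mem c (hx g)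

theorem le_fixMod {W : Submodule k V} (hW : Inv ρ W) : W ≤ fixMod ρ W := fun x hx g => W.sub_mem (hW g x hx) hx

theorem inv_of_between {W E : Submodule k V} (hWE : W ≤ E) (hE : E ≤ fixMod ρ W) : Inv ρ E := by
  intro g x hx
  have h1 := hE hx g
  have h2 : ρ g x = (ρ g x - x) + x := by abel
  rw [h2]
  exact E.add_mem (hWE h1) hx

/-- for a perfect group, fixed modulo `fixMod W` implies fixed modulo `W` -/
theorem fixMod_fixMod (hG : commutator G = ⊤) {W : Submodule k V} (hW : Inv ρ W) :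
    fixMod ρ (fixMod ρ W) = fixMod ρ W := by
  apply le_antisymm
  · intro x hx
    -- the additive homomorphism
    let c : G →* Multiplicative (V ⧸ W) :=
      { toFun := fun g => Multiplicative.ofAdd (W.mkQ (ρ g x - x))
        map_one' := by
          rw [map_one, Module.End.one_apply, sub_self, map_zero]
          rfl
        map_mul' := fun g h => by
          have h1 : ρ (g * h) x - x = (ρ g x - x) + (ρ h x - x) + (ρ g (ρ h x - x) - (ρ h x - x)) := by
            rw [map_mul, Module.End.mul_apply, map_sub]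
            abel
          have h2 : W.mkQ (ρ g (ρ h x - x) - (ρ h x - x)) = 0 := by
            rw [Submodule.mkQ_apply, Submodule.Quotient.mk_eq_zero]
            exact hx h g
          have h3 : W.mkQ (ρ (g * h) x - x) = W.mkQ (ρ g x - x) + W.mkQ (ρ h x - x) := by
            rw [h1, map_add, map_add, h2, add_zero]
          rw [h3]
          rfl }
    have hker : commutator G ≤ c.ker := by
      rw [commutator_eq_closure, Subgroup.closure_le]
      rintro _ ⟨a, b, rfl⟩
      show c ⁅a, b⁆ = 1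
      rw [map_commutatorElement, commutatorElement_eq_one_iff_mul_comm, mul_comm]
    rw [hG] at hker
    intro g
    have h1 : c g = 1 := hker (Subgroup.mem_top g)
    have h2 : W.mkQ (ρ g x - x) = 0 := h1
    rwa [Submodule.mkQ_apply, Submodule.Quotient.mk_eq_zero] at h2
  · exact le_fixMod ρ (inv_of_between ρ (le_fixMod ρ hW) le_rfl)

theorem noFix_quot {W : Submodule k V} (hW : Inv ρ W) (h : fixMod ρ W ≤ W) : NoFix (quotRep ρ W hW) := by
  intro y hy
  obtain ⟨x, rfl⟩ := W.mkQ_surjective y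
  rw [Submodule.mkQ_apply, Submodule.Quotient.mk_eq_zero]
  apply h
  intro g
  have h1 := hy g
  rw [quotRep_mk, ← sub_eq_zero, ← map_sub, Submodule.mkQ_apply, Submodule.Quotient.mk_eq_zero] at h1
  exact h1

theorem noFix_sub {W : Submodule k V} (hW : Inv ρ W) (h : NoFix ρ) : NoFix (subRep ρ W hW) := by
  intro x hx
  apply Subtype.ext
  exact h x fun g => congrArg Subtype.val (hx g)

end basic

section pressure

variable (A : AddFun.{u, v, w} k G) (D : ℤ)

/-- **(1)** -/
theorem pressure_one (hG : commutator G = ⊤)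
    (hT : ∀ {V : Type w} [AddCommGroup V] [Module k V] [FiniteDimensional k V] (ρ : Representation k G V),
      (∀ g x, ρ g x = x) → A.psi ρ ≤ D * Module.finrank k V)
    (hE : ∀ {E : Type w} [AddCommGroup E] [Module k E] [FiniteDimensional k E] (ρ : Representation k G E)
      (W : Submodule k E) (hW : Inv ρ W), IrrIn ρ W → TrivMod ρ W → NoFix ρ →
      A.psi (subRep ρ W hW) + D * Module.finrank k (E ⧸ W) ≤ 0)
    (n : ℕ) : ∀ {V : Type w} [AddCommGroup V] [Module k V] [FiniteDimensional k V] (ρ : Representation k G V),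
      Module.finrank k V = n → NoFix ρ → A.psi ρ ≤ 0 := by
  induction n using Nat.strong_induction_on with
  | _ n ih =>
  intro V _ _ _ ρ hn hfix
  by_cases hV : Nontrivial V
  swap
  · rw [not_nontrivial_iff_subsingleton] at hV
    have h1 := hT ρ fun g x => Subsingleton.elim _ _
    rwa [Module.finrank_zero_of_subsingleton, Nat.cast_zero, mul_zero] at h1
  obtain ⟨W, hW, hW0, hWmin⟩ := exists_irr_sub ρ
  have hEi : Inv ρ (fixMod ρ W) := inv_of_between ρ (le_fixMod ρ hW) le_rfl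
  have hWE := le_fixMod ρ hW
  -- the section `E = fixMod W`
  set E := fixMod ρ W with hEdef
  let W' : Submodule k E := W.comap E.subtype
  have hW' : Inv (subRep ρ E hEi) W' := fun g x hx => hW g x hx
  have hirr : IrrIn (subRep ρ E hEi) W' := by
    refine ⟨fun h => hW0 ?_, fun X hX hXi => ?_⟩
    · rw [eq_bot_iff]
      intro x hx
      have h1 : (⟨x, hWE hx⟩ : E) ∈ W' := hx
      rw [h, Submodule.mem_bot] at h1
      exact congrArg Subtype.val h1
    · have hmap : X.map E.subtype ≤ W := by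
        rintro _ ⟨y, hy, rfl⟩
        exact hX hy
      rcases hWmin (X.map E.subtype) hmap (by
        rintro g _ ⟨y, hy, rfl⟩
        exact ⟨_, hXi g y hy, rfl⟩) with h | h
      · left
        rw [eq_bot_iff]
        intro x hx
        have h1 : (x : V) ∈ X.map E.subtype := ⟨x, hx, rfl⟩
        rw [h, Submodule.mem_bot] at h1
        exact (Submodule.mem_bot k).2 (Subtype.ext h1)
      · right
        apply le_antisymm hX
        intro x hx
        have h1 : (x : V) ∈ X.map E.subtype := by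
          rw [h]; exact hx
        obtain ⟨y, hy, hyx⟩ := h1
        rwa [← Subtype.ext (a1 := y) (a2 := x) hyx]
  have htr : TrivMod (subRep ρ E hEi) W' := fun g x => x.2 g
  have h1 := hE (subRep ρ E hEi) W' hW' hirr htr (noFix_sub ρ hEi hfix)
  have h2 := hT (quotRep (subRep ρ E hEi) W' hW') (by
    intro g y
    obtain ⟨x, rfl⟩ := W'.mkQ_surjective y
    rw [quotRep_mk, ← sub_eq_zero, ← map_sub, Submodule.mkQ_apply, Submodule.Quotient.mk_eq_zero]
    exact htr g x)
  have h3 := A.add (subRep ρ E hEi) W' hW'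
  have h4 := A.add ρ E hEi
  have hE0 : E ≠ ⊥ := fun h => hW0 (eq_bot_iff.2 (h ▸ hWE))
  have h5 : Module.finrank k (V ⧸ E) < n := by
    have h6 := Submodule.finrank_quotient_add_finrank E
    have h7 : Module.finrank k E ≠ 0 := fun h => hE0 (Submodule.finrank_eq_zero.1 h)
    omega
  have h8 := ih _ h5 (quotRep ρ E hEi) rfl (noFix_quot ρ hEi (fixMod_fixMod ρ hG hW).le)
  linarith only [hEi, hW', h1, h2, h3, h4, h8]

/-- a surjective equivariant map with kernel `W` -/
theorem psi_quot_of_surj {V₁ V₂ : Type w} [AddCommGroup V₁] [Module k V₁] [AddCommGroup V₂] [Module k V₂]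
    [FiniteDimensional k V₁] [FiniteDimensional k V₂] (ρ₁ : Representation k G V₁) (ρ₂ : Representation k G V₂)
    (f : V₁ →ₗ[k] V₂) (hf : Function.Surjective f) (h : ∀ g x, f (ρ₁ g x) = ρ₂ g (f x)) (W : Submodule k V₁)
    (hW : Inv ρ₁ W) (hker : ∀ x, x ∈ W ↔ f x = 0) : A.psi (quotRep ρ₁ W hW) = A.psi ρ₂ := by
  have hle : W ≤ LinearMap.ker f := fun x hx => (hker x).1 hx
  refine A.iso _ _ (LinearEquiv.ofBijective (W.liftQ f hle) ⟨?_, ?_⟩) ?_
  · rw [injective_iff_map_eq_zero]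
    intro y hy
    obtain ⟨x, rfl⟩ := W.mkQ_surjective y
    rw [Submodule.mkQ_apply, Submodule.Quotient.mk_eq_zero]
    exact (hker x).2 hy
  · intro y
    obtain ⟨x, rfl⟩ := hf y
    exact ⟨W.mkQ x, rfl⟩
  · intro g y
    obtain ⟨x, rfl⟩ := W.mkQ_surjective y
    exact h g x

theorem mem_map_mkQ {V : Type w} [AddCommGroup V] [Module k V] {N W : Submodule k V} (hNW : N ≤ W) {x : V} :
    N.mkQ x ∈ W.map N.mkQ ↔ x ∈ W := by
  constructor
  · rintro ⟨y, hy, hyx⟩
    have h1 : N.mkQ (y - x) = 0 := by rw [map_sub, hyx, sub_self]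
    rw [Submodule.mkQ_apply, Submodule.Quotient.mk_eq_zero] at h1
    have h2 : x = y - (y - x) := by abel
    rw [h2]
    exact W.sub_mem hy (hNW h1)
  · exact fun hx => ⟨x, hx, rfl⟩

/-- **(2)** -/
theorem pressure_two (hG : commutator G = ⊤)
    (hT : ∀ {V : Type w} [AddCommGroup V] [Module k V] [FiniteDimensional k V] (ρ : Representation k G V),
      (∀ g x, ρ g x = x) → A.psi ρ ≤ D * Module.finrank k V)
    (hE : ∀ {E : Type w} [AddCommGroup E] [Module k E] [FiniteDimensional k E] (ρ : Representation k G E)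
      (W : Submodule k E) (hW : Inv ρ W), IrrIn ρ W → TrivMod ρ W → NoFix ρ →
      A.psi (subRep ρ W hW) + D * Module.finrank k (E ⧸ W) ≤ 0) (D' : ℤ)
    (hE' : ∀ {E : Type w} [AddCommGroup E] [Module k E] [FiniteDimensional k E] (ρ : Representation k G E)
      (W : Submodule k E) (hW : Inv ρ W), IrrIn ρ W → TrivMod ρ W → NoFix ρ → W ≠ ⊤ → A.psi (subRep ρ W hW) ≤ -D')
    {V : Type w} [AddCommGroup V] [Module k V] [FiniteDimensional k V] (ρ : Representation k G V) (hfix : NoFix ρ)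
    (hdual : ∀ (N : Submodule k V) (hN : Inv ρ N), ∃ (N' : Submodule k V) (hN' : Inv ρ N'),
      A.psi (quotRep ρ N' hN') = A.psi (subRep ρ N hN))
    (htriv : ∃ N : Submodule k V, Inv ρ N ∧ ∃ x : V, x ∉ N ∧ ∀ g, ρ g x - x ∈ N) : A.psi ρ ≤ -D' := by
  have hone := @pressure_one k _ G _ A D hG @hT @hE
  -- the minimal `N₁`
  obtain ⟨N₁, ⟨hN₁, x, hxN, hx⟩, hmin⟩ := (wellFounded_lt (α := Submodule k V)).has_min
    {N : Submodule k V | Inv ρ N ∧ ∃ x : V, x ∉ N ∧ ∀ g, ρ g x - x ∈ N} htriv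
  have hN₁0 : N₁ ≠ ⊥ := by
    rintro rfl
    apply hxN
    rw [Submodule.mem_bot]
    exact hfix x fun g => by
      have h1 := hx g
      rwa [Submodule.mem_bot, sub_eq_zero] at h1
  -- a maximal invariant subspace of `N₁`
  obtain ⟨N₀, ⟨hN₀, hlt⟩, hmax⟩ := (wellFounded_gt (α := Submodule k V)).has_min
    {N : Submodule k V | Inv ρ N ∧ N < N₁} ⟨⊥, by
      intro g y hy
      rw [Submodule.mem_bot] at hy ⊢
      rw [hy, map_zero], bot_lt_iff_ne_bot.2 hN₁0⟩
  have hle : N₀ ≤ N₁ := hlt.le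
  have hfm : fixMod ρ N₀ ≤ N₀ := by
    intro y hy
    by_contra hyN
    exact hmin N₀ ⟨hN₀, y, hyN, hy⟩ hlt
  have hnf : NoFix (quotRep ρ N₀ hN₀) := noFix_quot ρ hN₀ hfm
  set ρ₀ := quotRep ρ N₀ hN₀ with hρ₀
  let W₀ : Submodule k (V ⧸ N₀) := N₁.map N₀.mkQ
  have hW₀ : Inv ρ₀ W₀ := by
    rintro g _ ⟨y, hy, rfl⟩
    exact ⟨ρ g y, hN₁ g y hy, rfl⟩
  have hEi : Inv ρ₀ (fixMod ρ₀ W₀) := inv_of_between ρ₀ (le_fixMod ρ₀ hW₀) le_rfl
  have hWE : W₀ ≤ fixMod ρ₀ W₀ := le_fixMod ρ₀ hW₀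
  set E := fixMod ρ₀ W₀ with hEdef
  let W : Submodule k E := W₀.comap E.subtype
  have hW : Inv (subRep ρ₀ E hEi) W := fun g y hy => hW₀ g y hy
  have hirr : IrrIn (subRep ρ₀ E hEi) W := by
    refine ⟨fun h => ?_, fun X hX hXi => ?_⟩
    · obtain ⟨y, hy, hyN⟩ := SetLike.exists_of_lt hlt
      have h1 : N₀.mkQ y ∈ W₀ := ⟨y, hy, rfl⟩
      have h2 : (⟨N₀.mkQ y, hWE h1⟩ : E) ∈ W := h1
      rw [h, Submodule.mem_bot] at h2
      have h3 := congrArg Subtype.val h2
      exact hyN ((Submodule.Quotient.mk_eq_zero N₀).1 h3)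
    · -- the preimage of `X` in `V`
      let Y : Submodule k V := (X.map E.subtype).comap N₀.mkQ
      have hYi : Inv ρ Y := by
        rintro g y ⟨z, hz, hzy⟩
        refine ⟨_, hXi g z hz, ?_⟩
        show ρ₀ g (z : V ⧸ N₀) = N₀.mkQ (ρ g y)
        have h1 : (z : V ⧸ N₀) = N₀.mkQ y := hzy
        rw [h1]
        rfl
      have hYle : Y ≤ N₁ := by
        rintro y ⟨z, hz, hzy⟩
        have h1 : (z : V ⧸ N₀) ∈ W₀ := hX hz
        have h2 : (z : V ⧸ N₀) = N₀.mkQ y := hzy
        rw [h2] at h1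
        exact (mem_map_mkQ hle).1 h1
      have hN₀Y : N₀ ≤ Y := by
        intro y hy
        refine ⟨0, X.zero_mem, ?_⟩
        show (0 : V ⧸ N₀) = N₀.mkQ y
        exact ((Submodule.Quotient.mk_eq_zero N₀).2 hy).symm
      rcases hYle.lt_or_eq with h | h
      · left
        have h1 : Y = N₀ := by
          by_contra hne
          exact hmax Y ⟨hYi, h⟩ (lt_of_le_of_ne hN₀Y (Ne.symm hne))
        rw [eq_bot_iff]
        intro z hz
        obtain ⟨y, hy⟩ := N₀.mkQ_surjective (z : V ⧸ N₀)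
        have h2 : y ∈ Y := ⟨z, hz, hy.symm⟩
        rw [h1] at h2
        refine (Submodule.mem_bot k).2 (Subtype.ext ?_)
        rw [← hy]
        exact (Submodule.Quotient.mk_eq_zero N₀).2 h2
      · right
        apply le_antisymm hX
        intro z hz
        obtain ⟨y, hy, hyz⟩ := hz
        have h2 : y ∈ Y := h ▸ hy
        obtain ⟨z', hz', hzy'⟩ := h2
        have h3 : z' = z := Subtype.ext ((show (z' : V ⧸ N₀) = N₀.mkQ y from hzy').trans hyz)
        rwa [h3] at hz'
  have htr : TrivMod (subRep ρ₀ E hEi) W := fun g y => y.2 g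
  have hWtop : W ≠ ⊤ := by
    intro h
    have h1 : N₀.mkQ x ∈ E := by
      intro g
      have h2 : ρ₀ g (N₀.mkQ x) - N₀.mkQ x = N₀.mkQ (ρ g x - x) := by
        rw [map_sub]; rfl
      rw [h2]
      exact ⟨_, hx g, rfl⟩
    have h2 : (⟨N₀.mkQ x, h1⟩ : E) ∈ W := by rw [h]; trivial
    exact hxN ((mem_map_mkQ hle).1 h2)
  have h1 := hE' (subRep ρ₀ E hEi) W hW hirr htr (noFix_sub ρ₀ hEi hnf) hWtop
  -- `psi N₁`
  let N₀' : Submodule k N₁ := N₀.comap N₁.subtype
  have hN₀' : Inv (subRep ρ N₁ hN₁) N₀' := fun g y hy => hN₀ g y hy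
  have h2 := A.add (subRep ρ N₁ hN₁) N₀' hN₀'
  have h3 := hone _ (subRep (subRep ρ N₁ hN₁) N₀' hN₀') rfl (noFix_sub _ hN₀' (noFix_sub ρ hN₁ hfix))
  let f : N₁ →ₗ[k] W :=
    { toFun := fun y => ⟨⟨N₀.mkQ y, hWE ⟨y, y.2, rfl⟩⟩, ⟨y, y.2, rfl⟩⟩
      map_add' := fun a b => rfl
      map_smul' := fun c a => rfl }
  have h4 : A.psi (quotRep (subRep ρ N₁ hN₁) N₀' hN₀') = A.psi (V := W) ((subRep (subRep ρ₀ E hEi) W hW :)) := by
    refine psi_quot_of_surj A _ _ f ?_ (fun g y => rfl) N₀' hN₀' fun y => ?_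
    · intro z
      obtain ⟨y, hy, hyz⟩ : ((z : E) : V ⧸ N₀) ∈ W₀ := z.2
      exact ⟨⟨y, hy⟩, Subtype.ext (Subtype.ext hyz)⟩
    · constructor
      · intro hy
        apply Subtype.ext
        apply Subtype.ext
        exact (Submodule.Quotient.mk_eq_zero N₀).2 hy
      · intro hy
        have h5 := congrArg (fun w : W => ((w : E) : V ⧸ N₀)) hy
        exact (Submodule.Quotient.mk_eq_zero N₀).1 h5
  obtain ⟨N', hN', hd⟩ := hdual N₁ hN₁
  have h5 := A.add ρ N' hN'
  have h6 := hone _ (subRep ρ N' hN') rfl (noFix_sub ρ hN' hfix)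
  linarith only [h1, h2, h3, h4, hd, h5, h6]

end pressure

end Cfsg.Agent.H940.E8L
end

-- part: H525/E8L/Ext
section
/-!
# Extensions of the trivial module by the modules `V_b` of `SL(2, 81)` (helper525, S5921)

`ext_main` : `E / W` trivial, `W ≅ V_b`, `b` even: the obstruction for lifting the elements of `E / W` to fixed vectors is
a linear functional `z`, zero unless `b = 4, 12, 36, 28`.
-/

set_option autoImplicit false
set_option linter.unusedSectionVars false

namespace Cfsg.Agent.H525.E8L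

open Matrix Cfsg.Agent.H943.SL2Rel Cfsg.Agent.H943.SL2Mod Cfsg.Agent.H943.RepAdd

/-! ### binomial coefficients modulo 3 -/

/-- the digits of `m` are at most those of `n` -/
def lc (n m : ℕ) : Bool :=
  Nat.ble (m % 3) (n % 3) && (Nat.ble (m / 3 % 3) (n / 3 % 3) && (Nat.ble (m / 9 % 3) (n / 9 % 3) &&
    Nat.ble (m / 27 % 3) (n / 27 % 3)))

theorem small_choose : ∀ a < 3, ∀ b < 3, (¬ 3 ∣ Nat.choose a b) ↔ Nat.ble b a = true := by decide

theorem lc_iff {n m : ℕ} (hn : n < 81) (hm : m < 81) : (¬ 3 ∣ n.choose m) ↔ lc n m = true := by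
  have : Fact (Nat.Prime 3) := ⟨Nat.prime_three⟩
  have h1 := Choose.choose_modEq_prod_range_choose_nat (p := 3) (a := 4) (n := n) (k := m) (by norm_num; exact hn)
    (by norm_num; exact hm)
  rw [(h1.dvd_iff (dvd_refl 3))]
  rw [Finset.prod_range_succ, Finset.prod_range_succ, Finset.prod_range_succ, Finset.prod_range_one]
  rw [Nat.prime_three.dvd_mul, Nat.prime_three.dvd_mul, Nat.prime_three.dvd_mul]
  have key : ∀ i : ℕ, (¬ 3 ∣ (n / 3 ^ i % 3).choose (m / 3 ^ i % 3)) ↔ Nat.ble (m / 3 ^ i % 3) (n / 3 ^ i % 3) = true :=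
    fun i => small_choose _ (Nat.mod_lt _ (by norm_num)) _ (Nat.mod_lt _ (by norm_num))
  have k0 := key 0
  have k1 := key 1
  have k2 := key 2
  have k3 := key 3
  norm_num only [_root_.Nat.div_one, _root_.Nat.ble_eq] at k0 k1 k2 k3
  unfold lc
  norm_num only [_root_.Nat.div_one, _root_.not_or, _root_.Bool.and_eq_true, _root_.Nat.ble_eq]
  (clear * - k0 k1 k2 k3; itauto)

/-- the exceptional pairs -/
def isExc (b n : ℕ) : Bool :=
  (b == 4 && n == 2) || (b == 12 && n == 6) || (b == 36 && n == 18) || (b == 28 && n == 54)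

/-- the Boolean check -/
def extB : Bool :=
  (List.range 81).all fun b => (b % 2 != 0) || (List.range 81).all fun n =>
    (n == 0) || lc b n || (2 * n % 80 != b % 80) ||
      ((List.range n).any fun j => (j != 0) && !(lc b (n - j)) && lc (80 - j) (n - j)) || isExc b n

theorem extB_true : extB = true := by decide +kernel

theorem ext_check {b : ℕ} (hb : b < 81) (hb2 : b % 2 = 0) {n : ℕ} (hn : n < 81) (hn1 : 1 ≤ n) (hl : lc b n = false)
    (hm : 2 * n % 80 = b % 80) :
    (∃ j < n, 1 ≤ j ∧ lc b (n - j) = false ∧ lc (80 - j) (n - j) = true) ∨ isExc b n = true := by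
  have h1 := extB_true
  unfold extB at h1
  rw [List.all_eq_true] at h1
  have h2 := h1 b (List.mem_range.2 hb)
  rw [hb2, Bool.or_eq_true] at h2
  rcases h2 with h2 | h2
  · exact absurd h2 (by decide)
  rw [List.all_eq_true] at h2
  have h3 := h2 n (List.mem_range.2 hn)
  simp only [Bool.or_eq_true, beq_iff_eq, bne_iff_ne, hl, Bool.false_eq_true, or_false] at h3
  rcases h3 with ((h3 | h3) | h3) | h3
  · omega
  · exact absurd hm h3
  · left
    rw [List.any_eq_true] at h3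
    obtain ⟨j, hj, h4⟩ := h3
    simp only [Bool.and_eq_true, bne_iff_ne, Bool.not_eq_true'] at h4
    exact ⟨j, List.mem_range.1 hj, by omega, h4.1.2, h4.2⟩
  · exact Or.inr h3

variable {k : Type*} [Field k] [DecidableEq k] {F : Type*} [Field F] [Fintype F] [DecidableEq F] (ι : F →+* k)
  [CharP k 3] [CharP F 3]

theorem choose_cast {n m : ℕ} (hn : n < 81) (hm : m < 81) : ((n.choose m : ℕ) : k) ≠ 0 ↔ lc n m = true := by
  rw [Ne, CharP.cast_eq_zero_iff k 3, lc_iff hn hm]

theorem odd_of (hF : Fintype.card F = 81) : Odd (Fintype.card F) := by rw [hF]; decide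

/-- the coefficient of `mon b` -/
theorem eval_one {b : ℕ} {f : F × F → k} (hf : f ∈ Vb ι b) (a : F) : f (a, 0) = ι a ^ b * f (1, 0) := by
  obtain ⟨c, rfl⟩ := mem_span_mon ι (Vb_le ι b hf)
  rw [Finset.sum_apply, Finset.sum_apply, Finset.mul_sum]
  refine Finset.sum_congr rfl fun m hm => ?_
  rw [Finset.mem_range] at hm
  show c m * mon ι b m (a, 0) = ι a ^ b * (c m * mon ι b m (1, 0))
  unfold mon
  by_cases hmb : m = b
  · rw [hmb, Nat.sub_self, pow_zero, map_one, one_pow]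
    ring
  · rw [map_zero, zero_pow (show b - m ≠ 0 by omega)]
    ring

/-- the values of `D_n` at `(1, 0)` -/
theorem Dm_eval (hF : Fintype.card F = 81) {b : ℕ} (hb : b ≤ 80) (x : Bf k b → k) {n : ℕ} (hn : 1 ≤ n) (hn' : n ≤ 80) :
    Dm ι (fRep k F) n (∑ m : Bf k b, x m • mon ι b m) (1, 0) =
      if h : n ≤ b ∧ b - n ∈ Bf k b then x ⟨b - n, h.2⟩ else 0 := by
  rw [map_sum, Finset.sum_apply]
  have h1 : ∀ m : Bf k b, (Dm ι (fRep k F) n (x m • mon ι b m)) (1, 0) = if (m : ℕ) + n = b then x m else 0 := by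
    intro m
    have hm := (mem_Bf.1 m.2).1
    rw [map_smul, Dm_mon ι hF hb hm hn hn']
    show x m * (((b - (m : ℕ)).choose n : k) * mon ι b ((m : ℕ) + n) (1, 0)) = _
    by_cases h2 : (m : ℕ) + n = b
    · rw [if_pos h2, show b - (m : ℕ) = n by omega, Nat.choose_self, h2, mon_self, map_one, one_pow]
      ring
    · rw [if_neg h2]
      by_cases h3 : (m : ℕ) + n < b
      · unfold mon
        rw [map_zero, zero_pow (show b - ((m : ℕ) + n) ≠ 0 by omega)]
        ring
      · rw [Nat.choose_eq_zero_of_lt (show b - (m : ℕ) < n by omega)]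
        ring
  rw [Finset.sum_congr rfl fun m _ => h1 m]
  split_ifs with h
  · rw [Finset.sum_eq_single (⟨b - n, h.2⟩ : Bf k b)]
    · rw [if_pos (show b - n + n = b by omega)]
    · intro m _ hm
      rw [if_neg]
      intro h2
      exact hm (Subtype.ext (show (m : ℕ) = b - n by omega))
    · intro h2
      exact absurd (Finset.mem_univ _) h2
  · refine Finset.sum_eq_zero fun m _ => ?_
    rw [if_neg]
    intro h2
    apply h
    refine ⟨by omega, ?_⟩
    have : b - n = (m : ℕ) := by omega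
    rw [this]
    exact m.2

section Main

variable {E : Type*} [AddCommGroup E] [Module k E] [FiniteDimensional k E]
  (ρ : Representation k (_root_.Matrix.SpecialLinearGroup (Fin 2) F) E) (W : Submodule k E) (hW : ∀ g, ∀ x ∈ W, ρ g x ∈ W)

/-- `B`-fixed vectors give fixed vectors -/
theorem avg_fixed {x : E} (hu : ∀ t, ρ (u t) x = x) (hh : ∀ a, ρ (h a) x = x) (g : _root_.Matrix.SpecialLinearGroup (Fin 2) F) :
    ρ g (x + ∑ t : F, ρ (u t) (ρ w x)) = x + ∑ t : F, ρ (u t) (ρ w x) := by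
  classical
  refine induct (P := fun g => ρ g (x + ∑ t : F, ρ (u t) (ρ w x)) = x + ∑ t : F, ρ (u t) (ρ w x)) ?_ ?_ ?_ ?_ g
  · intro s
    rw [map_add, hu, map_sum]
    congr 1
    refine Fintype.sum_equiv (Equiv.addLeft s) _ _ fun t => ?_
    rw [apply_mul, ← u_add]
    rfl
  · intro a
    rw [map_add, hh, map_sum]
    congr 1
    have ha : (a : F) ^ 2 ≠ 0 := pow_ne_zero _ a.ne_zero
    refine Fintype.sum_equiv (Equiv.mulLeft₀ ((a : F) ^ 2) ha) _ _ fun t => ?_
    rw [apply_mul3, h_u, mul_assoc, h_w, map_mul, map_mul]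
    show ρ (u ((a : F) ^ 2 * t)) (ρ w (ρ (h a⁻¹) x)) = _
    rw [hh]
    rfl
  · rw [map_add, map_sum, ← Finset.add_sum_erase _ _ (Finset.mem_univ (0 : F)), u_zero, map_one,
      Module.End.one_apply, ww, hh]
    have h1 : ∑ t ∈ Finset.univ.erase (0 : F), ρ w (ρ (u t) (ρ w x)) =
        ∑ t ∈ Finset.univ.erase (0 : F), ρ (u t) (ρ w x) := by
      refine Finset.sum_bij' (fun t _ => -t⁻¹) (fun t _ => -t⁻¹) ?_ ?_ ?_ ?_ ?_
      · intro t ht
        exact Finset.mem_erase.2 ⟨neg_ne_zero.2 (inv_ne_zero (Finset.ne_of_mem_erase ht)), Finset.mem_univ _⟩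
      · intro t ht
        exact Finset.mem_erase.2 ⟨neg_ne_zero.2 (inv_ne_zero (Finset.ne_of_mem_erase ht)), Finset.mem_univ _⟩
      · intro t ht
        simp
      · intro t ht
        simp
      · intro t ht
        have hD : UFix ρ (Submodule.span k {x}) := by
          intro s d hd
          obtain ⟨c, rfl⟩ := Submodule.mem_span_singleton.1 hd
          rw [map_smul, hu]
        rw [wuw ρ hD (Finset.ne_of_mem_erase ht) (Submodule.mem_span_singleton_self x), hh]
    have h2 := Finset.add_sum_erase Finset.univ (fun t : F => ρ (u t) (ρ w x)) (Finset.mem_univ (0 : F))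
    rw [u_zero, map_one, Module.End.one_apply] at h2
    rw [h1, ← h2]
    abel
  · intro a b ha hb
    rw [map_mul, Module.End.mul_apply, hb, ha]

include hW in
/-- **the obstruction** -/
theorem ext_main (hF : Fintype.card F = 81) {b : ℕ} (hb : b ≤ Fintype.card F - 1) (hbe : Even b)
    (φ : Vb ι b ≃ₗ[k] W)
    (hφ : ∀ g x, φ (rb ι 3 (odd_of hF) hb g x) = subRep ρ W hW g (φ x)) (htr : ∀ g x, ρ g x - x ∈ W) :
    ∃ z : E →ₗ[k] k, (∀ x ∈ W, z x = 0) ∧ ((∀ n, isExc b n = false) → z = 0) ∧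
      (∀ n, isExc b n = true → ∀ x, Dm ι ρ n x = 0 → z x = 0) ∧
      ∀ x, z x = 0 → ∃ x', (∀ g, ρ g x' = x') ∧ x' - x ∈ W := by
  have h3 : Fact (Nat.Prime 3) := ⟨Nat.prime_three⟩
  have hb' : b ≤ 80 := by rw [hF] at hb; exact hb
  have hq : Fintype.card F - 1 = 80 := by rw [hF]
  have hcard : (Fintype.card Fˣ : k) = -1 := by
    rw [Fintype.card_units, hF]
    have h3 : ((3 : ℕ) : k) = 0 := CharP.cast_eq_zero k 3
    have h4 : ((81 - 1 : ℕ) : k) = (27 : k) * ((3 : ℕ) : k) - 1 := by norm_num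
    rw [h4, h3]
    ring
  have hane : ∀ a : Fˣ, ι (a : F) ≠ 0 := fun a => (map_ne_zero ι).2 a.ne_zero
  -- the functional
  let δ : Vb ι b →ₗ[k] k := (LinearMap.proj ((1 : F), (0 : F))) ∘ₗ (Vb ι b).subtype
  obtain ⟨m', hm'⟩ := LinearMap.exists_extend (δ ∘ₗ (φ.symm : W →ₗ[k] Vb ι b))
  have hm'φ : ∀ f : Vb ι b, m' (φ f : E) = (f : F × F → k) (1, 0) := by
    intro f
    have h1 := LinearMap.congr_fun hm' (φ f)
    have h2 : m' (φ f : E) = δ (φ.symm (φ f)) := h1
    rw [h2, LinearEquiv.symm_apply_apply]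
    rfl
  have hφ' : ∀ g f, ρ g (φ f : E) = (φ (rb ι 3 (odd_of hF) hb g f) : E) := by
    intro g f
    rw [hφ]
    rfl
  let m : E →ₗ[k] k := -∑ a : Fˣ, ((ι (a : F))⁻¹ ^ b) • (m' ∘ₗ (ρ (h a) : E →ₗ[k] E))
  have hm_apply : ∀ x, m x = -∑ a : Fˣ, ((ι (a : F))⁻¹ ^ b) * m' (ρ (h a) x) := by
    intro x
    simp only [m, LinearMap.sum_apply, _root_.inv_pow, _root_.LinearMap.neg_apply, _root_.LinearMap.sum_apply, _root_.LinearMap.smul_apply, _root_.LinearMap.coe_comp, _root_.Function.comp_apply, _root_.smul_eq_mul]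
  have hmφ : ∀ f : Vb ι b, m (φ f : E) = (f : F × F → k) (1, 0) := by
    intro f
    rw [hm_apply]
    have h1 : ∀ a : Fˣ, ((ι (a : F))⁻¹ ^ b) * m' (ρ (h a) (φ f : E)) = (f : F × F → k) (1, 0) := by
      intro a
      rw [hφ', hm'φ]
      have h2 : ((rb ι 3 (odd_of hF) hb (h a) f : Vb ι b) : F × F → k) (1, 0) = (f : F × F → k) ((a : F), 0) := by
        show fRep k F (h a) (f : F × F → k) (1, 0) = _
        rw [fRep_h, one_mul, zero_mul]
      rw [h2, eval_one ι f.2, ← mul_assoc, ← mul_pow, inv_mul_cancel₀ (hane a), one_pow, one_mul]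
    rw [Finset.sum_congr rfl fun a _ => h1 a, Finset.sum_const, Finset.card_univ, nsmul_eq_mul, hcard]
    ring
  have hmh : ∀ a x, m (ρ (h a) x) = ι (a : F) ^ b * m x := by
    intro a x
    rw [hm_apply, hm_apply, mul_neg, Finset.mul_sum]
    (with_reducible congr 1)
    refine Fintype.sum_equiv (Equiv.mulRight a) _ _ fun c => ?_
    rw [apply_mul, ← h_mul]
    show _ = ι (a : F) ^ b * ((ι ((c * a : Fˣ) : F))⁻¹ ^ b * m' (ρ (h (c * a)) x))
    rw [← mul_assoc]
    congr 1
    rw [Units.val_mul, map_mul, mul_inv, mul_pow, mul_comm ((ι (c : F))⁻¹ ^ b), ← mul_assoc, ← mul_pow,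
      mul_inv_cancel₀ (hane a), one_pow, one_mul]
  -- the functionals `z_n`
  have hDφ : ∀ n (f : Vb ι b), ((Dm ι ρ n (φ f : E)) : E) = (φ (Dm ι (rb ι 3 (odd_of hF) hb) n f) : E) := by
    intro n f
    rw [Dm_apply, Dm_apply, map_neg, map_sum]
    push_cast
    congr 1
    refine Finset.sum_congr rfl fun t _ => ?_
    rw [map_smul, Submodule.coe_smul, hφ']
  have hDco : ∀ n (f : Vb ι b), ((Dm ι (rb ι 3 (odd_of hF) hb) n f : Vb ι b) : F × F → k) =
      Dm ι (fRep k F) n (f : F × F → k) := by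
    intro n f
    rw [Dm_apply, Dm_apply]
    push_cast
    rfl
  obtain ⟨e, he⟩ := exists_coord ι 3 ι.injective (odd_of hF) hb
  have hzφ : ∀ (x : Bf k b → k) (n : ℕ), 1 ≤ n → n ≤ 80 → m (Dm ι ρ n (φ (e x) : E)) =
      if h : n ≤ b ∧ b - n ∈ Bf k b then x ⟨b - n, h.2⟩ else 0 := by
    intro x n hn hn'
    rw [hDφ, hmφ, hDco, he, Dm_eval ι hF hb' x hn hn']
  have hBf : ∀ n ≤ b, (b - n ∈ Bf k b ↔ lc b n = true) := by
    intro n hn
    rw [mem_Bf]
    unfold Bb
    rw [Set.mem_ofPred_eq, Nat.choose_symm hn, choose_cast (by omega) (by omega)]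
    exact ⟨fun h => h.2, fun h => ⟨Nat.sub_le _ _, h⟩⟩
  have hz0 : ∀ n, 1 ≤ n → n ≤ 80 → lc b n = false → ∀ y ∈ W, m (Dm ι ρ n y) = 0 := by
    intro n hn hn' hl y hy
    obtain ⟨f, hf⟩ := φ.surjective ⟨y, hy⟩
    obtain ⟨x, rfl⟩ := e.surjective f
    have h1 : y = (φ (e x) : E) := by rw [hf]
    rw [h1, hzφ x n hn hn', dif_neg]
    rintro ⟨h2, h3⟩
    rw [hBf n h2, hl] at h3
    exact Bool.noConfusion h3
  have hzero : ∀ n, 1 ≤ n → n ≤ 80 → lc b n = false → isExc b n = false → ∀ x, m (Dm ι ρ n x) = 0 := by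
    intro n hn hn' hl hex x
    by_cases hmod : 2 * n % 80 = b % 80
    · rcases ext_check (b := b) (by omega) (Nat.even_iff.1 hbe) (n := n) (by omega) hn hl hmod with ⟨j, hj, hj1, hj2, hj3⟩ | h
      · have h1 := hz0 (n - j) (by omega) (by omega) hj2 _ (Dm_mem ι ρ hF htr hj1 x)
        rw [Dm_mul ι ρ hF (by omega) hj1 (by omega) (by omega), map_smul, smul_eq_mul,
          show n - j + j = n by omega] at h1
        have h2 : ((80 - j).choose (n - j) : k) ≠ 0 := (choose_cast (by omega) (by omega)).2 hj3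
        exact (mul_eq_zero.1 h1).resolve_left (mul_ne_zero (pow_ne_zero _ (neg_ne_zero.2 one_ne_zero)) h2)
      · rw [hex] at h
        exact Bool.noConfusion h
    · obtain ⟨lam, hlam⟩ := IsCyclic.exists_generator (α := Fˣ)
      have hprim := primitive ι ι.injective hlam
      rw [hq] at hprim
      have h1 : ι (lam : F) ^ b * m (Dm ι ρ n x) = ι (lam : F) ^ (2 * n) * m (Dm ι ρ n x) := by
        rw [← hmh, h_Dm ι ρ hF hn', map_smul, smul_eq_mul]
        congr 1
        have h2 := hz0 n hn hn' hl _ (htr (h lam) x)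
        rwa [map_sub, map_sub, sub_eq_zero] at h2
      by_contra hne
      have h2 := mul_right_cancel₀ hne h1
      apply hmod
      have h3 := (hprim.isOfFinOrder (by norm_num)).pow_eq_pow_iff_modEq.1 h2
      rw [← hprim.eq_orderOf] at h3
      exact h3.symm
  -- the obstruction
  obtain ⟨z, hzW, hzE, hzD, hzall⟩ : ∃ z : E →ₗ[k] k, (∀ x ∈ W, z x = 0) ∧ ((∀ n, isExc b n = false) → z = 0) ∧
      (∀ n, isExc b n = true → ∀ x, Dm ι ρ n x = 0 → z x = 0) ∧
      ∀ x, z x = 0 → ∀ n, 1 ≤ n → n ≤ 80 → lc b n = false → m (Dm ι ρ n x) = 0 := by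
    by_cases hex : ∃ n, isExc b n = true
    · obtain ⟨n, hn⟩ := hex
      have hn80 : 1 ≤ n ∧ n ≤ 80 ∧ lc b n = false ∧ ∀ n', isExc b n' = true → n' = n := by
        unfold isExc at hn
        simp only [Bool.or_eq_true, Bool.and_eq_true, beq_iff_eq] at hn
        rcases hn with ((⟨rfl, rfl⟩ | ⟨rfl, rfl⟩) | ⟨rfl, rfl⟩) | ⟨rfl, rfl⟩ <;>
        · refine ⟨by norm_num, by norm_num, by decide, fun n' hn' => ?_⟩
          simpa [isExc] using hn'
      refine ⟨m ∘ₗ Dm ι ρ n, fun x hx => hz0 n hn80.1 hn80.2.1 hn80.2.2.1 x hx, fun h => ?_, fun n' hn' x hx => ?_,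
        fun x hx n' h1 h2 h3 => ?_⟩
      · rw [h n] at hn
        exact Bool.noConfusion hn
      · rw [hn80.2.2.2 n' hn'] at hx
        show m (Dm ι ρ n x) = 0
        rw [hx, map_zero]
      · by_cases hn' : isExc b n' = true
        · rw [hn80.2.2.2 n' hn']
          exact hx
        · exact hzero n' h1 h2 h3 (Bool.eq_false_iff.2 hn') x
    · push Not at hex
      refine ⟨0, fun x _ => rfl, fun _ => rfl, fun _ _ _ _ => rfl, fun x _ n h1 h2 h3 =>
        hzero n h1 h2 h3 (Bool.eq_false_iff.2 (hex n)) x⟩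
  refine ⟨z, hzW, hzE, hzD, fun x hx => ?_⟩
  -- the correction
  let γ : Bf k b → k := fun j => if (j : ℕ) = b then m x else m (Dm ι ρ (b - j) x)
  let v : E := (φ (e γ) : E)
  have hvW : v ∈ W := (φ (e γ)).2
  have hbB : b ∈ Bf k b := by
    rw [mem_Bf]
    exact ⟨le_rfl, by rw [Nat.choose_self, Nat.cast_one]; exact one_ne_zero⟩
  have hcoef : ∀ y : Bf k b → k, m (φ (e y) : E) = y ⟨b, hbB⟩ := by
    intro y
    rw [hmφ, he, Finset.sum_apply, Finset.sum_eq_single (⟨b, hbB⟩ : Bf k b)]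
    · show y _ * mon ι b b (1, 0) = _
      rw [mon_self, map_one, one_pow, mul_one]
    · intro j _ hj
      show y _ * mon ι b j (1, 0) = 0
      have h1 := (mem_Bf.1 j.2).1
      have h2 : (j : ℕ) ≠ b := fun h => hj (Subtype.ext h)
      unfold mon
      rw [map_zero, zero_pow (show b - (j : ℕ) ≠ 0 by omega)]
      ring
    · intro h
      exact absurd (Finset.mem_univ _) h
  have hx1 : m (x - v) = 0 := by
    rw [map_sub, hcoef, sub_eq_zero]
    show m x = if b = b then m x else _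
    rw [if_pos rfl]
  have hx2 : ∀ n, 1 ≤ n → n ≤ 80 → m (Dm ι ρ n (x - v)) = 0 := by
    intro n hn hn'
    rw [map_sub, map_sub, sub_eq_zero, hzφ γ n hn hn']
    split_ifs with h
    · show _ = if b - n = b then m x else m (Dm ι ρ (b - (b - n)) x)
      rw [if_neg (by omega), show b - (b - n) = n by omega]
    · refine hzall x hx n hn hn' ?_
      by_cases h2 : n ≤ b
      · rw [← Bool.not_eq_true, ← hBf n h2]
        exact fun h3 => h ⟨h2, h3⟩
      · rw [← Bool.not_eq_true, ← choose_cast (k := k) (by omega) (by omega)]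
        rw [Nat.choose_eq_zero_of_lt (by omega), Nat.cast_zero]
        exact fun h3 => h3 rfl
  -- vanishing
  have hvan : ∀ y ∈ W, m y = 0 → (∀ n, 1 ≤ n → n ≤ 80 → m (Dm ι ρ n y) = 0) → y = 0 := by
    intro y hy h1 h2
    obtain ⟨f, hf⟩ := φ.surjective ⟨y, hy⟩
    obtain ⟨c, rfl⟩ := e.surjective f
    have h4 : y = (φ (e c) : E) := by rw [hf]
    have h5 : c = 0 := by
      funext j
      have hj := (mem_Bf.1 j.2).1
      by_cases hjb : (j : ℕ) = b
      · have h6 := hcoef c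
        rw [← h4, h1] at h6
        have h7 : j = ⟨b, hbB⟩ := Subtype.ext hjb
        rw [h7, ← h6]
        rfl
      · have h6 := h2 (b - j) (by omega) (by omega)
        rw [h4, hzφ c _ (by omega) (by omega), dif_pos ⟨Nat.sub_le _ _, by
          rw [show b - (b - (j : ℕ)) = j by omega]; exact j.2⟩] at h6
        have h7 : (⟨b - (b - (j : ℕ)), by rw [show b - (b - (j : ℕ)) = j by omega]; exact j.2⟩ : Bf k b) = j :=
          Subtype.ext (show b - (b - (j : ℕ)) = j by omega)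
        rw [h7] at h6
        exact h6
    rw [h4, h5, map_zero, map_zero]
    rfl
  set x' := x - v with hx'
  have hu : ∀ t, ρ (u t) x' = x' := by
    intro t
    rw [← sub_eq_zero]
    have h1 : ρ (u t) x' - x' = ∑ j ∈ Finset.Icc 1 80, ι t ^ j • Dm ι ρ j x' := by
      rw [u_eq ι ρ hF t x', add_sub_cancel_left]
    refine hvan _ (htr _ _) ?_ ?_
    · rw [h1, map_sum]
      refine Finset.sum_eq_zero fun j hj => ?_
      rw [Finset.mem_Icc] at hj
      rw [map_smul, hx2 j hj.1 hj.2, smul_zero]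
    · intro n hn hn'
      rw [h1, map_sum, map_sum]
      refine Finset.sum_eq_zero fun j hj => ?_
      rw [Finset.mem_Icc] at hj
      rw [map_smul, map_smul, Dm_mul ι ρ hF hn hj.1 hj.2 hn', map_smul]
      by_cases hnj : n + j ≤ 80
      · rw [hx2 _ (by omega) hnj, smul_zero, smul_zero]
      · rw [Nat.choose_eq_zero_of_lt (show 80 - j < n by omega), Nat.cast_zero, mul_zero, zero_smul, smul_zero]
  have hh : ∀ a, ρ (h a) x' = x' := by
    intro a
    rw [← sub_eq_zero]
    refine hvan _ (htr _ _) ?_ ?_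
    · rw [map_sub, hmh, hx1, mul_zero, sub_zero]
    · intro n hn hn'
      rw [map_sub, map_sub, hx2 n hn hn', sub_zero]
      have h1 := hmh a (Dm ι ρ n x')
      rw [h_Dm ι ρ hF hn', map_smul, hx2 n hn hn', mul_zero, smul_eq_mul] at h1
      exact (mul_eq_zero.1 h1).resolve_left (pow_ne_zero _ (hane a))
  refine ⟨x' + ∑ t : F, ρ (u t) (ρ w x'), avg_fixed ρ hu hh, ?_⟩
  have h1 : ∑ t : F, ρ (u t) (ρ w x') ∈ W := by
    have h2 : ∑ t : F, ρ (u t) (ρ w x') = ∑ t : F, (ρ (u t * w) x' - x') := by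
      rw [Finset.sum_sub_distrib, Finset.sum_const, Finset.card_univ, hF, ← Nat.cast_smul_eq_nsmul k]
      have h3 : ((81 : ℕ) : k) = 0 := by
        rw [CharP.cast_eq_zero_iff k 3]
        norm_num
      rw [h3, zero_smul, sub_zero]
      exact Finset.sum_congr rfl fun t _ => apply_mul ρ _ _ _
    rw [h2]
    exact sum_mem fun t _ => htr _ _
  have h2 : x' + ∑ t : F, ρ (u t) (ρ w x') - x = ∑ t : F, ρ (u t) (ρ w x') - v := by
    rw [hx']
    abel
  rw [h2]
  exact W.sub_mem h1 hvW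

end Main

end Cfsg.Agent.H525.E8L
end

-- part: H940/E8L/EigFun
section
/-!
# Eigenvalue multiplicities as an additive function; duality (helper940, for S5921)

* `finrank_eig_iso` : isomorphic representations have the same multiplicities;
* `eigFun` : an integer combination of multiplicities of eigenvalues of `p'`-elements and of the dimension;
* `finrank_eig_perp` : `V / N^⊥` is dual to `N`.
-/

set_option autoImplicit false

namespace Cfsg.Agent.H940.E8L

open Cfsg.Agent.H943.RepAdd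

universe u v w x

variable {k : Type u} [Field k] {G : Type v} [Group G]

theorem finrank_eig_iso {V₁ V₂ : Type*} [AddCommGroup V₁] [Module k V₁] [AddCommGroup V₂] [Module k V₂]
    (ρ₁ : Representation k G V₁) (ρ₂ : Representation k G V₂)
    (φ : V₁ ≃ₗ[k] V₂) (h : ∀ g x, φ (ρ₁ g x) = ρ₂ g (φ x)) (g : G) (μ : k) :
    Module.finrank k (eig ρ₁ g μ) = Module.finrank k (eig ρ₂ g μ) := by
  have h1 : ∀ x, x ∈ eig ρ₁ g μ ↔ φ x ∈ eig ρ₂ g μ := by
    intro x
    rw [mem_eig, mem_eig, ← h, ← map_smul, φ.injective.eq_iff]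
  have h2 : (eig ρ₁ g μ).map (φ : V₁ →ₗ[k] V₂) = eig ρ₂ g μ := by
    ext y
    constructor
    · rintro ⟨x, hx, rfl⟩
      exact (h1 x).1 hx
    · intro hy
      refine ⟨φ.symm y, (h1 _).2 (by rwa [LinearEquiv.apply_symm_apply]), ?_⟩
      exact φ.apply_symm_apply y
  rw [← h2]
  exact (LinearEquiv.finrank_map_eq φ _).symm

/-- an integer combination of the multiplicities of the eigenvalues `μ i` of the elements `g i` of order dividing `n i` -/
noncomputable def eigFun {ι : Type x} (s : Finset ι) (c : ι → ℤ) (g : ι → G) (n : ι → ℕ) (μ : ι → k) (c₀ : ℤ)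
    (hg : ∀ i ∈ s, g i ^ n i = 1) (hn : ∀ i ∈ s, (n i : k) ≠ 0) (hμ : ∀ i ∈ s, μ i ^ n i = 1)
    (hμ0 : ∀ i ∈ s, μ i ≠ 0) : AddFun.{u, v, w} k G where
  psi {V} _ _ ρ := c₀ * Module.finrank k V + ∑ i ∈ s, c i * (Module.finrank k (eig ρ (g i) (μ i)) : ℤ)
  add {V} _ _ _ ρ W hW := by
    have h1 : Module.finrank k V = Module.finrank k W + Module.finrank k (V ⧸ W) := by
      have := Submodule.finrank_quotient_add_finrank W
      omega
    have h2 : ∑ i ∈ s, c i * (Module.finrank k (eig ρ (g i) (μ i)) : ℤ) =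
        ∑ i ∈ s, c i * (Module.finrank k (eig (subRep ρ W hW) (g i) (μ i)) : ℤ) +
        ∑ i ∈ s, c i * (Module.finrank k (eig (quotRep ρ W hW) (g i) (μ i)) : ℤ) := by
      rw [← Finset.sum_add_distrib]
      refine Finset.sum_congr rfl fun i hi => ?_
      rw [finrank_eig ρ W hW (g := g i) (n := n i) (by rw [← map_pow, hg i hi, map_one]) (hn i hi) (hμ i hi) (hμ0 i hi)]
      push_cast
      ring
    rw [h1, h2]
    push_cast
    ring
  iso {V₁ V₂} _ _ _ _ _ _ ρ₁ ρ₂ φ h := by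
    rw [φ.finrank_eq, Finset.sum_congr rfl fun i _ => by rw [finrank_eig_iso ρ₁ ρ₂ φ h]]

section dual

variable {V : Type w} [AddCommGroup V] [Module k V] [FiniteDimensional k V] (ρ : Representation k G V)
  (B : V →ₗ[k] V →ₗ[k] k)

/-- the annihilator of `N` on the left -/
def perpL (N : Submodule k V) : Submodule k V where
  carrier := {x | ∀ y ∈ N, B x y = 0}
  add_mem' {a b} ha hb y hy := by
    rw [map_add, LinearMap.add_apply, ha y hy, hb y hy, add_zero]
  zero_mem' y _ := by rw [map_zero, LinearMap.zero_apply]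
  smul_mem' c x hx y hy := by rw [map_smul, LinearMap.smul_apply, hx y hy, smul_zero]

variable {ρ B}

theorem inv_perpL (hB : ∀ g x y, B (ρ g x) (ρ g y) = B x y) {N : Submodule k V} (hN : Inv ρ N) :
    Inv ρ (perpL B N) := by
  intro g x hx y hy
  have h1 := hB g x (ρ g⁻¹ y)
  have h2 : ρ g (ρ g⁻¹ y) = y := by rw [← Module.End.mul_apply, ← map_mul, mul_inv_cancel, map_one, Module.End.one_apply]
  rw [h2] at h1
  rw [h1]
  exact hx _ (hN _ _ hy)

/-- the adjoint of the projection -/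
theorem proj_adj (hB : ∀ g x y, B (ρ g x) (ρ g y) = B x y) (g : G) (n : ℕ) (hgn : g ^ n = 1) {μ : k}
    (hμ : μ ^ n = 1) (x y : V) : B (proj ρ g n μ x) y = B x (proj ρ g n μ⁻¹ y) := by
  have hpow : ∀ i x y, B (((ρ g) ^ i) x) y = B x (((ρ g⁻¹) ^ i) y) := by
    intro i
    induction i with
    | zero => intro x y; rw [pow_zero, pow_zero]; rfl
    | succ i ih =>
      intro x y
      rw [pow_succ, Module.End.mul_apply, ih, pow_succ', Module.End.mul_apply]
      have h1 := hB g x (ρ g⁻¹ (((ρ g⁻¹) ^ i) y))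
      rw [← Module.End.mul_apply (ρ g), ← map_mul, mul_inv_cancel, map_one, Module.End.one_apply] at h1
      exact h1
  rw [proj_apply, proj_apply, inv_inv, map_smul, LinearMap.smul_apply, map_smul, map_sum, LinearMap.sum_apply, map_sum]
  congr 1
  rcases Nat.eq_zero_or_pos n with hn | hn
  · subst hn
    rw [Finset.range_zero, Finset.sum_empty, Finset.sum_empty]
  have hμ0 : μ ≠ 0 := by
    rintro rfl
    rw [zero_pow hn.ne'] at hμ
    exact zero_ne_one hμ
  -- reindex `i ↦ n - i`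
  have hL : ∀ i, B ((μ⁻¹) ^ i • ((ρ g) ^ i) x) y = (μ⁻¹) ^ i * B x (((ρ g⁻¹) ^ i) y) := fun i => by
    rw [map_smul, LinearMap.smul_apply, hpow, smul_eq_mul]
  have hR : ∀ i, B x (μ ^ i • ((ρ g) ^ i) y) = μ ^ i * B x (((ρ g) ^ i) y) := fun i => by
    rw [map_smul, smul_eq_mul]
  rw [Finset.sum_congr rfl fun i _ => hL i, Finset.sum_congr rfl fun i _ => hR i]
  have hkey : ∀ i, i ≤ n → (μ⁻¹) ^ i * B x (((ρ g⁻¹) ^ i) y) = μ ^ (n - i) * B x (((ρ g) ^ (n - i)) y) := by
    intro i hi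
    have h1 : (μ⁻¹) ^ i = μ ^ (n - i) := by
      rw [inv_pow, inv_eq_of_mul_eq_one_left]
      rw [← pow_add, Nat.sub_add_cancel hi, hμ]
    have h2 : (ρ g⁻¹) ^ i = (ρ g) ^ (n - i) := by
      rw [← map_pow, ← map_pow]
      congr 1
      rw [inv_pow, inv_eq_of_mul_eq_one_left]
      rw [← pow_add, Nat.sub_add_cancel hi, hgn]
    rw [h1, h2]
  have hn0 : μ ^ n * B x (((ρ g) ^ n) y) = μ ^ 0 * B x (((ρ g) ^ 0) y) := by
    rw [hμ, pow_zero, ← map_pow, hgn, map_one, pow_zero]
  have h3 : ∑ i ∈ Finset.range (n + 1), μ ^ (n - i) * B x (((ρ g) ^ (n - i)) y) =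
      ∑ i ∈ Finset.range (n + 1), μ ^ i * B x (((ρ g) ^ i) y) :=
    Finset.sum_range_reflect (fun i => μ ^ i * B x (((ρ g) ^ i) y)) (n + 1)
  rw [Finset.sum_congr rfl fun i hi => hkey i (Finset.mem_range.1 hi).le]
  rw [Finset.sum_range_succ, Finset.sum_range_succ, Nat.sub_self, hn0] at h3
  exact add_right_cancel h3

/-- **duality** -/
theorem finrank_eig_perp (hB : ∀ g x y, B (ρ g x) (ρ g y) = B x y) (hnd : ∀ y, (∀ x, B x y = 0) → y = 0)
    {N : Submodule k V} (hN : Inv ρ N) {g : G} {n : ℕ} (hgn : g ^ n = 1) (hn : (n : k) ≠ 0) {μ : k}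
    (hμ : μ ^ n = 1) :
    Module.finrank k (eig (quotRep ρ (perpL B N) (inv_perpL hB hN)) g μ) =
      Module.finrank k (eig (subRep ρ N hN) g μ⁻¹) := by
  have hn0 : n ≠ 0 := by rintro rfl; exact hn Nat.cast_zero
  have hμ0 : μ ≠ 0 := by
    rintro rfl
    rw [zero_pow hn0] at hμ
    exact zero_ne_one hμ
  have hμi : (μ⁻¹) ^ n = 1 := by rw [inv_pow, hμ, inv_one]
  have hρ : ρ g ^ n = 1 := by rw [← map_pow, hgn, map_one]
  -- the two eigenspaces inside `V`
  let P : Submodule k V := eig ρ g μ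
  let Q : Submodule k V := eig ρ g μ⁻¹ ⊓ N
  have hQ : Module.finrank k (eig (subRep ρ N hN) g μ⁻¹) = Module.finrank k Q := by
    refine LinearEquiv.finrank_eq (LinearEquiv.ofBijective
      ({ toFun := fun x => ⟨((x : N) : V), ?_, (x : N).2⟩, map_add' := fun x y => rfl, map_smul' := fun c x => rfl } :
        eig (subRep ρ N hN) g μ⁻¹ →ₗ[k] Q) ⟨?_, ?_⟩)
    · have h1 := (mem_eig _).1 x.2
      exact (mem_eig ρ).2 (congrArg Subtype.val h1)
    · intro x y e
      apply Subtype.ext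
      apply Subtype.ext
      exact congrArg (fun z : Q => (z : V)) e
    · rintro ⟨x, hx, hxN⟩
      exact ⟨⟨⟨x, hxN⟩, (mem_eig _).2 (Subtype.ext ((mem_eig ρ).1 hx))⟩, rfl⟩
  have hadd := finrank_eig ρ (perpL B N) (inv_perpL hB hN) hρ hn hμ hμ0
  have hsub : Module.finrank k (eig (subRep ρ (perpL B N) (inv_perpL hB hN)) g μ) =
      Module.finrank k ↥(P ⊓ perpL B N) := by
    refine LinearEquiv.finrank_eq (LinearEquiv.ofBijective
      ({ toFun := fun x => ⟨((x : perpL B N) : V), ?_, (x : perpL B N).2⟩, map_add' := fun x y => rfl,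
         map_smul' := fun c x => rfl } :
        eig (subRep ρ (perpL B N) (inv_perpL hB hN)) g μ →ₗ[k] ↥(P ⊓ perpL B N)) ⟨?_, ?_⟩)
    · have h1 := (mem_eig _).1 x.2
      exact (mem_eig ρ).2 (congrArg Subtype.val h1)
    · intro x y e
      apply Subtype.ext
      apply Subtype.ext
      exact congrArg (fun z : ↥(P ⊓ perpL B N) => (z : V)) e
    · rintro ⟨x, hx, hxN⟩
      exact ⟨⟨⟨x, hxN⟩, (mem_eig _).2 (Subtype.ext ((mem_eig ρ).1 hx))⟩, rfl⟩
  -- the pairing `P × Q → k`
  let f : P →ₗ[k] Module.Dual k Q :=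
    { toFun := fun x => (B x).comp Q.subtype
      map_add' := fun x y => by
        ext z
        simp only [_root_.Submodule.coe_add, _root_.map_add, _root_.LinearMap.coe_comp, _root_.Submodule.coe_subtype, _root_.Function.comp_apply, _root_.LinearMap.add_apply]
      map_smul' := fun c x => by
        ext z
        simp only [_root_.SetLike.val_smul, _root_.map_smul, _root_.LinearMap.coe_comp, _root_.LinearMap.coe_smul, _root_.Submodule.coe_subtype, _root_.Function.comp_apply, _root_.Pi.smul_apply, _root_.smul_eq_mul, _root_.RingHom.id_apply, _root_.LinearMap.smul_apply] }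
  have hf : ∀ (x : P) (y : Q), f x y = B x y := fun _ _ => rfl
  have hker : Module.finrank k (LinearMap.ker f) = Module.finrank k ↥(P ⊓ perpL B N) := by
    refine LinearEquiv.finrank_eq (LinearEquiv.ofBijective
      ({ toFun := fun x => ⟨((x : P) : V), (x : P).2, ?_⟩, map_add' := fun x y => rfl,
         map_smul' := fun c x => rfl } : LinearMap.ker f →ₗ[k] ↥(P ⊓ perpL B N)) ⟨?_, ?_⟩)
    · intro y hy
      have h1 : f x = 0 := x.2
      have hx : ((x : P) : V) = proj ρ g n μ (x : P) := (proj_of_mem ρ hn hμ0 (x : P).2).symm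
      rw [hx, proj_adj hB g n hgn hμ]
      have hy' : proj ρ g n μ⁻¹ y ∈ N := by
        rw [proj_apply]
        refine N.smul_mem _ (N.sum_mem fun i _ => N.smul_mem _ ?_)
        rw [← map_pow]
        exact hN _ _ hy
      have h2 := LinearMap.congr_fun h1 ⟨proj ρ g n μ⁻¹ y, proj_mem ρ hρ hμi (inv_ne_zero hμ0) y, hy'⟩
      exact h2
    · intro x y e
      apply Subtype.ext
      apply Subtype.ext
      exact congrArg (fun z : ↥(P ⊓ perpL B N) => (z : V)) e
    · rintro ⟨x, hx, hxN⟩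
      refine ⟨⟨⟨x, hx⟩, ?_⟩, rfl⟩
      rw [LinearMap.mem_ker]
      ext y
      exact hxN y y.2.2
  have hsurj : Function.Surjective f := by
    -- the transposed map is injective
    rw [← LinearMap.dualMap_injective_iff]
    rw [injective_iff_map_eq_zero]
    intro φ hφ
    obtain ⟨y, hy⟩ : ∃ y : Q, ∀ ξ : Module.Dual k Q, φ ξ = ξ y := by
      obtain ⟨y, hy⟩ := (Module.evalEquiv k Q).surjective φ
      exact ⟨y, fun ξ => by rw [← hy]; rfl⟩
    have h1 : ∀ x : P, B x y = 0 := by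
      intro x
      have h2 := LinearMap.congr_fun hφ x
      rw [LinearMap.dualMap_apply, hy] at h2
      exact h2
    have h2 : (y : V) = 0 := by
      apply hnd
      intro x
      have hyp : (y : V) = proj ρ g n μ⁻¹ (y : V) := (proj_of_mem ρ hn (inv_ne_zero hμ0) y.2.1).symm
      rw [hyp, ← proj_adj hB g n hgn hμ]
      exact h1 ⟨proj ρ g n μ x, proj_mem ρ hρ hμ hμ0 x⟩
    have h3 : y = 0 := Subtype.ext h2
    ext ξ
    rw [hy, h3, map_zero]
    rfl
  have h1 := LinearMap.finrank_range_add_finrank_ker f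
  rw [LinearMap.range_eq_top.2 hsurj, finrank_top, Subspace.dual_finrank_eq, hker] at h1
  rw [hsub] at hadd
  rw [hQ]
  have h2 : Module.finrank k P = Module.finrank k (eig ρ g μ) := rfl
  omega

end dual

end Cfsg.Agent.H940.E8L
end

-- part: H525/E8L/Prs
section
/-!
# The pressure lemmas for `SL(2, 81)` (helper525, S5921)
-/

set_option autoImplicit false
set_option linter.unusedSectionVars false
set_option maxRecDepth 100000

namespace Cfsg.Agent.H525.E8L

open Matrix Cfsg.Agent.H943.SL2Rel Cfsg.Agent.H943.RepAdd Cfsg.Agent.H940.E8L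
open Cfsg.Agent.H943.SL2Mod hiding Inv finrank_eig_iso

section Gen

variable {F : Type} [Field F] [Fintype F]

theorem perfect81 (hF : Fintype.card F = 81) : commutator (_root_.Matrix.SpecialLinearGroup (Fin 2) F) = ⊤ := by
  classical
  obtain ⟨x, hx0, hx1⟩ : ∃ x : F, x ≠ 0 ∧ x ^ 2 ≠ 1 := by
    have h1 : ({0, 1, -1} : Finset F).card < (Finset.univ : Finset F).card := by
      refine lt_of_le_of_lt Finset.card_le_three ?_
      rw [Finset.card_univ, hF]
      norm_num
    obtain ⟨x, -, hx⟩ := Finset.exists_mem_notMem_of_card_lt_card h1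
    simp only [Finset.mem_insert, Finset.mem_singleton, not_or] at hx
    refine ⟨x, hx.1, fun h => ?_⟩
    rw [pow_two] at h
    rcases mul_self_eq_one_iff.1 h with h | h
    · exact hx.2.1 h
    · exact hx.2.2 h
  exact SL2.commutator_eq_top hx0 hx1

variable [DecidableEq F] [CharP F 3] {k : Type} [Field k] [DecidableEq k] [IsAlgClosed k] [CharP k 3] (ι : F →+* k)
  {E : Type} [AddCommGroup E] [Module k E] [FiniteDimensional k E]
  (ρ : Representation k (_root_.Matrix.SpecialLinearGroup (Fin 2) F) E) {W : Submodule k E}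

include ι in
/-- irreducible submodules are `V_b` -/
theorem irr_Vb (hF : Fintype.card F = 81) (hW : _root_.Cfsg.Agent.H940.E8L.Inv ρ W) (hI : IrrIn ρ W) :
    ∃ (b : ℕ) (hb : b ≤ Fintype.card F - 1) (φ : Vb ι b ≃ₗ[k] W),
      ∀ g x, φ (rb ι 3 (odd_of hF) hb g x) = subRep ρ W hW g (φ x) := by
  have : Fact (Nat.Prime 3) := ⟨Nat.prime_three⟩
  have hIW : Irr (subRep ρ W hW) := by
    refine ⟨Submodule.nontrivial_iff_ne_bot.2 hI.1, fun W' hW' => ?_⟩
    rcases hI.2 (W'.map W.subtype) (Submodule.map_subtype_le _ _) (by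
      rintro g _ ⟨x, hx, rfl⟩
      exact ⟨_, hW' g x hx, rfl⟩) with h1 | h1
    · left
      rw [eq_bot_iff]
      intro x hx
      have h2 : (x : E) ∈ W'.map W.subtype := ⟨x, hx, rfl⟩
      rw [h1] at h2
      exact (Submodule.mem_bot k).2 (Subtype.ext ((Submodule.mem_bot k).1 h2))
    · right
      rw [eq_top_iff]
      intro x _
      have h2 : (x : E) ∈ W'.map W.subtype := by rw [h1]; exact x.2
      obtain ⟨y, hy, e⟩ := h2
      rwa [← Subtype.ext (p := fun z => z ∈ W) e]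
  exact irr_iso ι 3 (subRep ρ W hW) ι.injective (odd_of hF) hIW

/-- the exceptional weights -/
def exc (b : ℕ) : Bool := b == 4 || b == 12 || b == 36 || b == 28

theorem isExc_exc {b n : ℕ} (h : isExc b n = true) : exc b = true := by
  unfold isExc at h
  unfold exc
  simp only [Bool.or_eq_true, Bool.and_eq_true, beq_iff_eq] at h ⊢
  itauto

include ι in
/-- the size of `E / W` -/
theorem quot_le (hF : Fintype.card F = 81) (hW : _root_.Cfsg.Agent.H940.E8L.Inv ρ W) (htr : TrivMod ρ W) (hfix : NoFix ρ) {b : ℕ}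
    (hb : b ≤ Fintype.card F - 1) (φ : Vb ι b ≃ₗ[k] W)
    (hφ : ∀ g x, φ (rb ι 3 (odd_of hF) hb g x) = subRep ρ W hW g (φ x)) :
    Module.finrank k (E ⧸ W) ≤ if exc b = true then 1 else 0 := by
  have hfac : Fact (Nat.Prime 3) := ⟨Nat.prime_three⟩
  have h2 : (2 : k) ≠ 0 := by
    have h3 : ((2 : ℕ) : k) ≠ 0 := by rw [Ne, CharP.cast_eq_zero_iff k 3]; norm_num
    exact_mod_cast h3
  have hzero : W = ⊤ → Module.finrank k (E ⧸ W) ≤ if exc b = true then 1 else 0 := by
    intro h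
    have h1 := Submodule.finrank_quotient_add_finrank W
    have h3 : Module.finrank k W = Module.finrank k E := by rw [h, finrank_top]
    omega
  rcases Nat.even_or_odd b with hbe | hbo
  · obtain ⟨z, hzW, hz0, -, hz⟩ := ext_main ι ρ W hW hF hb hbe φ hφ htr
    have hker : ∀ x, z x = 0 → x ∈ W := by
      intro x hx
      obtain ⟨x', h1, h3⟩ := hz x hx
      rw [hfix x' h1, zero_sub] at h3
      exact (Submodule.neg_mem_iff W).1 h3
    by_cases hex : exc b = true
    · rw [if_pos hex]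
      have h1 : LinearMap.ker (W.liftQ z fun x hx => hzW x hx) = ⊥ := by
        rw [LinearMap.ker_eq_bot']
        intro y hy
        obtain ⟨x, rfl⟩ := W.mkQ_surjective y
        rw [Submodule.mkQ_apply, Submodule.Quotient.mk_eq_zero]
        exact hker x hy
      have h3 := LinearMap.finrank_le_finrank_of_injective (LinearMap.ker_eq_bot.1 h1)
      rwa [Module.finrank_self] at h3
    · apply hzero
      rw [eq_top_iff]
      intro x _
      apply hker
      rw [hz0, LinearMap.zero_apply]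
      intro n
      rw [Bool.eq_false_iff]
      exact fun h => hex (isExc_exc h)
  · -- `-1` acts as `-1` on `W`
    apply hzero
    rw [eq_top_iff]
    intro x _
    have hneg : ∀ y ∈ W, ρ (h (-1)) y = -y := by
      intro y hy
      obtain ⟨f, hf⟩ := φ.surjective ⟨y, hy⟩
      have h3 := hφ (h (-1)) f
      have h4 : rb ι 3 (odd_of hF) hb (h (-1)) f = -f := by
        apply Subtype.ext
        show fRep k F (h (-1)) (f : F × F → k) = -(f : F × F → k)
        have h5 : ∀ g ∈ Submodule.span k (mon ι b '' Bb k b), fRep k F (h (-1)) g = -g := by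
          intro g hg
          induction hg using Submodule.span_induction with
          | mem g hg =>
            obtain ⟨m, hm, rfl⟩ := hg
            rw [h_mon, Units.val_neg, Units.val_one, map_neg, map_one, inv_neg, inv_one, ← pow_add,
              show m + (b - m) = b by have := hm.1; omega, hbo.neg_one_pow, neg_one_smul]
          | zero => rw [map_zero, neg_zero]
          | add a c _ _ ha hc => rw [map_add, ha, hc, neg_add]
          | smul a c _ hc => rw [map_smul, hc, smul_neg]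
        exact h5 _ (Vb_le ι b f.2)
      rw [h4, hf] at h3
      have h6 := congrArg Subtype.val h3
      rw [map_neg, hf] at h6
      exact h6.symm
    have h3 := hneg _ (htr (h (-1)) x)
    rw [map_sub, hh] at h3
    have h4 : x + ρ (h (-1)) x = 0 := by
      apply hfix
      intro g
      have h5 := hneg _ (htr g x)
      have h6 : ρ g (ρ (h (-1)) x) = ρ (h (-1)) (ρ g x) := by
        rw [apply_mul, apply_mul]
        rw [Subgroup.mem_center_iff.1 (Cfsg.Agent.H943.PSLHom.h_mem_center.2 (neg_one_sq (R := Fˣ))) g]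
      rw [map_add, h6]
      rw [map_sub] at h5
      have h7 : ρ (h (-1)) (ρ g x) = ρ (h (-1)) x - (ρ g x - x) := by
        rw [sub_eq_iff_eq_add.1 h5]
        abel
      rw [h7]
      abel
    have h5 := htr (h (-1)) x
    have h6 : ρ (h (-1)) x = -x := by rw [eq_neg_iff_add_eq_zero, add_comm]; exact h4
    rw [h6] at h5
    have h7 : x = (-(2 : k))⁻¹ • (-x - x) := by
      have h8 : -x - x = (-(2 : k)) • x := by rw [neg_smul, two_smul]; abel
      rw [h8, smul_smul, inv_mul_cancel₀ (neg_ne_zero.2 h2), one_smul]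
    rw [h7]
    exact W.smul_mem _ h5

/-- the value of a functional on `V_b` -/
def val (f : ℕ → ℤ) (b : ℕ) : ℤ := ((Cfsg.Agent.H943.Cert.digs 4 b).map fun m => f (wtOf 80 b m)).sum

variable (lam : Fˣ)

theorem gen_pow (hF : Fintype.card F = 81) : lam ^ 80 = 1 := by
  have h1 := pow_card_eq_one (x := lam)
  rwa [Fintype.card_units, hF] at h1

theorem eighty_ne : ((80 : ℕ) : k) ≠ 0 := by
  have : Fact (Nat.Prime 3) := ⟨Nat.prime_three⟩
  rw [Ne, CharP.cast_eq_zero_iff k 3]
  norm_num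

/-- the additive function of a functional `f` on the weights -/
noncomputable def PF (hF : Fintype.card F = 81) (f : ℕ → ℤ) : AddFun.{0, 0, 0} k (_root_.Matrix.SpecialLinearGroup (Fin 2) F) :=
  eigFun (Finset.range 80) f (fun _ => h lam) (fun _ => 80) (fun κ => ι lam ^ κ) 0
    (fun _ _ => by rw [← h_pow, gen_pow lam hF, h_one]) (fun _ _ => eighty_ne)
    (fun κ _ => by rw [← map_pow, ← map_pow, ← Units.val_pow_eq_pow_val, ← Units.val_pow_eq_pow_val, ← pow_mul, mul_comm,
      pow_mul, gen_pow lam hF, one_pow, Units.val_one, map_one])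
    (fun κ _ => pow_ne_zero _ ((map_ne_zero ι).2 lam.ne_zero))

variable {lam}

theorem PF_eq (hF : Fintype.card F = 81) (f : ℕ → ℤ) {V : Type} [AddCommGroup V] [Module k V]
    (ρ : Representation k (_root_.Matrix.SpecialLinearGroup (Fin 2) F) V) : (PF ι lam hF f).psi ρ =
      ∑ κ ∈ Finset.range 80, f κ * (Module.finrank k (eig ρ (h lam) (ι lam ^ κ)) : ℤ) := by
  show 0 * (Module.finrank k V : ℤ) + _ = _
  rw [zero_mul, zero_add]

theorem PF_irr (hF : Fintype.card F = 81) (hlam : ∀ x, x ∈ Subgroup.zpowers lam) (f : ℕ → ℤ) (hW : _root_.Cfsg.Agent.H940.E8L.Inv ρ W) {b : ℕ}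
    (hb : b ≤ Fintype.card F - 1) (φ : Vb ι b ≃ₗ[k] W)
    (hφ : ∀ g x, φ (rb ι 3 (odd_of hF) hb g x) = subRep ρ W hW g (φ x)) :
    (PF ι lam hF f).psi (subRep ρ W hW) = val f b := by
  have : Fact (Nat.Prime 3) := ⟨Nat.prime_three⟩
  have hq : Fintype.card F - 1 = 80 := by rw [hF]
  rw [PF_eq]
  have h1 := Phi_rb ι 3 ι.injective (odd_of hF) hlam f hb
  unfold Phi at h1
  rw [hq] at h1
  rw [Finset.sum_congr rfl fun κ _ => by rw [← Cfsg.Agent.H943.SL2Mod.finrank_eig_iso _ _ φ hφ], h1]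
  have hb3 : b < 3 ^ 4 := by rw [hq] at hb; norm_num; omega
  rw [Cfsg.Agent.H943.Cert.Bf_eq hb3, List.sum_toFinset _ (Cfsg.Agent.H943.Cert.nodup_digs 4 b)]
  rfl

theorem eig_triv {V : Type} [AddCommGroup V] [Module k V] [FiniteDimensional k V]
    (ρ : Representation k (_root_.Matrix.SpecialLinearGroup (Fin 2) F) V) (h1 : ∀ g x, ρ g x = x)
    (g : _root_.Matrix.SpecialLinearGroup (Fin 2) F) (μ : k) :
    Module.finrank k (eig ρ g μ) = if μ = 1 then Module.finrank k V else 0 := by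
  split_ifs with hμ
  · have h2 : eig ρ g μ = ⊤ := by
      rw [eq_top_iff]
      intro x _
      rw [mem_eig, h1, hμ, one_smul]
    rw [h2, finrank_top]
  · have h2 : eig ρ g μ = ⊥ := by
      rw [eq_bot_iff]
      intro x hx
      rw [mem_eig, h1] at hx
      have h3 : (1 - μ) • x = 0 := by rw [sub_smul, one_smul, ← hx, sub_self]
      rcases smul_eq_zero.1 h3 with h4 | h4
      · exact absurd (sub_eq_zero.1 h4).symm hμ
      · exact (Submodule.mem_bot k).2 h4
    rw [h2, finrank_bot]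

theorem PF_triv (hF : Fintype.card F = 81) (hlam : ∀ x, x ∈ Subgroup.zpowers lam) (f : ℕ → ℤ)
    {V : Type} [AddCommGroup V] [Module k V] [FiniteDimensional k V]
    (ρ : Representation k (_root_.Matrix.SpecialLinearGroup (Fin 2) F) V) (h1 : ∀ g x, ρ g x = x) :
    (PF ι lam hF f).psi ρ = f 0 * Module.finrank k V := by
  have hprim := primitive ι ι.injective hlam
  rw [show Fintype.card F - 1 = 80 by rw [hF]] at hprim
  rw [PF_eq, Finset.sum_eq_single 0]
  · rw [eig_triv ρ h1, pow_zero, if_pos rfl]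
  · intro κ hκ hκ0
    rw [eig_triv ρ h1, if_neg, Nat.cast_zero, mul_zero]
    intro h2
    have h3 := hprim.dvd_of_pow_eq_one κ h2
    have h4 := Nat.le_of_dvd (Nat.pos_of_ne_zero hκ0) h3
    have := Finset.mem_range.1 hκ
    omega
  · intro h2
    exact absurd (Finset.mem_range.2 (by norm_num)) h2

include ι in
/-- `V_0` is trivial -/
theorem b_ne_zero (hF : Fintype.card F = 81) (hW : _root_.Cfsg.Agent.H940.E8L.Inv ρ W) (hI : IrrIn ρ W) (hfix : NoFix ρ) {b : ℕ}
    (hb : b ≤ Fintype.card F - 1) (φ : Vb ι b ≃ₗ[k] W)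
    (hφ : ∀ g x, φ (rb ι 3 (odd_of hF) hb g x) = subRep ρ W hW g (φ x)) : b ≠ 0 := by
  rintro rfl
  apply hI.1
  rw [eq_bot_iff]
  intro x hx
  rw [Submodule.mem_bot]
  apply hfix
  intro g
  obtain ⟨f, hf⟩ := φ.surjective ⟨x, hx⟩
  have h3 := hφ g f
  have h4 : rb ι 3 (odd_of hF) hb g f = f := by
    apply Subtype.ext
    show fRep k F g (f : F × F → k) = (f : F × F → k)
    have h5 : ∀ f' ∈ Submodule.span k (mon ι 0 '' Bb k 0), fRep k F g f' = f' := by
      intro f' hf'
      induction hf' using Submodule.span_induction with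
      | mem g' hg =>
        obtain ⟨m, hm, rfl⟩ := hg
        have hm0 : m = 0 := Nat.le_zero.1 hm.1
        subst hm0
        funext z
        show mon ι 0 0 _ = mon ι 0 0 z
        unfold mon
        simp only [_root_.Fin.isValue, _root_.map_add, _root_.map_mul, _root_.pow_zero, _root_.tsub_self, _root_.mul_one]
      | zero => rw [map_zero]
      | add a c _ _ ha hc => rw [map_add, ha, hc]
      | smul a c _ hc => rw [map_smul, hc]
    exact h5 _ (Vb_le ι 0 f.2)
  rw [h4, hf] at h3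
  exact (congrArg Subtype.val h3).symm

/-- the hypothesis of the pressure lemma -/
theorem hE81 (hF : Fintype.card F = 81) (hlam : ∀ x, x ∈ Subgroup.zpowers lam) (f : ℕ → ℤ) {D : ℤ} (hD : 0 ≤ D)
    (hval : ∀ b ≤ 80, b ≠ 0 → val f b + (if exc b = true then D else 0) ≤ 0)
    (hW : _root_.Cfsg.Agent.H940.E8L.Inv ρ W) (hI : IrrIn ρ W) (htr : TrivMod ρ W) (hfix : NoFix ρ) :
    (PF ι lam hF f).psi (subRep ρ W hW) + D * Module.finrank k (E ⧸ W) ≤ 0 := by
  obtain ⟨b, hb, φ, hφ⟩ := irr_Vb ι ρ hF hW hI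
  have h0 := b_ne_zero ι ρ hF hW hI hfix hb φ hφ
  have h1 := quot_le ι ρ hF hW htr hfix hb φ hφ
  rw [PF_irr ι ρ hF hlam f hW hb φ hφ]
  have hq : Fintype.card F - 1 = 80 := by rw [hF]
  have h2 := hval b (by omega) h0
  split_ifs at h1 h2 with h3
  · have h4 : (Module.finrank k (E ⧸ W) : ℤ) ≤ 1 := by exact_mod_cast h1
    nlinarith only [hD, h1, h2]
  · have h4 : Module.finrank k (E ⧸ W) = 0 := Nat.le_zero.1 h1
    rw [h4, Nat.cast_zero, mul_zero]
    exact h2

/-- **pressure (1)** -/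
theorem press1 (hF : Fintype.card F = 81) (hlam : ∀ x, x ∈ Subgroup.zpowers lam) (f : ℕ → ℤ) (hD : 0 ≤ f 0)
    (hval : ∀ b ≤ 80, b ≠ 0 → val f b + (if exc b = true then f 0 else 0) ≤ 0) (hfix : NoFix ρ) :
    ∑ κ ∈ Finset.range 80, f κ * (Module.finrank k (eig ρ (h lam) (ι lam ^ κ)) : ℤ) ≤ 0 := by
  rw [← PF_eq ι hF f]
  exact pressure_one (PF ι lam hF f) (f 0) (perfect81 hF) (fun ρ h1 => (PF_triv ι hF hlam f ρ h1).le)
    (fun ρ W hW hI htr hfix => hE81 ι ρ hF hlam f hD hval hW hI htr hfix) _ ρ rfl hfix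

end Gen

/-! ### the functional of the classes 2 and 4 -/

/-- the orbit of a weight modulo 40 under multiplication by 3 and -1 -/
def orb (j : ℕ) : ℕ :=
  if j = 0 then 0 else if [1, 3, 9, 13, 27, 31, 37, 39].contains j then 1
  else if [2, 6, 14, 18, 22, 26, 34, 38].contains j then 2
  else if [4, 12, 28, 36].contains j then 3
  else if [5, 15, 25, 35].contains j then 4
  else if [7, 11, 17, 19, 21, 23, 29, 33].contains j then 5
  else if [8, 16, 24, 32].contains j then 6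
  else if [10, 30].contains j then 7
  else 8

/-- a functional given by its values on the orbits -/
def orbF (L : List ℤ) (κ : ℕ) : ℤ := if κ % 2 = 1 then 0 else L.getD (orb (κ / 2)) 0

def L24 : List ℤ := [2, -1, 0, 1, -1, 0, 1, 0, -2]

theorem L24_check : ((List.range 81).all fun b => b == 0 || decide (val (orbF L24) b + (if exc b = true then 2 else 0) ≤ 0)) =
    true := by (delta Cfsg.Agent.H525.E8L.val Cfsg.Agent.H525.E8L.orbF Cfsg.Agent.H525.E8L.exc Cfsg.Agent.H943.Cert.digs List.sum List.contains Cfsg.Agent.H943.Cert.digs._f Cfsg.Agent.H525.E8L.orb; rewrite [H90F.en_fun, H90F.bn_fun, H90F.dn_fun, H90F.ie_fun, H90F.ld_fun, H90F.al_fun, H90F.mp_fun, H90F.fr_fun, H90F.fm_fun]; decide +kernel)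

end Cfsg.Agent.H525.E8L
end

-- part: H940/E8L/Rank
section
/-!
# `L₂(81)`: the operators `E₂ i`, `F₂ i`, `Om`, `Ot` and the rank inequality `4 a ≤ 3 c` (helper940, for S5921)
-/

set_option autoImplicit false
set_option linter.unusedSectionVars false

namespace Cfsg.Agent.H940.E8L

open Matrix Cfsg.Agent.H943.SL2Rel Cfsg.Agent.H943.RepAdd

variable {k : Type*} [Field k] {F : Type*} [Field F] [Fintype F] (ι : F →+* k)
variable {V : Type*} [AddCommGroup V] [Module k V] (ρ : Representation k (_root_.Matrix.SpecialLinearGroup (Fin 2) F) V)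

/-- the operator `∑ t ^ (80 - 2 * 3 ^ i) u(t)` -/
noncomputable def E2 (i : ℕ) : Module.End k V := ∑ t : F, ι t ^ (80 - 2 * 3 ^ i) • ρ (u t)

/-- its conjugate by `w` -/
noncomputable def F2 (i : ℕ) : Module.End k V := ρ w * E2 ι ρ i * ρ w

/-- the operator `∑ F₂ i E₂ i` -/
noncomputable def Om : Module.End k V := ∑ i ∈ Finset.range 4, F2 ι ρ i * E2 ι ρ i

/-- the Hecke operator -/
noncomputable def Ot : Module.End k V := -(Om ι ρ + ρ w * Om ι ρ)

theorem E2_apply (i : ℕ) (X : V) : E2 ι ρ i X = ∑ t : F, ι t ^ (80 - 2 * 3 ^ i) • ρ (u t) X := by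
  unfold E2
  rw [LinearMap.sum_apply]
  rfl

theorem Om_apply (X : V) : Om ι ρ X = ∑ i ∈ Finset.range 4, ρ w (E2 ι ρ i (ρ w (E2 ι ρ i X))) := by
  unfold Om
  rw [LinearMap.sum_apply]
  rfl

theorem Ot_apply (X : V) : Ot ι ρ X = -(Om ι ρ X + ρ w (Om ι ρ X)) := rfl

/-- the fixed vectors of the normaliser of the torus -/
def A0 : Submodule k V where
  carrier := {X | (∀ a : Fˣ, ρ (h a) X = X) ∧ ρ w X = X}
  zero_mem' := ⟨fun a => map_zero _, map_zero _⟩
  add_mem' := fun {x y} hx hy => ⟨fun a => by rw [map_add, hx.1, hy.1], by rw [map_add, hx.2, hy.2]⟩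
  smul_mem' := fun c x hx => ⟨fun a => by rw [map_smul, hx.1], by rw [map_smul, hx.2]⟩

variable (hc : Fintype.card F = 81)

include hc in
theorem iota_pow (a : Fˣ) : ι (a : F) ^ 80 = 1 := by
  have h1 : (a : F) ^ 80 = 1 := by
    have := FiniteField.pow_card_sub_one_eq_one (a : F) a.ne_zero
    rwa [hc] at this
  rw [← map_pow, h1, map_one]

theorem le80 {i : ℕ} (hi : i < 4) : 2 * 3 ^ i ≤ 80 := by
  interval_cases i <;> norm_num

include hc in
/-- the torus scales `E₂ i` -/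
theorem h_E2 {i : ℕ} (hi : i < 4) (a : Fˣ) (X : V) :
    ρ (h a) (E2 ι ρ i X) = ι (a : F) ^ (4 * 3 ^ i) • E2 ι ρ i (ρ (h a) X) := by
  have ha : ι (a : F) ≠ 0 := (map_ne_zero ι).2 a.ne_zero
  have h80 := iota_pow ι hc a
  have hle := le80 hi
  rw [E2_apply, E2_apply, map_sum, Finset.smul_sum]
  refine Fintype.sum_bijective (fun t : F => (a : F) ^ 2 * t) ?_ _ _ fun t => ?_
  · exact mulLeft_bijective₀ _ (pow_ne_zero _ a.ne_zero)
  · rw [map_smul, ← Module.End.mul_apply, ← map_mul, h_u, map_mul, Module.End.mul_apply, smul_smul]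
    congr 1
    rw [map_mul, mul_pow, map_pow, ← pow_mul, ← mul_assoc, ← pow_add]
    have h1 : 4 * 3 ^ i + 2 * (80 - 2 * 3 ^ i) = 80 * 2 := by omega
    rw [h1, pow_mul, h80, one_pow, one_mul]

/-- the adjoint of `E₂ i` -/
theorem E2_adj {B : V →ₗ[k] V →ₗ[k] k} (hB : ∀ g x y, B (ρ g x) (ρ g y) = B x y) {i : ℕ} (x y : V) :
    B (E2 ι ρ i x) y = B x (E2 ι ρ i y) := by
  rw [E2_apply, E2_apply, map_sum, LinearMap.sum_apply, map_sum]
  refine Fintype.sum_bijective (fun t : F => -t) (neg_involutive.bijective) _ _ fun t => ?_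
  rw [map_smul, LinearMap.smul_apply, map_smul, map_neg, Even.neg_pow]
  · congr 1
    have h1 := hB (u t) x (ρ (u (-t)) y)
    rw [← Module.End.mul_apply, ← map_mul, ← u_add, add_neg_cancel, u_zero, map_one, Module.End.one_apply] at h1
    exact h1
  · rcases Nat.le_total (2 * 3 ^ i) 80 with h0 | h0
    · exact (Nat.even_sub h0).2 (by simp only [parity_simps, _root_.Nat.even_add_one, _root_.even_two, _root_.not_true_eq_false, _root_.not_false_eq_true, _root_.Even.mul_right])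
    · rw [Nat.sub_eq_zero_of_le h0]
      exact Even.zero

theorem adj {G : Type*} [Group G] {ρ : Representation k G V} {B : V →ₗ[k] V →ₗ[k] k}
    (hB : ∀ g x y, B (ρ g x) (ρ g y) = B x y) (g : G) (x y : V) : B (ρ g x) y = B x (ρ g⁻¹ y) := by
  have h1 := hB g x (ρ g⁻¹ y)
  rwa [← Module.End.mul_apply, ← map_mul, mul_inv_cancel, map_one, Module.End.one_apply] at h1

theorem inv_fix {G : Type*} [Group G] {ρ : Representation k G V} {g : G} {x : V} (hx : ρ g x = x) : ρ g⁻¹ x = x := by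
  conv_lhs => rw [← hx]
  rw [← Module.End.mul_apply, ← map_mul, inv_mul_cancel, map_one, Module.End.one_apply]

theorem B_Om {B : V →ₗ[k] V →ₗ[k] k} (hB : ∀ g x y, B (ρ g x) (ρ g y) = B x y) {X Y : V} (hY : ρ w Y = Y) :
    B (Om ι ρ X) Y = ∑ i ∈ Finset.range 4, B (ρ w (E2 ι ρ i X)) (E2 ι ρ i Y) := by
  rw [Om_apply, map_sum, LinearMap.sum_apply]
  refine Finset.sum_congr rfl fun i _ => ?_
  rw [adj hB, inv_fix hY, E2_adj ι ρ hB]

theorem B_Ot [CharP k 3] {B : V →ₗ[k] V →ₗ[k] k} (hB : ∀ g x y, B (ρ g x) (ρ g y) = B x y) {X Y : V}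
    (hY : ρ w Y = Y) : B (Ot ι ρ X) Y = ∑ i ∈ Finset.range 4, B (ρ w (E2 ι ρ i X)) (E2 ι ρ i Y) := by
  rw [Ot_apply, map_neg, LinearMap.neg_apply, map_add, LinearMap.add_apply, adj hB, inv_fix hY, B_Om ι ρ hB hY]
  have h3 : (3 : k) = 0 := by exact_mod_cast CharP.cast_eq_zero k 3
  linear_combination -(∑ i ∈ Finset.range 4, B (ρ w (E2 ι ρ i X)) (E2 ι ρ i Y)) * h3

include hc in
theorem h_Om (a : Fˣ) (X : V) : ρ (h a) (Om ι ρ X) = Om ι ρ (ρ (h a) X) := by
  have ha : ι (a : F) ≠ 0 := (map_ne_zero ι).2 a.ne_zero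
  rw [Om_apply, Om_apply, map_sum]
  refine Finset.sum_congr rfl fun i hi => ?_
  have hi' := Finset.mem_range.1 hi
  have hw : ∀ (b : Fˣ) (x : V), ρ (h b) (ρ w x) = ρ w (ρ (h b⁻¹) x) := fun b x => by
    rw [← Module.End.mul_apply, ← map_mul, h_w, map_mul, Module.End.mul_apply]
  rw [hw, h_E2 ι ρ hc hi', map_smul, hw, inv_inv, h_E2 ι ρ hc hi', map_smul, map_smul, map_smul, smul_smul]
  have h1 : ι ((a⁻¹ : Fˣ) : F) ^ (4 * 3 ^ i) * ι (a : F) ^ (4 * 3 ^ i) = 1 := by
    rw [← mul_pow, ← map_mul, ← Units.val_mul, inv_mul_cancel, Units.val_one, map_one, one_pow]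
  rw [h1, one_smul]

include hc in
/-- `Ot` preserves `A0` -/
theorem Ot_mem (hneg : ρ (h (-1)) = 1) {X : V} (hX : X ∈ A0 ρ) : Ot ι ρ X ∈ A0 ρ := by
  obtain ⟨h1, h2⟩ := hX
  have hO : ∀ a : Fˣ, ρ (h a) (Om ι ρ X) = Om ι ρ X := fun a => by rw [h_Om ι ρ hc, h1]
  have hw : ∀ (b : Fˣ) (x : V), ρ (h b) (ρ w x) = ρ w (ρ (h b⁻¹) x) := fun b x => by
    rw [← Module.End.mul_apply, ← map_mul, h_w, map_mul, Module.End.mul_apply]
  have hww : ∀ x : V, ρ w (ρ w x) = x := fun x => by
    rw [← Module.End.mul_apply, ← map_mul, w_w, hneg, Module.End.one_apply]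
  refine ⟨fun a => ?_, ?_⟩
  · rw [Ot_apply, map_neg, map_add, hw, hO, hO]
  · rw [Ot_apply, map_neg, map_add, hww, add_comm]

/-- `E₂ i` maps `A0` into an eigenspace -/
theorem E2_mem (hc : Fintype.card F = 81) {i : ℕ} (hi : i < 4) (a : Fˣ) {X : V} (hX : X ∈ A0 ρ) :
    E2 ι ρ i X ∈ eig ρ (h a) (ι (a : F) ^ (4 * 3 ^ i)) := by
  rw [mem_eig, h_E2 ι ρ hc hi, hX.1]

/-- nilpotent of index `3` -/
theorem finrank_le_three {W : Type*} [AddCommGroup W] [Module k W] [FiniteDimensional k W] (N : Module.End k W)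
    (hN : N * N * N = 0) : Module.finrank k W ≤ 3 * Module.finrank k (LinearMap.ker N) := by
  have key : ∀ (A B : Module.End k W), Module.finrank k (LinearMap.ker (A * B)) ≤
      Module.finrank k (LinearMap.ker A) + Module.finrank k (LinearMap.ker B) := by
    intro A B
    let f : LinearMap.ker (A * B) →ₗ[k] LinearMap.ker A := B.restrict (fun x hx => by
      rw [LinearMap.mem_ker] at hx ⊢
      exact hx)
    have h1 := LinearMap.finrank_range_add_finrank_ker f
    have h2 : Module.finrank k (LinearMap.range f) ≤ Module.finrank k (LinearMap.ker A) := Submodule.finrank_le _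
    have h3 : Module.finrank k (LinearMap.ker f) ≤ Module.finrank k (LinearMap.ker B) := by
      refine LinearMap.finrank_le_finrank_of_injective (f := ({
        toFun := fun x => ⟨((x : LinearMap.ker (A * B)) : W), ?_⟩
        map_add' := fun x y => rfl
        map_smul' := fun c x => rfl } : LinearMap.ker f →ₗ[k] LinearMap.ker B)) ?_
      · have h4 : f x = 0 := x.2
        have h5 := congrArg Subtype.val h4
        exact h5
      · intro x y e
        apply Subtype.ext
        apply Subtype.ext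
        exact congrArg (fun z : LinearMap.ker B => (z : W)) e
    omega
  have h1 := key (N * N) N
  have h2 := key N N
  rw [hN] at h1
  rw [LinearMap.ker_zero, finrank_top] at h1
  omega

include hc in
theorem h_pow80 (lam : Fˣ) : (h lam) ^ 80 = 1 := by
  rw [← h_pow]
  have h1 : lam ^ 80 = 1 := by
    apply Units.ext
    have := FiniteField.pow_card_sub_one_eq_one (lam : F) lam.ne_zero
    rw [hc] at this
    rw [Units.val_pow_eq_pow_val, this, Units.val_one]
  rw [h1, h_one]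

include hc in
/-- **the rank inequality** -/
theorem rank_le [CharP k 3] [FiniteDimensional k V] (hneg : ρ (h (-1)) = 1) {B : V →ₗ[k] V →ₗ[k] k}
    (hB : ∀ g x y, B (ρ g x) (ρ g y) = B x y) (hnd : ∀ x, (∀ y, B x y = 0) → x = 0)
    (h3 : ∀ X ∈ A0 ρ, Ot ι ρ (Ot ι ρ (Ot ι ρ X)) = 0)
    (hinj : ∀ X ∈ A0 ρ, (∀ i < 4, E2 ι ρ i X = 0) → X = 0) (lam : Fˣ) :
    4 * Module.finrank k (A0 ρ) ≤
      3 * ∑ i ∈ Finset.range 4, Module.finrank k (eig ρ (h lam) (ι (lam : F) ^ (4 * 3 ^ i))) := by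
  classical
  let μ : Fin 4 → k := fun i => ι (lam : F) ^ (4 * 3 ^ (i : ℕ))
  have hμ80 : ∀ i, μ i ^ 80 = 1 := fun i => by
    show (ι (lam : F) ^ (4 * 3 ^ (i : ℕ))) ^ 80 = 1
    rw [← pow_mul, mul_comm, pow_mul, iota_pow ι hc, one_pow]
  have hμ0 : ∀ i, μ i ≠ 0 := fun i => pow_ne_zero _ ((map_ne_zero ι).2 lam.ne_zero)
  have h80 : ((80 : ℕ) : k) ≠ 0 := by
    have h3 : (3 : k) = 0 := by exact_mod_cast CharP.cast_eq_zero k 3
    intro h0
    have h1 : (1 : k) = 0 := by
      push_cast at h0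
      linear_combination 27 * h3 - h0
    exact one_ne_zero h1
  let U := (i : Fin 4) → eig ρ (h lam) (μ i)
  have hU : Module.finrank k U = ∑ i ∈ Finset.range 4, Module.finrank k (eig ρ (h lam) (ι (lam : F) ^ (4 * 3 ^ i))) := by
    rw [Module.finrank_pi_fintype, Finset.sum_range]
  -- the form on `U`
  let β : U →ₗ[k] Module.Dual k U :=
    { toFun := fun x =>
        { toFun := fun y => ∑ i, B (ρ w (x i : V)) (y i : V)
          map_add' := fun y z => by
            rw [← Finset.sum_add_distrib]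
            refine Finset.sum_congr rfl fun i _ => ?_
            rw [Pi.add_apply, Submodule.coe_add, map_add]
          map_smul' := fun c y => by
            rw [RingHom.id_apply, Finset.smul_sum]
            refine Finset.sum_congr rfl fun i _ => ?_
            rw [Pi.smul_apply, Submodule.coe_smul, map_smul] }
      map_add' := fun x z => by
        refine LinearMap.ext fun y => ?_
        show ∑ i, B (ρ w ((x + z) i : V)) (y i : V) = ∑ i, B (ρ w (x i : V)) (y i : V) + ∑ i, B (ρ w (z i : V)) (y i : V)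
        rw [← Finset.sum_add_distrib]
        refine Finset.sum_congr rfl fun i _ => ?_
        rw [Pi.add_apply, Submodule.coe_add, map_add, map_add, LinearMap.add_apply]
      map_smul' := fun c x => by
        refine LinearMap.ext fun y => ?_
        show ∑ i, B (ρ w ((c • x) i : V)) (y i : V) = c • ∑ i, B (ρ w (x i : V)) (y i : V)
        rw [Finset.smul_sum]
        refine Finset.sum_congr rfl fun i _ => ?_
        rw [Pi.smul_apply, Submodule.coe_smul, map_smul, map_smul, LinearMap.smul_apply] }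
  have hβ : ∀ x y : U, β x y = ∑ i, B (ρ w (x i : V)) (y i : V) := fun _ _ => rfl
  have hβinj : Function.Injective β := by
    rw [injective_iff_map_eq_zero]
    intro x hx
    funext i
    have h1 : ∀ v ∈ eig ρ (h lam) (μ i), B (ρ w (x i : V)) v = 0 := by
      intro v hv
      have h2 := LinearMap.congr_fun hx (Pi.single i ⟨v, hv⟩)
      rw [hβ, Finset.sum_eq_single i] at h2
      · rw [Pi.single_eq_same] at h2
        exact h2
      · intro j _ hj
        rw [Pi.single_eq_of_ne hj, Submodule.coe_zero, map_zero]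
      · intro hi
        exact absurd (Finset.mem_univ _) hi
    have h2 : ρ w (x i : V) ∈ eig ρ (h lam) (μ i)⁻¹ := by
      have h4 := (mem_eig ρ).1 (x i).2
      rw [mem_eig]
      have h5 : ρ (h lam⁻¹) (x i : V) = (μ i)⁻¹ • (x i : V) := by
        have h6 : ρ (h lam⁻¹) (ρ (h lam) (x i : V)) = (x i : V) := by
          rw [← Module.End.mul_apply, ← map_mul, ← h_mul, inv_mul_cancel, h_one, map_one, Module.End.one_apply]
        rw [h4, map_smul] at h6
        conv_rhs => rw [← h6]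
        rw [smul_smul, inv_mul_cancel₀ (hμ0 i), one_smul]
      rw [← Module.End.mul_apply, ← map_mul, h_w, map_mul, Module.End.mul_apply, h5, map_smul]
    have h4 : ρ w (x i : V) = 0 := by
      apply hnd
      intro y
      rw [← proj_of_mem ρ h80 (inv_ne_zero (hμ0 i)) h2, proj_adj hB (h lam) 80 (h_pow80 hc lam)
        (by rw [inv_pow, hμ80, inv_one]), inv_inv]
      exact h1 _ (proj_mem ρ (by rw [← map_pow, h_pow80 hc, map_one]) (hμ80 i) (hμ0 i) y)
    apply Subtype.ext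
    have h5 : ρ w⁻¹ (ρ w (x i : V)) = (x i : V) := by
      rw [← Module.End.mul_apply, ← map_mul, inv_mul_cancel, map_one, Module.End.one_apply]
    rw [← h5, h4, map_zero]
    rfl
  have hβsurj : Function.Surjective β :=
    (LinearMap.injective_iff_surjective_of_finrank_eq_finrank (by exact (Subspace.dual_finrank_eq).symm)).1 hβinj
  -- the map `Θ`
  let Θ : A0 ρ →ₗ[k] U :=
    { toFun := fun X i => ⟨E2 ι ρ i (X : V), E2_mem ι ρ hc i.2 lam X.2⟩
      map_add' := fun X Y => by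
        funext i
        apply Subtype.ext
        show E2 ι ρ i ((X : V) + (Y : V)) = _
        rw [map_add]
        rfl
      map_smul' := fun c X => by
        funext i
        apply Subtype.ext
        show E2 ι ρ i (c • (X : V)) = _
        rw [map_smul]
        rfl }
  have hΘ : Function.Injective Θ := by
    rw [injective_iff_map_eq_zero]
    intro X hX
    apply Subtype.ext
    refine hinj X X.2 fun i hi => ?_
    have h1 := congrFun hX ⟨i, hi⟩
    exact congrArg Subtype.val h1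
  let f : U →ₗ[k] Module.Dual k (A0 ρ) := Θ.dualMap.comp β
  have hf : Function.Surjective f := (LinearMap.dualMap_surjective_of_injective hΘ).comp hβsurj
  have hfk : Module.finrank k (LinearMap.ker f) + Module.finrank k (A0 ρ) = Module.finrank k U := by
    have h1 := LinearMap.finrank_range_add_finrank_ker f
    rw [LinearMap.range_eq_top.2 hf, finrank_top, Subspace.dual_finrank_eq] at h1
    omega
  -- the operator on `A0`
  let N : Module.End k (A0 ρ) := (Ot ι ρ).restrict fun X hX => Ot_mem ι ρ hc hneg hX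
  have hN : N * N * N = 0 := by
    ext X
    exact (h3 X X.2 :)
  have hNk : Module.finrank k (LinearMap.ker N) ≤ Module.finrank k (LinearMap.ker f) := by
    refine LinearMap.finrank_le_finrank_of_injective (f := (Θ.comp (LinearMap.ker N).subtype).codRestrict
      (LinearMap.ker f) ?_) ?_
    · intro X
      rw [LinearMap.mem_ker]
      ext Y
      have h1 : N X = 0 := X.2
      have h2 : Ot ι ρ ((X : A0 ρ) : V) = 0 := congrArg Subtype.val h1
      have h4 := B_Ot ι ρ hB (X := ((X : A0 ρ) : V)) Y.2.2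
      rw [h2, map_zero, LinearMap.zero_apply, Finset.sum_range] at h4
      exact h4.symm
    · intro X Y e
      apply Subtype.ext
      apply hΘ
      exact congrArg Subtype.val e
  have h4 := finrank_le_three N hN
  rw [← hU]
  omega

end Cfsg.Agent.H940.E8L
end

-- part: H525/E8L/POne
section
/-!
# The first class for `SL(2, 81)` (helper525, S5921)

Modules all of whose composition factors are `V_b`, `b` in `[0, 2, 4, 6, 10, 12, 18, 28, 30, 36, 40, 54]`.
-/

set_option autoImplicit false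
set_option linter.unusedSectionVars false
set_option maxRecDepth 100000

namespace Cfsg.Agent.H525.E8L

open Matrix Cfsg.Agent.H943.SL2Rel Cfsg.Agent.H943.RepAdd Cfsg.Agent.H940.E8L
open Cfsg.Agent.H943.SL2Mod hiding Inv finrank_eig_iso

/-! ### the tables -/

/-- the functional -/
def L1 : List ℤ := [0, 0, 0, 1, -1, 2, 3, -2, -12]

/-- the composition factors -/
def allow (b : ℕ) : Bool := [0, 2, 4, 6, 10, 12, 18, 28, 30, 36, 40, 54].contains b

/-- the functional for the dimension of `A0` -/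
def Lg : List ℤ := [2, -1, 1, 0, 0, 0, 0, 0, 0]

theorem L1_nonneg : ((List.range 81).all fun b => decide (0 ≤ val (orbF L1) b)) = true := by (delta Cfsg.Agent.H525.E8L.val Cfsg.Agent.H525.E8L.orbF Cfsg.Agent.H943.Cert.digs List.sum List.contains Cfsg.Agent.H943.Cert.digs._f Cfsg.Agent.H525.E8L.orb; rewrite [H90F.en_fun, H90F.dn_fun, H90F.ie_fun, H90F.ld_fun, H90F.al_fun, H90F.mp_fun, H90F.fr_fun, H90F.fm_fun]; decide +kernel)

theorem L1_zero : ((List.range 81).all fun b => b % 2 == 1 || (allow b || decide (val (orbF L1) b ≠ 0))) = true := by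
  (delta Cfsg.Agent.H525.E8L.orbF Cfsg.Agent.H525.E8L.val Cfsg.Agent.H525.E8L.allow Cfsg.Agent.H943.Cert.digs List.sum List.contains Cfsg.Agent.H943.Cert.digs._f Cfsg.Agent.H525.E8L.orb; rewrite [H90F.en_fun, H90F.bn_fun, H90F.dn_fun, H90F.dz_fun, H90F.ld_fun, H90F.al_fun, H90F.mp_fun, H90F.fr_fun, H90F.fm_fun]; decide +kernel)

theorem Lg_check : ((List.range 81).all fun b => !allow b || decide (val (orbF Lg) b ≤ if b = 0 then 2 else 0)) =
    true := by decide +kernel

theorem wt_check : ((List.range 81).all fun b => !allow b || (b == 0 || (Cfsg.Agent.H943.Cert.digs 4 b).all fun m =>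
    (wtOf 80 b m != 0) || (2 * m == b && m % 2 == 1))) = true := by decide +kernel

theorem all81 {P : ℕ → Bool} (h : (List.range 81).all P = true) {b : ℕ} (hb : b ≤ 80) : P b = true :=
  List.all_eq_true.1 h b (List.mem_range.2 (by omega))

section Gen

variable {F : Type} [Field F] [Fintype F] [DecidableEq F] [CharP F 3] {k : Type} [Field k] [DecidableEq k]
  [IsAlgClosed k] [CharP k 3] (ι : F →+* k)

/-! ### the fixed vectors of the normaliser of the torus on `V_b` -/

/-- the coordinates of a vector of weight zero -/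
theorem A0_Vb (hF : Fintype.card F = 81) {b : ℕ} (hb : b ≤ Fintype.card F - 1) (hal : allow b = true) (hb0 : b ≠ 0)
    {Y : Vb ι b} (hY : Y ∈ A0 (rb ι 3 (odd_of hF) hb)) : Y = 0 := by
  have hfac : Fact (Nat.Prime 3) := ⟨Nat.prime_three⟩
  have hq : Fintype.card F - 1 = 80 := by rw [hF]
  obtain ⟨lam, hlam⟩ := IsCyclic.exists_generator (α := Fˣ)
  have hprim := primitive ι ι.injective hlam
  rw [hq] at hprim
  have h2 : (2 : k) ≠ 0 := by
    have h3 : ((2 : ℕ) : k) ≠ 0 := by rw [Ne, CharP.cast_eq_zero_iff k 3]; norm_num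
    exact_mod_cast h3
  obtain ⟨e, he⟩ := exists_coord ι 3 ι.injective (odd_of hF) hb
  obtain ⟨x, rfl⟩ := e.surjective Y
  obtain ⟨hh1, hw1⟩ := hY
  -- the coordinates
  have hc : ∀ m : Bf k b, x m ≠ 0 → 2 * (m : ℕ) = b ∧ (m : ℕ) % 2 = 1 := by
    intro m hm
    have h3 : e (fun m : Bf k b => (ι lam ^ (m : ℕ) * (ι lam)⁻¹ ^ (b - m)) * x m) = e x := by
      rw [← hh1 lam]
      apply Subtype.ext
      show _ = fRep k F (h lam) ((e x : Vb ι b) : F × F → k)
      rw [he, he, map_sum]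
      refine Finset.sum_congr rfl fun m _ => ?_
      rw [map_smul, h_mon, smul_smul, mul_comm]
    have h4 := congrFun (e.injective h3) m
    have h5 : ι lam ^ (m : ℕ) * (ι lam)⁻¹ ^ (b - m) = 1 := by
      have h6 : (ι lam ^ (m : ℕ) * (ι lam)⁻¹ ^ (b - m)) * x m = 1 * x m := by rw [one_mul]; exact h4
      exact mul_right_cancel₀ hm h6
    have h6 : wtOf 80 b m = 0 := by
      have h7 : ι lam ^ (m : ℕ) * (ι lam)⁻¹ ^ (b - m) = ι lam ^ ((m : ℕ) + (80 - 1) * (b - m)) := by
        have h8 : (ι lam : k)⁻¹ = ι lam ^ (80 - 1) := by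
          apply inv_eq_of_mul_eq_one_left
          rw [← pow_succ]
          exact hprim.pow_eq_one
        rw [h8, ← pow_mul, ← pow_add]
      rw [h7] at h5
      have h8 := hprim.dvd_of_pow_eq_one _ h5
      unfold wtOf
      exact Nat.mod_eq_zero_of_dvd h8
    have h7 := all81 wt_check (b := b) (by omega)
    have hmd : (m : ℕ) ∈ Cfsg.Agent.H943.Cert.digs 4 b := by
      have h8 : ∀ m ∈ Bf k b, m ∈ Cfsg.Agent.H943.Cert.digs 4 b := fun m hm => by
        rw [Cfsg.Agent.H943.Cert.Bf_eq (n := 4) (by norm_num; omega), List.mem_toFinset] at hm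
        exact hm
      exact h8 _ m.2
    simp only [hal, Bool.not_true, Bool.false_or, Bool.or_eq_true, beq_iff_eq, List.all_eq_true, bne_iff_ne,
      Bool.and_eq_true] at h7
    rcases h7 with h7 | h7
    · exact absurd h7 hb0
    · rcases h7 _ hmd with h8 | h8
      · exact absurd h6 h8
      · exact h8
  -- the action of `w`
  have hx0 : x = 0 := by
    funext m
    by_contra hm
    obtain ⟨h3, h4⟩ := hc m hm
    have hex : (e x : F × F → k) = x m • mon ι b m := by
      rw [he, Finset.sum_eq_single m]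
      · intro m' _ hne
        by_cases hm' : x m' = 0
        · rw [hm', zero_smul]
        · obtain ⟨h5, -⟩ := hc m' hm'
          exact absurd (Subtype.ext (by omega)) hne
      · exact fun h5 => absurd (Finset.mem_univ _) h5
    have h5 := congrArg Subtype.val hw1
    have h6 : fRep k F w (e x : F × F → k) = (e x : F × F → k) := h5
    rw [hex, map_smul] at h6
    have h7 := congrFun h6 (1, 1)
    have h8 : x m * fRep k F w (mon ι b m) (1, 1) = x m * mon ι b m (1, 1) := h7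
    have h9 : mon ι b m ((1 : F), (1 : F)) = 1 := by
      unfold mon
      rw [map_one, one_pow, one_pow, one_mul]
    have h10 : fRep k F w (mon ι b m) ((1 : F), (1 : F)) = -1 := by
      show ι (1 * (w : _root_.Matrix.SpecialLinearGroup (Fin 2) F).1 0 0 + 1 * (w : _root_.Matrix.SpecialLinearGroup (Fin 2) F).1 1 0) ^ (m : ℕ) *
        ι (1 * (w : _root_.Matrix.SpecialLinearGroup (Fin 2) F).1 0 1 + 1 * (w : _root_.Matrix.SpecialLinearGroup (Fin 2) F).1 1 1) ^ (b - m) = -1
      have h11 : (w : _root_.Matrix.SpecialLinearGroup (Fin 2) F).1 = !![0, 1; -1, 0] := rfl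
      rw [h11]
      simp only [Matrix.of_apply, Matrix.cons_val_zero, Matrix.cons_val_one, Matrix.cons_val', Matrix.cons_val_fin_one,
        one_mul, zero_add, add_zero, map_neg, map_one, one_pow, mul_one]
      exact (Nat.odd_iff.2 h4).neg_one_pow
    rw [h9, h10, mul_one, mul_neg_one] at h8
    apply hm
    have h11 : (2 : k) * x m = 0 := by linear_combination -h8
    exact (mul_eq_zero.1 h11).resolve_left h2
  rw [hx0, map_zero]

variable {lam : Fˣ} {V : Type} [AddCommGroup V] [Module k V] [FiniteDimensional k V]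
  (ρ : Representation k (_root_.Matrix.SpecialLinearGroup (Fin 2) F) V) {W : Submodule k V}

theorem A0_W (hF : Fintype.card F = 81) (hW : _root_.Cfsg.Agent.H940.E8L.Inv ρ W) {b : ℕ} (hb : b ≤ Fintype.card F - 1) (φ : Vb ι b ≃ₗ[k] W)
    (hφ : ∀ g x, φ (rb ι 3 (odd_of hF) hb g x) = subRep ρ W hW g (φ x)) (hal : allow b = true) (hb0 : b ≠ 0)
    {X : V} (hXW : X ∈ W) (hX : X ∈ A0 ρ) : X = 0 := by
  obtain ⟨Y, hY⟩ := φ.surjective ⟨X, hXW⟩
  have h1 : Y ∈ A0 (rb ι 3 (odd_of hF) hb) := by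
    refine ⟨fun a => φ.injective ?_, φ.injective ?_⟩
    · rw [hφ, hY]
      exact Subtype.ext (hX.1 a)
    · rw [hφ, hY]
      exact Subtype.ext hX.2
  have h2 := A0_Vb ι hF hb hal hb0 h1
  rw [h2, map_zero] at hY
  exact (congrArg Subtype.val hY).symm

theorem V0_triv (hF : Fintype.card F = 81) (hW : _root_.Cfsg.Agent.H940.E8L.Inv ρ W) (hb : 0 ≤ Fintype.card F - 1) (φ : Vb ι 0 ≃ₗ[k] W)
    (hφ : ∀ g x, φ (rb ι 3 (odd_of hF) hb g x) = subRep ρ W hW g (φ x)) {x : V} (hx : x ∈ W)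
    (g : _root_.Matrix.SpecialLinearGroup (Fin 2) F) : ρ g x = x := by
  obtain ⟨f, hf⟩ := φ.surjective ⟨x, hx⟩
  have h3 := hφ g f
  have h4 : rb ι 3 (odd_of hF) hb g f = f := by
    apply Subtype.ext
    show fRep k F g (f : F × F → k) = (f : F × F → k)
    have h5 : ∀ f' ∈ Submodule.span k (mon ι 0 '' Bb k 0), fRep k F g f' = f' := by
      intro f' hf'
      induction hf' using Submodule.span_induction with
      | mem g' hg =>
        obtain ⟨m, hm, rfl⟩ := hg
        have hm0 : m = 0 := Nat.le_zero.1 hm.1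
        subst hm0
        funext z
        show mon ι 0 0 _ = mon ι 0 0 z
        unfold mon
        simp only [_root_.Fin.isValue, _root_.map_add, _root_.map_mul, _root_.pow_zero, _root_.tsub_self, _root_.mul_one]
      | zero => rw [map_zero]
      | add a c _ _ ha hc => rw [map_add, ha, hc]
      | smul a c _ hc => rw [map_smul, hc]
    exact h5 _ (Vb_le ι 0 f.2)
  rw [h4, hf] at h3
  exact (congrArg Subtype.val h3).symm

/-! ### the induction -/

theorem psi_nonneg (hF : Fintype.card F = 81) (hlam : ∀ x, x ∈ Subgroup.zpowers lam) (n : ℕ) :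
    ∀ {V : Type} [AddCommGroup V] [Module k V] [FiniteDimensional k V]
      (ρ : Representation k (_root_.Matrix.SpecialLinearGroup (Fin 2) F) V), Module.finrank k V = n →
      0 ≤ (PF ι lam hF (orbF L1)).psi ρ := by
  induction n using Nat.strong_induction_on with
  | _ n ih =>
  intro V _ _ _ ρ hn
  rcases subsingleton_or_nontrivial V with hV | hV
  · rw [PF_eq]
    refine Finset.sum_nonneg fun κ _ => ?_
    rw [Module.finrank_zero_of_subsingleton, Nat.cast_zero, mul_zero]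
  · obtain ⟨W, hW, hW0, hmin⟩ := exists_irr_sub ρ
    obtain ⟨b, hb, φ, hφ⟩ := irr_Vb ι ρ hF hW ⟨hW0, hmin⟩
    have h1 := PF_irr ι ρ hF hlam (orbF L1) hW hb φ hφ
    have h2 := all81 L1_nonneg (b := b) (by omega)
    have h3 : Module.finrank k (V ⧸ W) < n := by
      have h4 := Submodule.finrank_quotient_add_finrank W
      have h5 : Module.finrank k W ≠ 0 := fun h => hW0 (Submodule.finrank_eq_zero.1 h)
      omega
    have h4 := ih _ h3 (quotRep ρ W hW) rfl
    have h5 := (PF ι lam hF (orbF L1)).add ρ W hW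
    have h6 := of_decide_eq_true h2
    rw [h5, h1]
    omega

/-- the class of modules -/
structure OK (lam : Fˣ) (hF : Fintype.card F = 81) (ρ : Representation k (_root_.Matrix.SpecialLinearGroup (Fin 2) F) V) : Prop where
  neg : ρ (h (-1)) = 1
  psi : (PF ι lam hF (orbF L1)).psi ρ = 0

theorem step (hF : Fintype.card F = 81) (hlam : ∀ x, x ∈ Subgroup.zpowers lam) [Nontrivial V] (hρ : OK ι lam hF ρ) :
    ∃ (W : Submodule k V) (hW : _root_.Cfsg.Agent.H940.E8L.Inv ρ W) (b : ℕ) (hb : b ≤ Fintype.card F - 1) (φ : Vb ι b ≃ₗ[k] W),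
      (∀ g x, φ (rb ι 3 (odd_of hF) hb g x) = subRep ρ W hW g (φ x)) ∧ allow b = true ∧ W ≠ ⊥ ∧
      OK ι lam hF (quotRep ρ W hW) := by
  have hfac : Fact (Nat.Prime 3) := ⟨Nat.prime_three⟩
  obtain ⟨W, hW, hW0, hmin⟩ := exists_irr_sub ρ
  obtain ⟨b, hb, φ, hφ⟩ := irr_Vb ι ρ hF hW ⟨hW0, hmin⟩
  have h1 := PF_irr ι ρ hF hlam (orbF L1) hW hb φ hφ
  have h2 := of_decide_eq_true (all81 L1_nonneg (b := b) (by omega))
  have h4 := psi_nonneg ι hF hlam _ (quotRep ρ W hW) rfl
  have h5 := (PF ι lam hF (orbF L1)).add ρ W hW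
  have h6 := hρ.psi
  have e1 : subRep ρ W hW (h (-1)) = 1 := by
    refine LinearMap.ext fun x => Subtype.ext ?_
    rw [coe_subRep, hρ.neg]
    rfl
  have hev : Even b := by
    apply even_of_h_neg_one ι 3 (by norm_num) (odd_of hF) hb
    refine LinearMap.ext fun x => φ.injective ?_
    rw [hφ, e1]
    rfl
  refine ⟨W, hW, b, hb, φ, hφ, ?_, hW0, ?_, ?_⟩
  · have h7 := all81 L1_zero (b := b) (by omega)
    have h8 : val (orbF L1) b = 0 := by omega
    have h9 : b % 2 = 0 := Nat.even_iff.1 hev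
    simpa [h8, h9] using h7
  · refine LinearMap.ext fun x => ?_
    obtain ⟨y, rfl⟩ := W.mkQ_surjective x
    rw [quotRep_mk, hρ.neg]
    rfl
  · omega

theorem quot_lt (hW0 : W ≠ ⊥) : Module.finrank k (V ⧸ W) < Module.finrank k V := by
  have h4 := Submodule.finrank_quotient_add_finrank W
  have h5 : Module.finrank k W ≠ 0 := fun h => hW0 (Submodule.finrank_eq_zero.1 h)
  omega

theorem A0_quot (hW : _root_.Cfsg.Agent.H940.E8L.Inv ρ W) {X : V} (hX : X ∈ A0 ρ) : W.mkQ X ∈ A0 (quotRep ρ W hW) := by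
  refine ⟨fun a => ?_, ?_⟩
  · rw [quotRep_mk, hX.1]
  · rw [quotRep_mk, hX.2]

theorem E2_quot (hW : _root_.Cfsg.Agent.H940.E8L.Inv ρ W) (i : ℕ) (X : V) : E2 ι (quotRep ρ W hW) i (W.mkQ X) = W.mkQ (E2 ι ρ i X) := by
  rw [E2_apply, E2_apply, map_sum]
  refine Finset.sum_congr rfl fun t _ => ?_
  rw [quotRep_mk, map_smul]

theorem Om_quot (hW : _root_.Cfsg.Agent.H940.E8L.Inv ρ W) (X : V) : Om ι (quotRep ρ W hW) (W.mkQ X) = W.mkQ (Om ι ρ X) := by
  rw [Om_apply, Om_apply, map_sum]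
  refine Finset.sum_congr rfl fun i _ => ?_
  rw [E2_quot, quotRep_mk, E2_quot, quotRep_mk]

theorem Ot_quot (hW : _root_.Cfsg.Agent.H940.E8L.Inv ρ W) (X : V) : Ot ι (quotRep ρ W hW) (W.mkQ X) = W.mkQ (Ot ι ρ X) := by
  rw [Ot_apply, Ot_apply, Om_quot, quotRep_mk, map_neg, map_add]

/-- **(N)** -/
theorem no_neg_one (hF : Fintype.card F = 81) (hlam : ∀ x, x ∈ Subgroup.zpowers lam) (n : ℕ) :
    ∀ {V : Type} [AddCommGroup V] [Module k V] [FiniteDimensional k V]
      (ρ : Representation k (_root_.Matrix.SpecialLinearGroup (Fin 2) F) V), Module.finrank k V = n → OK ι lam hF ρ →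
      ∀ X ∈ A0 ρ, Ot ι ρ X = -X → X = 0 := by
  induction n using Nat.strong_induction_on with
  | _ n ih =>
  intro V _ _ _ ρ hn hρ X hX hO
  rcases subsingleton_or_nontrivial V with hV | hV
  · exact Subsingleton.elim _ _
  · obtain ⟨W, hW, b, hb, φ, hφ, hal, hW0, hq⟩ := step ι ρ hF hlam hρ
    have h1 : W.mkQ X = 0 := by
      refine ih _ (hn ▸ quot_lt hW0) (quotRep ρ W hW) rfl hq _ (A0_quot ρ hW hX) ?_
      rw [Ot_quot, hO, map_neg]
    rw [Submodule.mkQ_apply, Submodule.Quotient.mk_eq_zero] at h1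
    by_cases hb0 : b = 0
    · subst hb0
      have h2 : ∀ i ∈ Finset.range 4, E2 ι ρ i X = 0 := by
        intro i hi
        have hi' := Finset.mem_range.1 hi
        have hle := le80 hi'
        rw [E2_apply, Finset.sum_congr rfl fun t _ => by rw [V0_triv ι ρ hF hW hb φ hφ h1 (u t)], ← Finset.sum_smul,
          psum ι hF (by omega), if_neg, zero_smul]
        have : 0 < 3 ^ i := pow_pos (by norm_num) i
        omega
      have h3 : Om ι ρ X = 0 := by
        rw [Om_apply]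
        refine Finset.sum_eq_zero fun i hi => ?_
        rw [h2 i hi, map_zero, map_zero, map_zero]
      rw [Ot_apply, h3, map_zero, add_zero, neg_zero] at hO
      exact (neg_eq_zero.1 hO.symm)
    · exact A0_W ι ρ hF hW hb φ hφ hal hb0 h1 hX

/-- **(T)** -/
theorem theta (hF : Fintype.card F = 81) (hlam : ∀ x, x ∈ Subgroup.zpowers lam) (n : ℕ) :
    ∀ {V : Type} [AddCommGroup V] [Module k V] [FiniteDimensional k V]
      (ρ : Representation k (_root_.Matrix.SpecialLinearGroup (Fin 2) F) V), Module.finrank k V = n → OK ι lam hF ρ →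
      ∀ X ∈ A0 ρ, (∀ i < 4, E2 ι ρ i X = 0) → ∀ g, ρ g X = X := by
  induction n using Nat.strong_induction_on with
  | _ n ih =>
  intro V _ _ _ ρ hn hρ X hX hE
  rcases subsingleton_or_nontrivial V with hV | hV
  · exact fun g => Subsingleton.elim _ _
  · obtain ⟨W, hW, b, hb, φ, hφ, hal, hW0, hq⟩ := step ι ρ hF hlam hρ
    have h1 : ∀ g, ρ g X - X ∈ W := by
      intro g
      have h2 := ih _ (hn ▸ quot_lt hW0) (quotRep ρ W hW) rfl hq _ (A0_quot ρ hW hX) (fun i hi => by
        rw [E2_quot, hE i hi, map_zero]) g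
      rw [quotRep_mk, ← sub_eq_zero, ← map_sub, Submodule.mkQ_apply, Submodule.Quotient.mk_eq_zero] at h2
      exact h2
    by_cases hb0 : b = 0
    · subst hb0
      have h2 : W ≤ fixMod ρ ⊥ := by
        intro x hx g
        rw [V0_triv ι ρ hF hW hb φ hφ hx g, sub_self]
        exact Submodule.zero_mem _
      have h3 : X ∈ fixMod ρ (fixMod ρ ⊥) := fun g => h2 (h1 g)
      have hbot : _root_.Cfsg.Agent.H940.E8L.Inv ρ (⊥ : Submodule k V) := by
        intro g y hy
        rw [Submodule.mem_bot] at hy ⊢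
        rw [hy, map_zero]
      rw [fixMod_fixMod ρ (perfect81 hF) hbot] at h3
      intro g
      have h4 := h3 g
      rwa [Submodule.mem_bot, sub_eq_zero] at h4
    · -- the section
      have hEi : _root_.Cfsg.Agent.H940.E8L.Inv ρ (fixMod ρ W) := inv_of_between ρ (le_fixMod ρ hW) le_rfl
      have hWE := le_fixMod ρ hW
      set E := fixMod ρ W with hEdef
      let W' : Submodule k E := W.comap E.subtype
      have hW' : _root_.Cfsg.Agent.H940.E8L.Inv (subRep ρ E hEi) W' := fun g x hx => hW g x hx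
      let e : W ≃ₗ[k] W' := (Submodule.comapSubtypeEquivOfLe hWE).symm
      have hev : Even b := by
        have h5 : ∀ b, allow b = true → b % 2 = 0 := by
          intro b h
          unfold allow at h
          simp only [List.contains_eq_mem, List.mem_cons, List.not_mem_nil, or_false, decide_eq_true_eq] at h
          omega
        exact Nat.even_iff.2 (h5 b hal)
      obtain ⟨z, hzW, hz0, hzD, hz⟩ := ext_main ι (subRep ρ E hEi) W' hW' hF hb hev (φ.trans e) (fun g x => by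
        apply Subtype.ext
        apply Subtype.ext
        show ((φ (rb ι 3 (odd_of hF) hb g x) : W) : V) = ρ g (φ x : V)
        rw [hφ]
        rfl) (fun g x => x.2 g)
      let x : E := ⟨X, h1⟩
      have hzx : z x = 0 := by
        by_cases hex : ∃ n, isExc b n = true
        · obtain ⟨n, hn⟩ := hex
          refine hzD n hn x ?_
          obtain ⟨i, hi, rfl⟩ : ∃ i < 4, n = 2 * 3 ^ i := by
            unfold isExc at hn
            simp only [Bool.or_eq_true, Bool.and_eq_true, beq_iff_eq] at hn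
            rcases hn with ((⟨-, rfl⟩ | ⟨-, rfl⟩) | ⟨-, rfl⟩) | ⟨-, rfl⟩
            · exact ⟨0, by norm_num, by norm_num⟩
            · exact ⟨1, by norm_num, by norm_num⟩
            · exact ⟨2, by norm_num, by norm_num⟩
            · exact ⟨3, by norm_num, by norm_num⟩
          apply Subtype.ext
          have h5 := hE i hi
          rw [E2_apply] at h5
          rw [Dm_apply]
          push_cast
          show -∑ t : F, ι t ^ (80 - 2 * 3 ^ i) • ρ (u t) X = 0
          rw [h5, neg_zero]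
        · push Not at hex
          rw [hz0 fun n => Bool.eq_false_iff.2 (hex n), LinearMap.zero_apply]
      obtain ⟨x', h5, h6⟩ := hz x hzx
      have h7 : ∀ g, ρ g (x' : V) = x' := fun g => congrArg Subtype.val (h5 g)
      have h8 : (x' : V) - X ∈ W := h6
      have h9 : (x' : V) - X = 0 := by
        refine A0_W ι ρ hF hW hb φ hφ hal hb0 h8 ?_
        exact (A0 ρ).sub_mem ⟨fun a => h7 _, h7 _⟩ hX
      intro g
      rw [← sub_eq_zero.1 h9, h7]

/-- the average -/
def av (X : V) : V := ∑ a : Fˣ, ρ (h a) (X + ρ w X)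

theorem card_units_cast (hF : Fintype.card F = 81) : (Fintype.card Fˣ : k) = -1 := by
  rw [Fintype.card_units, hF]
  have h3 : ((3 : ℕ) : k) = 0 := CharP.cast_eq_zero k 3
  have h4 : ((81 - 1 : ℕ) : k) = (27 : k) * ((3 : ℕ) : k) - 1 := by norm_num
  rw [h4, h3]
  ring

theorem av_mem (hneg : ρ (h (-1)) = 1) (X : V) : av ρ X ∈ A0 ρ := by
  unfold av
  refine ⟨fun c => ?_, ?_⟩
  · rw [map_sum]
    refine Fintype.sum_equiv (Equiv.mulLeft c) _ _ fun a => ?_
    rw [apply_mul, ← h_mul]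
    rfl
  · rw [map_sum]
    refine Fintype.sum_equiv (Equiv.inv Fˣ) _ _ fun a => ?_
    have h1 : ρ w (ρ (h a) (X + ρ w X)) = ρ (h a⁻¹) (ρ w (X + ρ w X)) := by
      rw [apply_mul, apply_mul, h_w, inv_inv]
    have h2 : ρ w (X + ρ w X) = X + ρ w X := by
      rw [map_add, ww, hneg, Module.End.one_apply, add_comm]
    rw [h1, h2]
    rfl

theorem av_quot (hF : Fintype.card F = 81) (hW : _root_.Cfsg.Agent.H940.E8L.Inv ρ W) {X : V} (hX : W.mkQ X ∈ A0 (quotRep ρ W hW)) :
    W.mkQ (av ρ X) = W.mkQ X := by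
  unfold av
  have h1 : ∀ a : Fˣ, W.mkQ (ρ (h a) (X + ρ w X)) = W.mkQ X + W.mkQ X := by
    intro a
    rw [← quotRep_mk ρ W hW, map_add, ← quotRep_mk ρ W hW w, hX.2, map_add, hX.1]
  rw [map_sum, Finset.sum_congr rfl fun a _ => h1 a, Finset.sum_const, Finset.card_univ, ← Nat.cast_smul_eq_nsmul k,
    card_units_cast hF]
  have h3 : (3 : k) = 0 := by exact_mod_cast CharP.cast_eq_zero k 3
  rw [← two_smul k (W.mkQ X), smul_smul]
  have h4 : (-1 : k) * 2 = 1 := by linear_combination -h3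
  rw [h4, one_smul]

/-- **(D)** -/
theorem dim_A0 (hF : Fintype.card F = 81) (hlam : ∀ x, x ∈ Subgroup.zpowers lam) (n : ℕ) :
    ∀ {V : Type} [AddCommGroup V] [Module k V] [FiniteDimensional k V]
      (ρ : Representation k (_root_.Matrix.SpecialLinearGroup (Fin 2) F) V), Module.finrank k V = n → OK ι lam hF ρ →
      (PF ι lam hF (orbF Lg)).psi ρ ≤ 2 * Module.finrank k (A0 ρ) := by
  induction n using Nat.strong_induction_on with
  | _ n ih =>
  intro V _ _ _ ρ hn hρ
  rcases subsingleton_or_nontrivial V with hV | hV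
  · rw [PF_eq, Finset.sum_eq_zero]
    · (clear * -; positivity)
    · intro κ _
      rw [Module.finrank_zero_of_subsingleton, Nat.cast_zero, mul_zero]
  · obtain ⟨W, hW, b, hb, φ, hφ, hal, hW0, hq⟩ := step ι ρ hF hlam hρ
    have h1 := ih _ (hn ▸ quot_lt hW0) (quotRep ρ W hW) rfl hq
    have h2 := PF_irr ι ρ hF hlam (orbF Lg) hW hb φ hφ
    have h3 := (PF ι lam hF (orbF Lg)).add ρ W hW
    have h4 := all81 Lg_check (b := b) (by omega)
    rw [hal, Bool.not_true, Bool.false_or] at h4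
    have h5 := of_decide_eq_true h4
    -- the map
    let f : A0 ρ →ₗ[k] A0 (quotRep ρ W hW) := (W.mkQ.domRestrict (A0 ρ)).codRestrict _ fun X => A0_quot ρ hW X.2
    have hf : Function.Surjective f := by
      rintro ⟨y, hy⟩
      obtain ⟨X, rfl⟩ := W.mkQ_surjective y
      exact ⟨⟨av ρ X, av_mem ρ hρ.neg X⟩, Subtype.ext (av_quot ρ hF hW hy)⟩
    have h6 := LinearMap.finrank_range_add_finrank_ker f
    rw [LinearMap.range_eq_top.2 hf, finrank_top] at h6
    by_cases hb0 : b = 0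
    · subst hb0
      have h7 : Module.finrank k (LinearMap.ker f) ≠ 0 := by
        intro h0
        obtain ⟨X, hX, hX0⟩ := Submodule.exists_mem_ne_zero_of_ne_bot hW0
        have h8 := Submodule.finrank_eq_zero.1 h0
        have h9 : (⟨X, ⟨fun a => V0_triv ι ρ hF hW hb φ hφ hX _, V0_triv ι ρ hF hW hb φ hφ hX _⟩⟩ : A0 ρ) ∈
            LinearMap.ker f := by
          rw [LinearMap.mem_ker]
          apply Subtype.ext
          show W.mkQ X = 0
          rw [Submodule.mkQ_apply, Submodule.Quotient.mk_eq_zero]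
          exact hX
        rw [h8, Submodule.mem_bot] at h9
        exact hX0 (congrArg Subtype.val h9)
      rw [if_pos rfl] at h5
      rw [h3, h2]
      omega
    · rw [if_neg hb0] at h5
      rw [h3, h2]
      omega

/-- **the first class** -/
theorem p_one (hF : Fintype.card F = 81) (hlam : ∀ x, x ∈ Subgroup.zpowers lam) {B : V →ₗ[k] V →ₗ[k] k}
    (hB : ∀ g x y, B (ρ g x) (ρ g y) = B x y) (hnd : ∀ x, (∀ y, B x y = 0) → x = 0) (hneg : ρ (h (-1)) = 1)
    (hecke : ∀ X ∈ A0 ρ, Ot ι ρ (Ot ι ρ (Ot ι ρ (Ot ι ρ X + X))) = 0)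
    (h1 : ∑ κ ∈ Finset.range 80, orbF L1 κ * (Module.finrank k (eig ρ (h lam) (ι lam ^ κ)) : ℤ) = 0)
    (h2 : ∑ κ ∈ Finset.range 80, orbF Lg κ * (Module.finrank k (eig ρ (h lam) (ι lam ^ κ)) : ℤ) = 56)
    (h3 : ∑ i ∈ Finset.range 4, Module.finrank k (eig ρ (h lam) (ι lam ^ (4 * 3 ^ i))) = 32) : ¬ NoFix ρ := by
  intro hfix
  have hρ : OK ι lam hF ρ := ⟨hneg, by rw [PF_eq, h1]⟩
  have h4 := dim_A0 ι hF hlam _ ρ rfl hρ
  rw [PF_eq, h2] at h4
  have h5 := _root_.Cfsg.Agent.H940.E8L.rank_le ι ρ hF hneg hB hnd (fun X hX => by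
    refine no_neg_one ι hF hlam _ ρ rfl hρ _ (Ot_mem ι ρ hF hneg (Ot_mem ι ρ hF hneg (Ot_mem ι ρ hF hneg hX))) ?_
    have h6 := hecke X hX
    rw [map_add, map_add, map_add] at h6
    exact eq_neg_of_add_eq_zero_left h6)
    (fun X hX hE => hfix X (theta ι hF hlam _ ρ rfl hρ X hX hE)) lam
  rw [h3] at h5
  omega

end Gen

end Cfsg.Agent.H525.E8L
end

-- part: H525/E8L/Iface2
section
/-!
# The elements of order 41 (S5921): interface
-/

set_option autoImplicit false

namespace Cfsg.Agent.H525.E8L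

open Matrix Cfsg.Lie Cfsg.Agent.H943.SL2Rel Cfsg.Agent.H943.RepAdd Cfsg.Agent.H944.RootVals
open Cfsg.Agent.H943.SL2Mod (rb)

/-- the weights of an element of order 41 on `V_b`, `b` even: `η ^ (m - b / 2)` for the exponents `m` -/
def wt41 (b m : ℕ) : ℕ := (m + 40 * (b / 2)) % 41

/-- `c` has order 41 and the eigenvalues on the `V_b` are the expected ones -/
structure Non41 {F : Type} [Field F] [Fintype F] [DecidableEq F] [CharP F 3] {k : Type} [Field k] [DecidableEq k]
    [CharP k 3] (ι : F →+* k) (hF : Fintype.card F = 81) (c : _root_.Matrix.SpecialLinearGroup (Fin 2) F) (η : k) : Prop where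
  pow : c ^ 41 = 1
  prim : IsPrimitiveRoot η 41
  dims : ∀ (b : ℕ) (hb : b ≤ Fintype.card F - 1) (_ : Even b) (κ : ℕ) (_ : κ < 41),
    haveI : Fact (Nat.Prime 3) := ⟨Nat.prime_three⟩
    Module.finrank k (eig (rb ι 3 (odd_of hF) hb) c (η ^ κ)) =
      ((Cfsg.Agent.H943.Cert.digs 4 b).filter fun m => wt41 b m = κ).length

/-- NONSPLIT: there is such an element. -/
def NonSplitStmt : Prop := ∀ (F : Type) [Field F] [Fintype F] [DecidableEq F] [CharP F 3] (k : Type) [Field k]
  [DecidableEq k] [IsAlgClosed k] [CharP k 3] (ι : F →+* k) (hF : Fintype.card F = 81),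
  ∃ (c : _root_.Matrix.SpecialLinearGroup (Fin 2) F) (η : k), Non41 ι hF c η

/-- ENUM41: no class of elements of order 41 with these multiplicities of the values of the roots. -/
def Enum41Stmt : Prop := ∀ (v : Fin 8 → ZMod 41) (_ : ms chevE8 8 v = (ms chevE8 8 v).map (fun a => 3 * a)),
  ¬ ((ms chevE8 8 v).count 0 = 8 ∧ (ms chevE8 8 v).count 1 = 9 ∧ (ms chevE8 8 v).count 2 = 6 ∧
    (ms chevE8 8 v).count 4 = 6 ∧ (ms chevE8 8 v).count 7 = 2 ∧ (ms chevE8 8 v).count 8 = 6)

end Cfsg.Agent.H525.E8L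
end

private theorem dce_3ec440f87064 : _root_.True := by
  try have : _root_.True := by simp only [_root_.Cfsg.Agent.H943.SL2Mod.rb.congr_simp]
  try have : _root_.True := by simp only [_root_.Cfsg.Agent.H525.E8L.isExc.eq_1]
  try have : _root_.True := by simp only [_root_.Cfsg.Agent.H943.RepAdd.subRep.congr_simp]
  try have : _root_.True := by simp only [_root_.Cfsg.Agent.H525.E8L.Dm.eq_1]
  exact _root_.True.intro
end

-- part: H525/E8L/YSix_mg
section
prune_inst 0x250004044062000000000000520000000800000000000800000000000108000200000800000000020000000000000000001000a0000000000a000400000000000000000000000000000080000000000000000000000000000000000000010000000000000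
set_option linter.all false
open scoped Cfsg.Agent.FastGrp

-- part: H525/E8L/Prs2
section
/-!
# Additive functions with elements of order 80 and 41 of `SL(2, 81)` (helper525, S5921)
-/

set_option autoImplicit false
set_option linter.unusedSectionVars false
set_option maxRecDepth 100000

namespace Cfsg.Agent.H525.E8L

open Matrix Cfsg.Agent.H943.SL2Rel Cfsg.Agent.H943.RepAdd Cfsg.Agent.H940.E8L
open Cfsg.Agent.H943.SL2Mod hiding Inv finrank_eig_iso
open Cfsg.Agent.H943.Cert (digs)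

universe u v w

/-- the sum of two additive functions -/
def addF {k : Type u} [Field k] {G : Type v} [Group G] (A B : AddFun.{u, v, w} k G) : AddFun.{u, v, w} k G where
  psi ρ := A.psi ρ + B.psi ρ
  add ρ W hW := by
    rw [A.add ρ W hW, B.add ρ W hW]
    ring
  iso ρ₁ ρ₂ φ h := by rw [A.iso ρ₁ ρ₂ φ h, B.iso ρ₁ ρ₂ φ h]

/-- the value of a functional on the weights of order 41 -/
def val41 (g : ℕ → ℤ) (b : ℕ) : ℤ := if b % 2 = 1 then 0 else ((digs 4 b).map fun m => g (wt41 b m)).sum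

theorem list_count (g : ℕ → ℤ) (w : ℕ → ℕ) (n : ℕ) (L : List ℕ) (hw : ∀ m ∈ L, w m < n) :
    ∑ κ ∈ Finset.range n, g κ * (((L.filter fun m => w m = κ).length : ℕ) : ℤ) = (L.map fun m => g (w m)).sum := by
  induction L with
  | nil => simp
  | cons a L ih =>
    rw [List.map_cons, List.sum_cons, ← ih fun m hm => hw m (List.mem_cons_of_mem _ hm)]
    have h1 : ∀ κ ∈ Finset.range n, g κ * ((((a :: L).filter fun m => w m = κ).length : ℕ) : ℤ) =
        (if κ = w a then g κ else 0) + g κ * (((L.filter fun m => w m = κ).length : ℕ) : ℤ) := by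
      intro κ _
      by_cases h2 : w a = κ
      · rw [List.filter_cons_of_pos (by simpa using h2), List.length_cons, if_pos h2.symm]
        push_cast
        ring
      · rw [List.filter_cons_of_neg (by simpa using h2), if_neg (fun h => h2 h.symm), zero_add]
    rw [Finset.sum_congr rfl h1, Finset.sum_add_distrib, Finset.sum_ite_eq' (Finset.range n) (w a) g,
      if_pos (Finset.mem_range.2 (hw a (by simp)))]

theorem wt41_lt (b m : ℕ) : wt41 b m < 41 := Nat.mod_lt _ (by norm_num)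

section Gen

variable {F : Type} [Field F] [Fintype F] [DecidableEq F] [CharP F 3] {k : Type} [Field k] [DecidableEq k]
  [IsAlgClosed k] [CharP k 3] (ι : F →+* k)

theorem h_neg_comm (g : _root_.Matrix.SpecialLinearGroup (Fin 2) F) : g * h (-1) = h (-1) * g :=
  Subgroup.mem_center_iff.1 (Cfsg.Agent.H943.PSLHom.h_mem_center.2 (neg_one_sq (R := Fˣ))) g

theorem h_neg_sq : (h (-1) : _root_.Matrix.SpecialLinearGroup (Fin 2) F) * h (-1) = 1 := by
  rw [← h_mul, neg_mul_neg, one_mul, h_one]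

theorem cz_pow {c : _root_.Matrix.SpecialLinearGroup (Fin 2) F} (hc : c ^ 41 = 1) : (c * h (-1)) ^ 82 = 1 := by
  have hcomm : Commute c (h (-1)) := h_neg_comm c
  rw [hcomm.mul_pow, show 82 = 41 * 2 by norm_num, pow_mul, hc, one_pow, one_mul, mul_comm 41 2, pow_mul, pow_two,
    h_neg_sq, one_pow]

/-- the additive function of the weights of order 41 -/
noncomputable def QF {c : _root_.Matrix.SpecialLinearGroup (Fin 2) F} {η : k} (hc : c ^ 41 = 1) (hη : IsPrimitiveRoot η 41)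
    (g : ℕ → ℤ) : AddFun.{0, 0, 0} k (_root_.Matrix.SpecialLinearGroup (Fin 2) F) :=
  eigFun (Finset.range 41) g (fun _ => c * h (-1)) (fun _ => 82) (fun κ => η ^ κ) 0
    (fun _ _ => cz_pow hc)
    (fun _ _ => by
      have : Fact (Nat.Prime 3) := ⟨Nat.prime_three⟩
      rw [Ne, CharP.cast_eq_zero_iff k 3]
      norm_num)
    (fun κ _ => by rw [← pow_mul, mul_comm, pow_mul, show 82 = 41 * 2 by norm_num, pow_mul, hη.pow_eq_one, one_pow,
      one_pow])
    (fun κ _ => pow_ne_zero _ (hη.ne_zero (by norm_num)))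

theorem QF_eq {c : _root_.Matrix.SpecialLinearGroup (Fin 2) F} {η : k} (hc : c ^ 41 = 1) (hη : IsPrimitiveRoot η 41)
    (g : ℕ → ℤ) {V : Type} [AddCommGroup V] [Module k V]
    (ρ : Representation k (_root_.Matrix.SpecialLinearGroup (Fin 2) F) V) : (QF hc hη g).psi ρ =
      ∑ κ ∈ Finset.range 41, g κ * (Module.finrank k (eig ρ (c * h (-1)) (η ^ κ)) : ℤ) := by
  show 0 * (Module.finrank k V : ℤ) + _ = _
  rw [zero_mul, zero_add]

variable {V : Type} [AddCommGroup V] [Module k V] [FiniteDimensional k V]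
  (ρ : Representation k (_root_.Matrix.SpecialLinearGroup (Fin 2) F) V) {W : Submodule k V}

theorem eig_congr {k : Type} [Field k] {G : Type} [Group G] {V : Type} [AddCommGroup V] [Module k V]
    (ρ : Representation k G V) {a b : G} (h : ρ a = ρ b) (μ : k) : eig ρ a μ = eig ρ b μ := by
  unfold eig
  rw [h]

theorem rb_neg (hF : Fintype.card F = 81) {b : ℕ} (hb : b ≤ Fintype.card F - 1) (x : Vb ι b) :
    haveI : Fact (Nat.Prime 3) := ⟨Nat.prime_three⟩
    rb ι 3 (odd_of hF) hb (h (-1)) x = (-1 : k) ^ b • x := by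
  have : Fact (Nat.Prime 3) := ⟨Nat.prime_three⟩
  apply Subtype.ext
  show fRep k F (h (-1)) (x : F × F → k) = (-1 : k) ^ b • (x : F × F → k)
  have h5 : ∀ g ∈ Submodule.span k (mon ι b '' Bb k b), fRep k F (h (-1)) g = (-1 : k) ^ b • g := by
    intro g hg
    induction hg using Submodule.span_induction with
    | mem g hg =>
      obtain ⟨m, hm, rfl⟩ := hg
      rw [h_mon, Units.val_neg, Units.val_one, map_neg, map_one, inv_neg, inv_one, ← pow_add,
        show m + (b - m) = b by have := hm.1; omega]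
    | zero => rw [map_zero, smul_zero]
    | add a c _ _ ha hc => rw [map_add, ha, hc, smul_add]
    | smul a c _ hc => rw [map_smul, hc, smul_comm]
  exact h5 _ (Vb_le ι b x.2)

theorem rb_neg_odd (hF : Fintype.card F = 81) {b : ℕ} (hb : b ≤ Fintype.card F - 1) (hbo : Odd b) (x : Vb ι b) :
    haveI : Fact (Nat.Prime 3) := ⟨Nat.prime_three⟩
    rb ι 3 (odd_of hF) hb (h (-1)) x = -x := by
  have : Fact (Nat.Prime 3) := ⟨Nat.prime_three⟩
  rw [rb_neg ι hF hb, hbo.neg_one_pow]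
  exact neg_one_smul k x

theorem QF_irr (hF : Fintype.card F = 81) {c : _root_.Matrix.SpecialLinearGroup (Fin 2) F} {η : k} (hN : Non41 ι hF c η)
    (g : ℕ → ℤ) (hW : _root_.Cfsg.Agent.H940.E8L.Inv ρ W) {b : ℕ} (hb : b ≤ Fintype.card F - 1) (φ : Vb ι b ≃ₗ[k] W)
    (hφ : haveI : Fact (Nat.Prime 3) := ⟨Nat.prime_three⟩
      ∀ g x, φ (rb ι 3 (odd_of hF) hb g x) = subRep ρ W hW g (φ x)) :
    (QF hN.pow hN.prim g).psi (subRep ρ W hW) = val41 g b := by
  have : Fact (Nat.Prime 3) := ⟨Nat.prime_three⟩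
  rw [QF_eq, Finset.sum_congr rfl fun κ _ => by rw [← Cfsg.Agent.H943.SL2Mod.finrank_eig_iso _ _ φ hφ]]
  unfold val41
  rcases Nat.even_or_odd b with hbe | hbo
  · rw [if_neg (by rw [Nat.even_iff.1 hbe]; norm_num), ← list_count g (wt41 b) 41 _ fun m _ => wt41_lt b m]
    refine Finset.sum_congr rfl fun κ hκ => ?_
    have h1 : rb ι 3 (odd_of hF) hb (c * h (-1)) = rb ι 3 (odd_of hF) hb c := by
      rw [map_mul]
      refine LinearMap.ext fun x => ?_
      rw [Module.End.mul_apply, rb_neg ι hF hb, hbe.neg_one_pow, one_smul]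
    rw [eig_congr _ h1, hN.dims b hb hbe κ (Finset.mem_range.1 hκ)]
  · rw [if_pos (Nat.odd_iff.1 hbo)]
    refine Finset.sum_eq_zero fun κ _ => ?_
    have h2 : (2 : k) ≠ 0 := by
      have h3 : ((2 : ℕ) : k) ≠ 0 := by rw [Ne, CharP.cast_eq_zero_iff k 3]; norm_num
      exact_mod_cast h3
    have h1 : eig (rb ι 3 (odd_of hF) hb) (c * h (-1)) (η ^ κ) = ⊥ := by
      rw [eq_bot_iff]
      intro x hx
      rw [mem_eig, map_mul, Module.End.mul_apply, rb_neg_odd ι hF hb hbo, map_neg, neg_eq_iff_eq_neg] at hx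
      replace hx : rb ι 3 (odd_of hF) hb c x = (-η ^ κ) • x := hx.trans (neg_smul _ _).symm
      have h3 := pow_apply_eig (rb ι 3 (odd_of hF) hb) hx 41
      rw [← map_pow, hN.pow, map_one, Module.End.one_apply] at h3
      have h4 : (-η ^ κ) ^ 41 = (-1 : k) := by
        rw [neg_pow, ← pow_mul, mul_comm κ 41, pow_mul, hN.prim.pow_eq_one, one_pow, mul_one]
        norm_num
      rw [h4] at h3
      replace h3 : x = -x := h3.trans (neg_one_smul k x)
      have h5 : (2 : k) • x = 0 := by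
        rw [two_smul]
        nth_rewrite 1 [h3]
        exact neg_add_cancel x
      exact (Submodule.mem_bot k).2 ((smul_eq_zero.1 h5).resolve_left h2)
    rw [h1, finrank_bot, Nat.cast_zero, mul_zero]

/-- the combined additive function -/
noncomputable def RF (lam : Fˣ) (hF : Fintype.card F = 81) {c : _root_.Matrix.SpecialLinearGroup (Fin 2) F} {η : k}
    (hN : Non41 ι hF c η) (f g : ℕ → ℤ) : AddFun.{0, 0, 0} k (_root_.Matrix.SpecialLinearGroup (Fin 2) F) :=
  addF (PF ι lam hF f) (QF hN.pow hN.prim g)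

variable {lam : Fˣ} (hF : Fintype.card F = 81) (hlam : ∀ x, x ∈ Subgroup.zpowers lam)
  {c : _root_.Matrix.SpecialLinearGroup (Fin 2) F} {η : k} (hN : Non41 ι hF c η)

theorem RF_eq (f g : ℕ → ℤ) {V : Type} [AddCommGroup V] [Module k V]
    (ρ : Representation k (_root_.Matrix.SpecialLinearGroup (Fin 2) F) V) : (RF ι lam hF hN f g).psi ρ =
      ∑ κ ∈ Finset.range 80, f κ * (Module.finrank k (eig ρ (h lam) (ι lam ^ κ)) : ℤ) +
      ∑ κ ∈ Finset.range 41, g κ * (Module.finrank k (eig ρ (c * h (-1)) (η ^ κ)) : ℤ) := by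
  show (PF ι lam hF f).psi ρ + (QF hN.pow hN.prim g).psi ρ = _
  rw [PF_eq, QF_eq]

include hlam in
theorem RF_irr (f g : ℕ → ℤ) (hW : _root_.Cfsg.Agent.H940.E8L.Inv ρ W) {b : ℕ} (hb : b ≤ Fintype.card F - 1) (φ : Vb ι b ≃ₗ[k] W)
    (hφ : haveI : Fact (Nat.Prime 3) := ⟨Nat.prime_three⟩
      ∀ g x, φ (rb ι 3 (odd_of hF) hb g x) = subRep ρ W hW g (φ x)) :
    (RF ι lam hF hN f g).psi (subRep ρ W hW) = val f b + val41 g b := by
  show (PF ι lam hF f).psi _ + (QF hN.pow hN.prim g).psi _ = _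
  rw [PF_irr ι ρ hF hlam f hW hb φ hφ, QF_irr ι ρ hF hN g hW hb φ hφ]

include hlam in
theorem RF_triv (f g : ℕ → ℤ) {V : Type} [AddCommGroup V] [Module k V] [FiniteDimensional k V]
    (ρ : Representation k (_root_.Matrix.SpecialLinearGroup (Fin 2) F) V) (h1 : ∀ g x, ρ g x = x) :
    (RF ι lam hF hN f g).psi ρ = (f 0 + g 0) * Module.finrank k V := by
  show (PF ι lam hF f).psi _ + (QF hN.pow hN.prim g).psi _ = _
  rw [PF_triv ι hF hlam f ρ h1, QF_eq, Finset.sum_eq_single 0]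
  · rw [eig_triv ρ h1, pow_zero, if_pos rfl]
    ring
  · intro κ hκ hκ0
    rw [eig_triv ρ h1, if_neg, Nat.cast_zero, mul_zero]
    intro h2
    have h3 := hN.prim.dvd_of_pow_eq_one κ h2
    have h4 := Nat.le_of_dvd (Nat.pos_of_ne_zero hκ0) h3
    have := Finset.mem_range.1 hκ
    omega
  · intro h2
    exact absurd (Finset.mem_range.2 (by norm_num)) h2

theorem RF_zero (f g : ℕ → ℤ) {V : Type} [AddCommGroup V] [Module k V] [Subsingleton V]
    (ρ : Representation k (_root_.Matrix.SpecialLinearGroup (Fin 2) F) V) : (RF ι lam hF hN f g).psi ρ = 0 := by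
  rw [RF_eq, Finset.sum_eq_zero, Finset.sum_eq_zero, add_zero]
  · intro κ _
    rw [Module.finrank_zero_of_subsingleton, Nat.cast_zero, mul_zero]
  · intro κ _
    rw [Module.finrank_zero_of_subsingleton, Nat.cast_zero, mul_zero]

include hlam in
theorem RF_nonneg (f g : ℕ → ℤ) (hfg : ∀ b ≤ 80, 0 ≤ val f b + val41 g b) (n : ℕ) :
    ∀ {V : Type} [AddCommGroup V] [Module k V] [FiniteDimensional k V]
      (ρ : Representation k (_root_.Matrix.SpecialLinearGroup (Fin 2) F) V), Module.finrank k V = n →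
      0 ≤ (RF ι lam hF hN f g).psi ρ := by
  induction n using Nat.strong_induction_on with
  | _ n ih =>
  intro V _ _ _ ρ hn
  rcases subsingleton_or_nontrivial V with hV | hV
  · rw [RF_zero]
  · obtain ⟨W, hW, hW0, hmin⟩ := exists_irr_sub ρ
    obtain ⟨b, hb, φ, hφ⟩ := irr_Vb ι ρ hF hW ⟨hW0, hmin⟩
    have h1 := RF_irr ι ρ hF hlam hN f g hW hb φ hφ
    have h4 := ih _ (hn ▸ quot_lt hW0) (quotRep ρ W hW) rfl
    have h5 := (RF ι lam hF hN f g).add ρ W hW
    have h6 := hfg b (by omega)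
    rw [h5, h1]
    omega

include hlam in
/-- a trivial composition factor -/
theorem exists_triv (f g : ℕ → ℤ) (hfg : ∀ b ≤ 80, b ≠ 0 → val f b + val41 g b = 0) (n : ℕ) :
    ∀ {V : Type} [AddCommGroup V] [Module k V] [FiniteDimensional k V]
      (ρ : Representation k (_root_.Matrix.SpecialLinearGroup (Fin 2) F) V), Module.finrank k V = n →
      (RF ι lam hF hN f g).psi ρ ≠ 0 → ∃ N : Submodule k V, _root_.Cfsg.Agent.H940.E8L.Inv ρ N ∧ ∃ x : V, x ∉ N ∧ ∀ g, ρ g x - x ∈ N := by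
  have : Fact (Nat.Prime 3) := ⟨Nat.prime_three⟩
  induction n using Nat.strong_induction_on with
  | _ n ih =>
  intro V _ _ _ ρ hn hne
  rcases subsingleton_or_nontrivial V with hV | hV
  · exact absurd (RF_zero ι hF hN f g ρ) hne
  · obtain ⟨W, hW, hW0, hmin⟩ := exists_irr_sub ρ
    obtain ⟨b, hb, φ, hφ⟩ := irr_Vb ι ρ hF hW ⟨hW0, hmin⟩
    by_cases hb0 : b = 0
    · subst hb0
      obtain ⟨x, hx, hx0⟩ := Submodule.exists_mem_ne_zero_of_ne_bot hW0
      refine ⟨⊥, fun g y hy => ?_, x, fun h => hx0 ((Submodule.mem_bot k).1 h), fun g => ?_⟩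
      · rw [Submodule.mem_bot] at hy ⊢
        rw [hy, map_zero]
      · rw [V0_triv ι ρ hF hW hb φ hφ hx g, sub_self]
        exact Submodule.zero_mem _
    · have h1 := RF_irr ι ρ hF hlam hN f g hW hb φ hφ
      have h5 := (RF ι lam hF hN f g).add ρ W hW
      have h6 := hfg b (by omega) hb0
      obtain ⟨N, hNi, x, hx, hfx⟩ := ih _ (hn ▸ quot_lt hW0) (quotRep ρ W hW) rfl (by
        intro h0
        apply hne
        rw [h5, h1, h6, h0, add_zero])
      obtain ⟨y, rfl⟩ := W.mkQ_surjective x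
      refine ⟨N.comap W.mkQ, fun g z hz => ?_, y, hx, fun g => ?_⟩
      · have h7 := hNi g _ hz
        rw [quotRep_mk] at h7
        exact h7
      · have h7 := hfx g
        rw [quotRep_mk, ← map_sub] at h7
        exact h7

include hlam in
theorem RF_hE (f g : ℕ → ℤ) {D : ℤ} (hD : 0 ≤ D)
    (hval : ∀ b ≤ 80, b ≠ 0 → val f b + val41 g b + (if exc b = true then D else 0) ≤ 0)
    (hW : _root_.Cfsg.Agent.H940.E8L.Inv ρ W) (hI : IrrIn ρ W) (htr : TrivMod ρ W) (hfix : NoFix ρ) :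
    (RF ι lam hF hN f g).psi (subRep ρ W hW) + D * Module.finrank k (V ⧸ W) ≤ 0 := by
  obtain ⟨b, hb, φ, hφ⟩ := irr_Vb ι ρ hF hW hI
  have h0 := b_ne_zero ι ρ hF hW hI hfix hb φ hφ
  have h1 := quot_le ι ρ hF hW htr hfix hb φ hφ
  rw [RF_irr ι ρ hF hlam hN f g hW hb φ hφ]
  have hq : Fintype.card F - 1 = 80 := by rw [hF]
  have h2 := hval b (by omega) h0
  split_ifs at h1 h2 with h3
  · have h4 : (Module.finrank k (V ⧸ W) : ℤ) ≤ 1 := by exact_mod_cast h1
    nlinarith only [hD, h1, h2]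
  · have h4 : Module.finrank k (V ⧸ W) = 0 := Nat.le_zero.1 h1
    rw [h4, Nat.cast_zero, mul_zero]
    exact h2

include hlam in
theorem RF_hE' (f g : ℕ → ℤ) {D : ℤ}
    (hval : ∀ b ≤ 80, exc b = true → val f b + val41 g b ≤ -D)
    (hW : _root_.Cfsg.Agent.H940.E8L.Inv ρ W) (hI : IrrIn ρ W) (htr : TrivMod ρ W) (hfix : NoFix ρ) (hWt : W ≠ ⊤) :
    (RF ι lam hF hN f g).psi (subRep ρ W hW) ≤ -D := by
  obtain ⟨b, hb, φ, hφ⟩ := irr_Vb ι ρ hF hW hI
  have h1 := quot_le ι ρ hF hW htr hfix hb φ hφ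
  rw [RF_irr ι ρ hF hlam hN f g hW hb φ hφ]
  have hq : Fintype.card F - 1 = 80 := by rw [hF]
  split_ifs at h1 with h3
  · exact hval b (by omega) h3
  · exfalso
    apply hWt
    have h4 := Submodule.finrank_quotient_add_finrank W
    exact Submodule.eq_top_of_finrank_eq (by omega)

/-- symmetric functionals are self-dual -/
theorem RF_dual (f g : ℕ → ℤ) (hf : ∀ κ < 80, f ((80 - κ) % 80) = f κ) (hg : ∀ κ < 41, g ((41 - κ) % 41) = g κ)
    {B : V →ₗ[k] V →ₗ[k] k} (hB : ∀ g x y, B (ρ g x) (ρ g y) = B x y) (hnd : ∀ y, (∀ x, B x y = 0) → y = 0)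
    (N : Submodule k V) (hNi : _root_.Cfsg.Agent.H940.E8L.Inv ρ N) :
    (RF ι lam hF hN f g).psi (quotRep ρ (perpL B N) (inv_perpL hB hNi)) = (RF ι lam hF hN f g).psi (subRep ρ N hNi) := by
  have hsum : ∀ (n : ℕ) (_ : 0 < n) (f : ℕ → ℤ) (_ : ∀ κ < n, f ((n - κ) % n) = f κ) (μ : k) (_ : μ ^ n = 1)
      (_ : μ ≠ 0) (a : k → ℤ), ∑ κ ∈ Finset.range n, f κ * a ((μ ^ κ)⁻¹) = ∑ κ ∈ Finset.range n, f κ * a (μ ^ κ) := by
    intro n hn f hf μ hμ hμ0 a
    refine Finset.sum_bij' (fun κ _ => (n - κ) % n) (fun κ _ => (n - κ) % n) ?_ ?_ ?_ ?_ ?_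
    · intro κ _
      exact Finset.mem_range.2 (Nat.mod_lt _ hn)
    · intro κ _
      exact Finset.mem_range.2 (Nat.mod_lt _ hn)
    · intro κ hκ
      have hκ' := Finset.mem_range.1 hκ
      rcases Nat.eq_zero_or_pos κ with h0 | h0
      · subst h0
        simp
      · show (n - (n - κ) % n) % n = κ
        rw [Nat.mod_eq_of_lt (show n - κ < n by omega), Nat.sub_sub_self hκ'.le, Nat.mod_eq_of_lt hκ']
    · intro κ hκ
      have hκ' := Finset.mem_range.1 hκ
      rcases Nat.eq_zero_or_pos κ with h0 | h0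
      · subst h0
        simp
      · show (n - (n - κ) % n) % n = κ
        rw [Nat.mod_eq_of_lt (show n - κ < n by omega), Nat.sub_sub_self hκ'.le, Nat.mod_eq_of_lt hκ']
    · intro κ hκ
      have hκ' := Finset.mem_range.1 hκ
      rw [hf κ hκ']
      congr 2
      rw [inv_eq_iff_eq_inv, eq_comm, inv_eq_iff_eq_inv, eq_comm]
      rcases Nat.eq_zero_or_pos κ with h0 | h0
      · subst h0
        simp
      · rw [Nat.mod_eq_of_lt (show n - κ < n by omega)]
        symm
        apply eq_inv_of_mul_eq_one_left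
        rw [← pow_add, show n - κ + κ = n by omega, hμ]
  rw [RF_eq, RF_eq]
  have hlam80 : ∀ κ, (ι lam ^ κ) ^ 80 = 1 := fun κ => by
    rw [← map_pow, ← map_pow, ← Units.val_pow_eq_pow_val, ← Units.val_pow_eq_pow_val, ← pow_mul, mul_comm,
      pow_mul, gen_pow lam hF, one_pow, Units.val_one, map_one]
  have h1 : ∀ κ, Module.finrank k (eig (quotRep ρ (perpL B N) (inv_perpL hB hNi)) (h lam) (ι lam ^ κ)) =
      Module.finrank k (eig (subRep ρ N hNi) (h lam) (ι lam ^ κ)⁻¹) := fun κ =>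
    finrank_eig_perp hB hnd hNi (n := 80) (by rw [← h_pow, gen_pow lam hF, h_one]) eighty_ne (hlam80 κ)
  have h2 : ∀ κ, Module.finrank k (eig (quotRep ρ (perpL B N) (inv_perpL hB hNi)) (c * h (-1)) (η ^ κ)) =
      Module.finrank k (eig (subRep ρ N hNi) (c * h (-1)) (η ^ κ)⁻¹) := fun κ =>
    finrank_eig_perp hB hnd hNi (n := 82) (cz_pow hN.pow) (by
      have : Fact (Nat.Prime 3) := ⟨Nat.prime_three⟩
      rw [Ne, CharP.cast_eq_zero_iff k 3]
      norm_num) (by rw [← pow_mul, mul_comm, pow_mul, show 82 = 41 * 2 by norm_num, pow_mul, hN.prim.pow_eq_one, one_pow,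
        one_pow])
  rw [Finset.sum_congr rfl fun κ _ => by rw [h1 κ],
    hsum 80 (by norm_num) f hf (ι lam) (by have := hlam80 1; rwa [pow_one] at this) ((map_ne_zero ι).2 lam.ne_zero)
      (fun μ => (Module.finrank k (eig (subRep ρ N hNi) (h lam) μ) : ℤ))]
  congr 1
  rw [Finset.sum_congr rfl fun κ _ => by rw [h2 κ],
    hsum 41 (by norm_num) g hg η hN.prim.pow_eq_one (hN.prim.ne_zero (by norm_num))
      (fun μ => (Module.finrank k (eig (subRep ρ N hNi) (c * h (-1)) μ) : ℤ))]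

include hlam in
/-- **pressure (2)** -/
theorem press2 (f g : ℕ → ℤ) {D : ℤ} (hD : 0 ≤ D) (hD0 : f 0 + g 0 = D)
    (hval : ∀ b ≤ 80, b ≠ 0 → val f b + val41 g b + (if exc b = true then D else 0) ≤ 0)
    (hf : ∀ κ < 80, f ((80 - κ) % 80) = f κ) (hg : ∀ κ < 41, g ((41 - κ) % 41) = g κ)
    {B : V →ₗ[k] V →ₗ[k] k} (hB : ∀ g x y, B (ρ g x) (ρ g y) = B x y) (hnd : ∀ y, (∀ x, B x y = 0) → y = 0)
    (htriv : ∃ N : Submodule k V, _root_.Cfsg.Agent.H940.E8L.Inv ρ N ∧ ∃ x : V, x ∉ N ∧ ∀ g, ρ g x - x ∈ N) (hfix : NoFix ρ) :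
    (RF ι lam hF hN f g).psi ρ ≤ -D :=
  pressure_two (RF ι lam hF hN f g) D (perfect81 hF)
    (fun ρ h1 => by rw [RF_triv ι hF hlam hN f g ρ h1, hD0])
    (fun ρ W hW hI htr hfix => RF_hE ι ρ hF hlam hN f g hD hval hW hI htr hfix) D
    (fun ρ W hW hI htr hfix hWt => RF_hE' ι ρ hF hlam hN f g (fun b hb he => by
      have h1 := hval b hb (by rintro rfl; simp [exc] at he)
      rw [if_pos he] at h1
      omega) hW hI htr hfix hWt) ρ hfix
    (fun N hNi => ⟨perpL B N, inv_perpL hB hNi, RF_dual ι ρ hF hN f g hf hg hB hnd N hNi⟩) htriv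

end Gen

end Cfsg.Agent.H525.E8L
end

-- part: H940/E8L/Hecke
section
/-!
# The Hecke relation `Ot³ (Ot + 1) = 0` on the fixed vectors of the torus normaliser of `L₂(81)` (helper940, for S5921)

`Ot = ∑ Oi`; the `Oi` commute (Gelfand's trick), `Oi (Oi X) = - R X`, `Oi (R X) = - R X`.
-/

set_option autoImplicit false
set_option linter.unusedSectionVars false

namespace Cfsg.Agent.H940.E8L

open Matrix Cfsg.Agent.H943.SL2Rel Cfsg.Agent.H943.RepAdd

section psi

variable {k : Type*} [Field k] {F : Type*} [Field F] [Fintype F] (ι : F →+* k)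

/-- the coefficients -/
noncomputable def psi (i : ℕ) (x : F) : k := ι x ^ (80 - 2 * 3 ^ i)

theorem psi_mul (i : ℕ) (x y : F) : psi ι i (x * y) = psi ι i x * psi ι i y := by
  unfold psi
  rw [map_mul, mul_pow]

theorem psi_neg (i : ℕ) (x : F) : psi ι i (-x) = psi ι i x := by
  unfold psi
  rw [map_neg, Even.neg_pow]
  rcases Nat.le_total (2 * 3 ^ i) 80 with h0 | h0
  · exact (Nat.even_sub h0).2 (by simp only [parity_simps, _root_.Nat.even_add_one, _root_.even_two, _root_.not_true_eq_false, _root_.not_false_eq_true, _root_.Even.mul_right])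
  · rw [Nat.sub_eq_zero_of_le h0]
    exact Even.zero

theorem psi_zero {i : ℕ} (hi : i < 4) : psi ι i 0 = 0 := by
  unfold psi
  rw [map_zero, zero_pow]
  interval_cases i <;> norm_num

theorem psi_one (i : ℕ) : psi ι i 1 = 1 := by
  unfold psi
  rw [map_one, one_pow]

theorem psi_eq (hc : Fintype.card F = 81) {i : ℕ} (hi : i < 4) (x : F) :
    psi ι i x = (ι (x ^ 26)) ^ 3 ^ (i + 1) := by
  unfold psi
  rcases eq_or_ne x 0 with rfl | hx
  · rw [zero_pow (by norm_num), map_zero, zero_pow (pow_ne_zero _ (by norm_num)), zero_pow]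
    interval_cases i <;> norm_num
  · have h80 := iota_pow ι hc (Units.mk0 x hx)
    rw [Units.val_mk0] at h80
    rw [map_pow, ← pow_mul]
    have h1 : 26 * 3 ^ (i + 1) = (80 - 2 * 3 ^ i) + 80 * (3 ^ i - 1) := by
      interval_cases i <;> norm_num
    rw [h1, pow_add, pow_mul (ι x) 80, h80, one_pow, mul_one]

theorem sum_eval (hc : Fintype.card F = 81) (p : Polynomial F) (hp : p.natDegree < 80) :
    ∑ b : F, p.eval b = 0 := by
  have h1 : ∀ b : F, p.eval b = ∑ n ∈ Finset.range 80, p.coeff n * b ^ n :=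
    fun b => Polynomial.eval_eq_sum_range' hp b
  rw [Finset.sum_congr rfl fun b _ => h1 b, Finset.sum_comm]
  refine Finset.sum_eq_zero fun n hn => ?_
  rw [← Finset.mul_sum, FiniteField.sum_pow_lt_card_sub_one, mul_zero]
  rw [hc]
  exact Finset.mem_range.1 hn

theorem sum_psi_two [CharP k 3] (hc : Fintype.card F = 81) {i : ℕ} (hi : i < 4) (α β γ δ : F) :
    ∑ b : F, psi ι i (α + β * b) * psi ι i (γ + δ * b) = 0 := by
  have : Fact (Nat.Prime 3) := ⟨Nat.prime_three⟩
  have h0 : ∑ b : F, ((α + β * b) ^ 26 * (γ + δ * b) ^ 26) = 0 := by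
    have h1 := sum_eval hc ((Polynomial.C α + Polynomial.C β * Polynomial.X) ^ 26 *
      (Polynomial.C γ + Polynomial.C δ * Polynomial.X) ^ 26) (by
        refine lt_of_le_of_lt (b := 52) ?_ (by norm_num)
        compute_degree)
    simpa only [_root_.Polynomial.eval_mul, _root_.Polynomial.eval_pow, _root_.Polynomial.eval_add, _root_.Polynomial.eval_C, _root_.Polynomial.eval_X] using h1
  have h2 : ∑ b : F, psi ι i (α + β * b) * psi ι i (γ + δ * b) =
      (∑ b : F, ι ((α + β * b) ^ 26 * (γ + δ * b) ^ 26)) ^ 3 ^ (i + 1) := by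
    rw [sum_pow_char_pow]
    refine Finset.sum_congr rfl fun b _ => ?_
    rw [psi_eq ι hc hi, psi_eq ι hc hi, map_mul, mul_pow]
  rw [h2, ← map_sum, h0, map_zero, zero_pow (pow_ne_zero _ (by norm_num))]

theorem sum_psi_one [CharP k 3] (hc : Fintype.card F = 81) {i : ℕ} (hi : i < 4) (α β : F) :
    ∑ b : F, psi ι i (α + β * b) = 0 := by
  have h1 := sum_psi_two ι hc hi α β 1 0
  simpa only [psi_one, _root_.MulZeroClass.zero_mul, _root_.add_zero, _root_.mul_one] using h1

/-- splitting off zero -/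
theorem sum_F [DecidableEq F] {M : Type*} [AddCommMonoid M] (f : F → M) : ∑ t : F, f t = f 0 + ∑ a : Fˣ, f a := by
  classical
  rw [← Finset.add_sum_erase _ _ (Finset.mem_univ (0 : F))]
  congr 1
  refine Finset.sum_bij' (fun t ht => Units.mk0 t (Finset.ne_of_mem_erase ht)) (fun a _ => (a : F))
    (fun _ _ => Finset.mem_univ _) (fun a _ => Finset.mem_erase.2 ⟨a.ne_zero, Finset.mem_univ _⟩) ?_ ?_ ?_
  · intro t ht; rfl
  · intro a _; exact Units.ext rfl
  · intro t ht; rfl

theorem card_units [DecidableEq F] (hc : Fintype.card F = 81) : Fintype.card Fˣ = 80 := by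
  rw [Fintype.card_units, hc]

end psi

section ops

variable {k : Type*} [Field k] [CharP k 3] {F : Type*} [Field F] [Fintype F] [DecidableEq F] (ι : F →+* k)
variable {V : Type*} [AddCommGroup V] [Module k V] (ρ : Representation k (_root_.Matrix.SpecialLinearGroup (Fin 2) F) V)

theorem E2_psi (i : ℕ) (X : V) : E2 ι ρ i X = ∑ t : F, psi ι i t • ρ (u t) X := E2_apply ι ρ i X

/-- the sum over the unipotent group -/
noncomputable def sU (X : V) : V := ∑ t : F, ρ (u t) X

/-- the vectors of the big cell -/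
noncomputable def br (X : V) (r t : F) : V := ρ (u r) (ρ w (ρ (u t) X))

theorem u_u (s t : F) (X : V) : ρ (u s) (ρ (u t) X) = ρ (u (s + t)) X := by
  rw [← Module.End.mul_apply, ← map_mul, ← u_add]

theorem hu_apply (a : Fˣ) (t : F) (X : V) : ρ (h a) (ρ (u t) X) = ρ (u ((a : F) ^ 2 * t)) (ρ (h a) X) := by
  rw [← Module.End.mul_apply, ← map_mul, h_u, map_mul, Module.End.mul_apply]

theorem hw_apply (a : Fˣ) (X : V) : ρ (h a) (ρ w X) = ρ w (ρ (h a⁻¹) X) := by
  rw [← Module.End.mul_apply, ← map_mul, h_w, map_mul, Module.End.mul_apply]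

theorem u_zero_apply (X : V) : ρ (u (0 : F)) X = X := by
  rw [u_zero, map_one, Module.End.one_apply]

theorem u_sU (t : F) (X : V) : ρ (u t) (sU ρ X) = sU ρ X := by
  unfold sU
  rw [map_sum]
  exact Fintype.sum_bijective (fun s : F => t + s) (Equiv.addLeft t).bijective _ _ fun s => u_u ρ t s X

theorem h_sU {X : V} (hX : ∀ a : Fˣ, ρ (h a) X = X) (a : Fˣ) : ρ (h a) (sU ρ X) = sU ρ X := by
  unfold sU
  rw [map_sum]
  refine Fintype.sum_bijective (fun s : F => (a : F) ^ 2 * s) (mulLeft_bijective₀ _ (pow_ne_zero _ a.ne_zero)) _ _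
    fun s => ?_
  rw [hu_apply, hX]

theorem wuw_apply (a : Fˣ) (X : V) :
    ρ w (ρ (u (a : F)) (ρ w X)) = ρ (u (-(a : F)⁻¹)) (ρ (h (-a⁻¹)) (ρ w (ρ (u (-(a : F)⁻¹)) X))) := by
  have h1 := w_u_w (a : F) a.ne_zero
  have h2 : mi (a : F) a.ne_zero = -a⁻¹ := by
    apply Units.ext
    rw [Units.val_neg, Units.val_inv_eq_inv_val]
    rfl
  rw [h2] at h1
  rw [← Module.End.mul_apply, ← Module.End.mul_apply, ← map_mul, ← map_mul, h1]
  simp only [map_mul, Module.End.mul_apply]

section two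

variable (hneg : ρ (h (-1)) = 1)

include hneg in
theorem ww_apply (X : V) : ρ w (ρ w X) = X := by
  rw [← Module.End.mul_apply, ← map_mul, w_w, hneg, Module.End.one_apply]

/-- the Weyl element on the big cell -/
theorem w_br {X : V} (hX : ∀ a : Fˣ, ρ (h a) X = X) (a : Fˣ) (t : F) :
    ρ w (br ρ X a t) = br ρ X (-(a : F)⁻¹) ((a : F) ^ 2 * t - a) := by
  have ha : (a : F) ≠ 0 := a.ne_zero
  unfold br
  rw [wuw_apply, u_u, hw_apply, hu_apply, hX]
  congr 4
  rw [inv_neg, inv_inv, Units.val_neg, neg_sq]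
  field_simp
  ring_nf

theorem u_br (X : V) (s r t : F) : ρ (u s) (br ρ X r t) = br ρ X (s + r) t := by
  unfold br
  rw [u_u]

variable (hc : Fintype.card F = 81)

include hc in
theorem E_sU {i : ℕ} (hi : i < 4) (X : V) : E2 ι ρ i (sU ρ X) = 0 := by
  rw [E2_psi, Finset.sum_congr rfl fun t _ => by rw [u_sU], ← Finset.sum_smul]
  have h1 := sum_psi_one ι hc hi 0 1
  simp only [zero_add, one_mul] at h1
  rw [h1, zero_smul]

include hc in
theorem E_E {i : ℕ} (hi : i < 4) (X : V) : E2 ι ρ i (E2 ι ρ i X) = 0 := by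
  have h1 : E2 ι ρ i (E2 ι ρ i X) = ∑ s : F, ∑ t : F, (psi ι i s * psi ι i (t - s)) • ρ (u t) X := by
    rw [E2_psi ι ρ i (E2 ι ρ i X)]
    refine Finset.sum_congr rfl fun s _ => ?_
    rw [E2_psi, map_sum, Finset.smul_sum]
    refine Fintype.sum_bijective (fun t : F => s + t) (Equiv.addLeft s).bijective _ _ fun t => ?_
    rw [map_smul, smul_smul, u_u, add_sub_cancel_left]
  rw [h1, Finset.sum_comm]
  refine Finset.sum_eq_zero fun t _ => ?_
  rw [← Finset.sum_smul]
  have h2 := sum_psi_two ι hc hi 0 1 t (-1)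
  have h3 : ∑ s : F, psi ι i s * psi ι i (t - s) = 0 := by
    rw [← h2]
    refine Finset.sum_congr rfl fun s _ => ?_
    congr 2
    · ring
    · ring
  rw [h3, zero_smul]

theorem EwE (i : ℕ) (X : V) : E2 ι ρ i (ρ w (E2 ι ρ i X)) = ∑ r : F, ∑ t : F, psi ι i (r * t) • br ρ X r t := by
  rw [E2_psi]
  refine Finset.sum_congr rfl fun r _ => ?_
  rw [E2_psi, map_sum, map_sum, Finset.smul_sum]
  refine Finset.sum_congr rfl fun t _ => ?_
  rw [map_smul, map_smul, smul_smul, psi_mul]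
  rfl

/-- `w E w E X` -/
theorem wEwE {i : ℕ} (hi : i < 4) {X : V} (hX : ∀ a : Fˣ, ρ (h a) X = X) :
    ρ w (E2 ι ρ i (ρ w (E2 ι ρ i X))) = ∑ b : Fˣ, ∑ t : F, psi ι i (1 - b * t) • br ρ X b t := by
  rw [EwE, map_sum, sum_F]
  have h0 : ρ w (∑ t : F, psi ι i (0 * t) • br ρ X 0 t) = 0 := by
    rw [Finset.sum_eq_zero, map_zero]
    intro t _
    rw [zero_mul, psi_zero ι hi, zero_smul]
  rw [h0, zero_add]
  refine Fintype.sum_bijective (fun a : Fˣ => -a⁻¹) ?_ _ _ fun a => ?_
  · exact ((Equiv.inv Fˣ).trans (Equiv.neg Fˣ)).bijective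
  · rw [map_sum]
    have ha : (a : F) ≠ 0 := a.ne_zero
    refine Fintype.sum_bijective (fun t : F => (a : F) ^ 2 * t - a) ?_ _ _ fun t => ?_
    · constructor
      · intro x y hxy
        have h1 : (a : F) ^ 2 * x = (a : F) ^ 2 * y := sub_left_injective hxy
        exact mul_left_cancel₀ (pow_ne_zero 2 ha) h1
      · intro y
        refine ⟨((a : F) ^ 2)⁻¹ * (y + a), ?_⟩
        show (a : F) ^ 2 * (((a : F) ^ 2)⁻¹ * (y + a)) - a = y
        rw [← mul_assoc, mul_inv_cancel₀ (pow_ne_zero 2 ha), one_mul, add_sub_cancel_right]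
    · rw [map_smul, w_br ρ hX]
      have h1 : ((-a⁻¹ : Fˣ) : F) = -(a : F)⁻¹ := by rw [Units.val_neg, Units.val_inv_eq_inv_val]
      rw [h1]
      congr 2
      field_simp
      ring

include hc in
/-- **the triple product** -/
theorem EwEwE {i : ℕ} (hi : i < 4) {X : V} (hX : ∀ a : Fˣ, ρ (h a) X = X) :
    E2 ι ρ i (ρ w (E2 ι ρ i (ρ w (E2 ι ρ i X)))) = - E2 ι ρ i (ρ w (sU ρ X)) := by
  have h1 : E2 ι ρ i (ρ w (E2 ι ρ i (ρ w (E2 ι ρ i X)))) =
      ∑ r : F, ∑ t : F, (∑ b : Fˣ, psi ι i (r - b) * psi ι i (1 - b * t)) • br ρ X r t := by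
    rw [wEwE ι ρ hi hX, E2_psi]
    have h2 : ∀ r : F, psi ι i r • ρ (u r) (∑ b : Fˣ, ∑ t : F, psi ι i (1 - b * t) • br ρ X b t) =
        ∑ b : Fˣ, ∑ t : F, (psi ι i r * psi ι i (1 - b * t)) • br ρ X (r + b) t := by
      intro r
      rw [map_sum, Finset.smul_sum]
      refine Finset.sum_congr rfl fun b _ => ?_
      rw [map_sum, Finset.smul_sum]
      refine Finset.sum_congr rfl fun t _ => ?_
      rw [map_smul, u_br, smul_smul]
    rw [Finset.sum_congr rfl fun r _ => h2 r, Finset.sum_comm]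
    have h3 : ∀ b : Fˣ, ∑ r : F, ∑ t : F, (psi ι i r * psi ι i (1 - b * t)) • br ρ X (r + b) t =
        ∑ r : F, ∑ t : F, (psi ι i (r - b) * psi ι i (1 - b * t)) • br ρ X r t := by
      intro b
      refine Fintype.sum_bijective (fun r : F => r + b) (Equiv.addRight (b : F)).bijective _ _ fun r => ?_
      refine Finset.sum_congr rfl fun t _ => ?_
      rw [add_sub_cancel_right]
    rw [Finset.sum_congr rfl fun b _ => h3 b, Finset.sum_comm]
    refine Finset.sum_congr rfl fun r _ => ?_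
    rw [Finset.sum_comm]
    refine Finset.sum_congr rfl fun t _ => ?_
    rw [Finset.sum_smul]
  have h2 : E2 ι ρ i (ρ w (sU ρ X)) = ∑ r : F, ∑ t : F, psi ι i r • br ρ X r t := by
    rw [E2_psi]
    refine Finset.sum_congr rfl fun r _ => ?_
    unfold sU
    rw [map_sum, map_sum, Finset.smul_sum]
    rfl
  rw [h1, h2, ← Finset.sum_neg_distrib]
  refine Finset.sum_congr rfl fun r _ => ?_
  rw [← Finset.sum_neg_distrib]
  refine Finset.sum_congr rfl fun t _ => ?_
  rw [← neg_smul]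
  congr 1
  have h3 := sum_psi_two ι hc hi r (-1) 1 (-t)
  rw [sum_F] at h3
  simp only [mul_zero, add_zero, psi_one, mul_one] at h3
  rw [eq_neg_iff_add_eq_zero, ← h3, add_comm]
  congr 1
  refine Finset.sum_congr rfl fun b _ => ?_
  congr 2
  · ring
  · ring

/-- the vector `w P` under `w u(a)`, `P` fixed by the Borel subgroup -/
theorem w_u_w_fix {P : V} (hU : ∀ t : F, ρ (u t) P = P) (hH : ∀ a : Fˣ, ρ (h a) P = P) (a : Fˣ) :
    ρ w (ρ (u (a : F)) (ρ w P)) = ρ (u (-(a : F)⁻¹)) (ρ w P) := by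
  rw [wuw_apply, hU, hw_apply, hH]

include hc in
theorem EwEwP {i : ℕ} (hi : i < 4) {P : V} (hU : ∀ t : F, ρ (u t) P = P) (hH : ∀ a : Fˣ, ρ (h a) P = P) :
    E2 ι ρ i (ρ w (E2 ι ρ i (ρ w P))) = - sU ρ (ρ w P) := by
  have h1 : ρ w (E2 ι ρ i (ρ w P)) = ∑ a : Fˣ, psi ι i a • ρ (u (-(a : F)⁻¹)) (ρ w P) := by
    rw [E2_psi, sum_F, psi_zero ι hi, zero_smul, zero_add, map_sum]
    refine Finset.sum_congr rfl fun a _ => ?_
    rw [map_smul, w_u_w_fix ρ hU hH]
  have h2 : E2 ι ρ i (ρ w (E2 ι ρ i (ρ w P))) =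
      ∑ r : F, (∑ a : Fˣ, psi ι i (1 + r * a)) • ρ (u r) (ρ w P) := by
    rw [h1, map_sum]
    have h3 : ∀ a : Fˣ, E2 ι ρ i (psi ι i a • ρ (u (-(a : F)⁻¹)) (ρ w P)) =
        ∑ r : F, psi ι i (1 + r * a) • ρ (u r) (ρ w P) := by
      intro a
      have ha : (a : F) ≠ 0 := a.ne_zero
      rw [map_smul, E2_psi, Finset.smul_sum]
      refine Fintype.sum_bijective (fun r : F => r + -(a : F)⁻¹) (Equiv.addRight (-(a : F)⁻¹)).bijective _ _ fun r => ?_
      rw [u_u, smul_smul, ← psi_mul]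
      congr 2
      field_simp
      ring
    rw [Finset.sum_congr rfl fun a _ => h3 a, Finset.sum_comm]
    refine Finset.sum_congr rfl fun r _ => ?_
    rw [Finset.sum_smul]
  rw [h2]
  unfold sU
  rw [← Finset.sum_neg_distrib]
  refine Finset.sum_congr rfl fun r _ => ?_
  have h3 := sum_psi_one ι hc hi 1 r
  rw [sum_F, mul_zero, add_zero, psi_one] at h3
  have h4 : ∑ a : Fˣ, psi ι i (1 + r * a) = -1 := by
    rw [eq_neg_iff_add_eq_zero, add_comm]
    exact h3
  rw [h4, neg_one_smul]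

/-- the single Hecke operators -/
noncomputable def Oi (i : ℕ) : Module.End k V := -(F2 ι ρ i * E2 ι ρ i + ρ w * (F2 ι ρ i * E2 ι ρ i))

theorem Ot_eq : Ot ι ρ = ∑ i ∈ Finset.range 4, Oi ι ρ i := by
  unfold Ot Om Oi
  rw [Finset.mul_sum, ← Finset.sum_add_distrib, Finset.sum_neg_distrib]

include hneg in
theorem Oi_apply (i : ℕ) (X : V) :
    Oi ι ρ i X = -(ρ w (E2 ι ρ i (ρ w (E2 ι ρ i X))) + E2 ι ρ i (ρ w (E2 ι ρ i X))) := by
  show -(ρ w (E2 ι ρ i (ρ w (E2 ι ρ i X))) + ρ w (ρ w (E2 ι ρ i (ρ w (E2 ι ρ i X))))) = _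
  rw [ww_apply ρ hneg]

/-- the third power -/
noncomputable def Rr (X : V) : V := -sU ρ X + ρ w (sU ρ X) + sU ρ (ρ w (sU ρ X))

include hneg in
theorem w_S {P : V} (hU : ∀ t : F, ρ (u t) P = P) (hH : ∀ a : Fˣ, ρ (h a) P = P) :
    ρ w (sU ρ (ρ w P)) = P + (sU ρ (ρ w P) - ρ w P) := by
  have h1 : sU ρ (ρ w P) - ρ w P = ∑ a : Fˣ, ρ (u (a : F)) (ρ w P) := by
    unfold sU
    rw [sum_F, u_zero_apply, add_sub_cancel_left]
  rw [h1]
  unfold sU
  rw [sum_F, u_zero_apply, map_add, ww_apply ρ hneg, map_sum]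
  congr 1
  refine Fintype.sum_bijective (fun a : Fˣ => -a⁻¹) ((Equiv.inv Fˣ).trans (Equiv.neg Fˣ)).bijective _ _ fun a => ?_
  rw [w_u_w_fix ρ hU hH, Units.val_neg, Units.val_inv_eq_inv_val]

include hneg in
theorem S_Rr {X : V} (hX : ∀ a : Fˣ, ρ (h a) X = X) :
    ρ w (sU ρ (ρ w (sU ρ X))) + sU ρ (ρ w (sU ρ X)) = -Rr ρ X := by
  rw [w_S ρ hneg (fun t => u_sU ρ t X) (h_sU ρ hX)]
  unfold Rr
  have h3 : (3 : k) = 0 := by exact_mod_cast CharP.cast_eq_zero k 3
  have h4 : ∀ Y : V, Y + Y + Y = 0 := fun Y => by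
    have : (3 : k) • Y = 0 := by rw [h3, zero_smul]
    rw [← this]
    module
  have h5 := h4 (sU ρ (ρ w (sU ρ X)))
  generalize sU ρ (ρ w (sU ρ X)) = S at *
  generalize sU ρ X = P at *
  generalize ρ w P = Q at *
  have h6 : P + (S - Q) + S - -(-P + Q + S) = 0 := by
    rw [← h5]
    abel
  exact sub_eq_zero.1 h6

include hc hneg in
theorem Oi_Rr {i : ℕ} (hi : i < 4) {X : V} (hX : ∀ a : Fˣ, ρ (h a) X = X) : Oi ι ρ i (Rr ρ X) = -Rr ρ X := by
  have h1 : E2 ι ρ i (Rr ρ X) = E2 ι ρ i (ρ w (sU ρ X)) := by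
    unfold Rr
    rw [map_add, map_add, map_neg, E_sU ι ρ hc hi, E_sU ι ρ hc hi, neg_zero, zero_add, add_zero]
  rw [Oi_apply ι ρ hneg, h1, EwEwP ι ρ hc hi (fun t => u_sU ρ t X) (h_sU ρ hX), map_neg, ← neg_add, neg_neg,
    S_Rr ρ hneg hX]

include hc hneg in
theorem Oi_Oi {i : ℕ} (hi : i < 4) {X : V} (hX : ∀ a : Fˣ, ρ (h a) X = X) :
    Oi ι ρ i (Oi ι ρ i X) = -Rr ρ X := by
  have h1 : E2 ι ρ i (Oi ι ρ i X) = E2 ι ρ i (ρ w (sU ρ X)) := by
    rw [Oi_apply ι ρ hneg, map_neg, map_add, EwEwE ι ρ hc hi hX, E_E ι ρ hc hi, add_zero, neg_neg]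
  rw [Oi_apply ι ρ hneg i (Oi ι ρ i X), h1, EwEwP ι ρ hc hi (fun t => u_sU ρ t X) (h_sU ρ hX), map_neg, ← neg_add,
    neg_neg, S_Rr ρ hneg hX]

/-- the action of `Oi` in terms of the big cell -/
theorem Oi_br {i : ℕ} (hneg : ρ (h (-1)) = 1) (hi : i < 4) {X : V} (hX : ∀ a : Fˣ, ρ (h a) X = X) :
    Oi ι ρ i X = ρ w (sU ρ X) - ∑ r : F, ∑ t : F, (psi ι i (r * t) + psi ι i (1 - r * t)) • br ρ X r t := by
  have h1 : ∑ b : Fˣ, ∑ t : F, psi ι i (1 - b * t) • br ρ X b t + ρ w (sU ρ X) =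
      ∑ r : F, ∑ t : F, psi ι i (1 - r * t) • br ρ X r t := by
    rw [sum_F (fun r : F => ∑ t : F, psi ι i (1 - r * t) • br ρ X r t), add_comm]
    congr 1
    unfold sU
    rw [map_sum]
    refine Finset.sum_congr rfl fun t _ => ?_
    rw [zero_mul, sub_zero, psi_one, one_smul]
    unfold br
    rw [u_zero_apply]
  have h2 : ∑ r : F, ∑ t : F, (psi ι i (r * t) + psi ι i (1 - r * t)) • br ρ X r t =
      ∑ r : F, ∑ t : F, psi ι i (r * t) • br ρ X r t + ∑ r : F, ∑ t : F, psi ι i (1 - r * t) • br ρ X r t := by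
    rw [← Finset.sum_add_distrib]
    refine Finset.sum_congr rfl fun r _ => ?_
    rw [← Finset.sum_add_distrib]
    exact Finset.sum_congr rfl fun t _ => add_smul _ _ _
  rw [Oi_apply ι ρ hneg, wEwE ι ρ hi hX, EwE, h2, ← h1]
  abel

end two

end ops

/-! ### commutation -/

section conv

variable {k : Type*} [Field k] {G : Type*} [Group G] [Fintype G]
variable {V : Type*} [AddCommGroup V] [Module k V] (ρ : Representation k G V)

/-- the action of a function -/
noncomputable def op (f : G → k) : Module.End k V := ∑ g : G, f g • ρ g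

/-- the convolution -/
def cv (f f' : G → k) (g : G) : k := ∑ x : G, f x * f' (x⁻¹ * g)

theorem op_cv (f f' : G → k) : op ρ f * op ρ f' = op ρ (cv f f') := by
  unfold op cv
  rw [Finset.sum_mul]
  have h1 : ∀ x : G, (f x • ρ x) * ∑ g : G, f' g • ρ g = ∑ g : G, (f x * f' (x⁻¹ * g)) • ρ g := by
    intro x
    rw [Finset.mul_sum]
    refine Fintype.sum_bijective (fun g : G => x * g) (Group.mulLeft_bijective x) _ _ fun g => ?_
    rw [smul_mul_smul_comm, ← map_mul, inv_mul_cancel_left]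
  rw [Finset.sum_congr rfl fun x _ => h1 x, Finset.sum_comm]
  refine Finset.sum_congr rfl fun g _ => ?_
  rw [Finset.sum_smul]

/-- **Gelfand's trick** -/
theorem cv_anti {f f' : G → k} (τ : G ≃ G) (hτ : ∀ x y, τ (x * y) = τ y * τ x) (hf : ∀ x, f (τ x) = f x)
    (hf' : ∀ x, f' (τ x) = f' x) (g : G) : cv f f' (τ g) = cv f' f g := by
  have hinv : ∀ x, τ x⁻¹ = (τ x)⁻¹ := by
    have h1 : τ 1 = 1 := by
      have h2 := hτ 1 1
      rw [mul_one] at h2
      exact (left_eq_mul.1 h2)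
    intro x
    rw [eq_inv_iff_mul_eq_one, ← hτ, mul_inv_cancel, h1]
  unfold cv
  have h1 : ∑ x : G, f x * f' (x⁻¹ * τ g) = ∑ y : G, f y * f' (g * y⁻¹) := by
    refine (Fintype.sum_bijective τ τ.bijective _ _ fun y => ?_).symm
    rw [hf, ← hinv, ← hτ, hf']
  rw [h1]
  refine Fintype.sum_bijective (fun y : G => g * y⁻¹) ?_ _ _ fun y => ?_
  · exact ((Equiv.inv G).trans (Equiv.mulLeft g)).bijective
  · rw [mul_comm]
    congr 2
    group

end conv

section theta

variable {k : Type*} [Field k] {F : Type*} [Field F] [Fintype F] [DecidableEq F] (ι : F →+* k)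

/-- twisted transposition -/
def tau (κ : Fˣ) : _root_.Matrix.SpecialLinearGroup (Fin 2) F ≃ _root_.Matrix.SpecialLinearGroup (Fin 2) F where
  toFun g := ⟨!![g.1 0 0, (κ : F) * g.1 1 0; (κ : F)⁻¹ * g.1 0 1, g.1 1 1], by
    have h1 := g.2
    have h2 : (κ : F) ≠ 0 := κ.ne_zero
    rw [Matrix.det_fin_two] at h1 ⊢
    simp only [Matrix.of_apply, Matrix.cons_val', Matrix.cons_val_zero, Matrix.cons_val_one, Matrix.cons_val_fin_one]
    refine Eq.trans ?_ h1
    field_simp⟩
  invFun g := ⟨!![g.1 0 0, (κ : F) * g.1 1 0; (κ : F)⁻¹ * g.1 0 1, g.1 1 1], by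
    have h1 := g.2
    have h2 : (κ : F) ≠ 0 := κ.ne_zero
    rw [Matrix.det_fin_two] at h1 ⊢
    simp only [Matrix.of_apply, Matrix.cons_val', Matrix.cons_val_zero, Matrix.cons_val_one, Matrix.cons_val_fin_one]
    refine Eq.trans ?_ h1
    field_simp⟩
  left_inv g := by
    have h2 : (κ : F) ≠ 0 := κ.ne_zero
    apply Subtype.ext
    ext i j
    (revert i j; simp only [h2, _root_.Fin.forall_fin_succ, Fin.isValue, _root_.Matrix.of_apply, _root_.Matrix.cons_val', _root_.Matrix.cons_val_zero, _root_.Matrix.cons_val_fin_one, _root_.Matrix.cons_val_one, _root_.ne_eq, _root_.not_false_eq_true, _root_.mul_inv_cancel_left₀, _root_.inv_mul_cancel_left₀, _root_.Matrix.cons_val_succ, _root_.Fin.succ_zero_eq_one, _root_.IsEmpty.forall_iff, _root_.and_true, _root_.and_self])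
  right_inv g := by
    have h2 : (κ : F) ≠ 0 := κ.ne_zero
    apply Subtype.ext
    ext i j
    (revert i j; simp only [h2, _root_.Fin.forall_fin_succ, Fin.isValue, _root_.Matrix.of_apply, _root_.Matrix.cons_val', _root_.Matrix.cons_val_zero, _root_.Matrix.cons_val_fin_one, _root_.Matrix.cons_val_one, _root_.ne_eq, _root_.not_false_eq_true, _root_.mul_inv_cancel_left₀, _root_.inv_mul_cancel_left₀, _root_.Matrix.cons_val_succ, _root_.Fin.succ_zero_eq_one, _root_.IsEmpty.forall_iff, _root_.and_true, _root_.and_self])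

theorem tau_val (κ : Fˣ) (g : _root_.Matrix.SpecialLinearGroup (Fin 2) F) :
    (tau κ g).1 = !![g.1 0 0, (κ : F) * g.1 1 0; (κ : F)⁻¹ * g.1 0 1, g.1 1 1] := rfl

theorem tau_mul (κ : Fˣ) (x y : _root_.Matrix.SpecialLinearGroup (Fin 2) F) : tau κ (x * y) = tau κ y * tau κ x := by
  have h2 : (κ : F) ≠ 0 := κ.ne_zero
  apply Subtype.ext
  rw [Matrix.SpecialLinearGroup.coe_mul, tau_val, tau_val, tau_val, Matrix.mul_fin_two,
    Matrix.SpecialLinearGroup.coe_mul]
  simp only [Matrix.mul_apply, Fin.sum_univ_two]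
  ext i j
  (revert i j; simp only [_root_.Fin.forall_fin_succ, Fin.isValue, _root_.Matrix.of_apply, _root_.Matrix.cons_val', _root_.Matrix.cons_val_fin_one, _root_.Matrix.cons_val_zero, _root_.Matrix.cons_val_succ, _root_.forall_const]) <;> (repeat' with_reducible apply And.intro) <;> field_simp

/-- the coefficients of the Hecke operators -/
noncomputable def theta (i : ℕ) (g : _root_.Matrix.SpecialLinearGroup (Fin 2) F) : k :=
  psi ι i (g.1 0 0 * g.1 1 1) + psi ι i (g.1 0 1 * g.1 1 0) +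
    ((if g.1 0 0 = 0 then 1 else 0) + (if g.1 0 1 = 0 then 1 else 0) + (if g.1 1 0 = 0 then 1 else 0) +
      (if g.1 1 1 = 0 then 1 else 0))

theorem theta_tau (i : ℕ) (κ : Fˣ) (g : _root_.Matrix.SpecialLinearGroup (Fin 2) F) : theta ι i (tau κ g) = theta ι i g := by
  have h2 : (κ : F) ≠ 0 := κ.ne_zero
  unfold theta
  rw [tau_val]
  simp only [Matrix.of_apply, Matrix.cons_val', Matrix.cons_val_zero, Matrix.cons_val_one, Matrix.cons_val_fin_one,
    mul_eq_zero, h2, inv_eq_zero, false_or]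
  have h3 : (κ : F) * g.1 1 0 * ((κ : F)⁻¹ * g.1 0 1) = g.1 0 1 * g.1 1 0 := by
    field_simp
  rw [h3]
  ring

theorem theta_w (i : ℕ) (g : _root_.Matrix.SpecialLinearGroup (Fin 2) F) : theta ι i (g * w) = theta ι i g := by
  have h1 : (g * w).1 = !![-g.1 0 1, g.1 0 0; -g.1 1 1, g.1 1 0] := by
    rw [Matrix.SpecialLinearGroup.coe_mul]
    show g.1 * !![0, 1; -1, 0] = _
    ext i j
    (revert i j; simp only [Matrix.mul_apply, Fin.sum_univ_two, _root_.Fin.forall_fin_succ, _root_.Matrix.of_apply, _root_.Matrix.cons_val', _root_.Matrix.cons_val_fin_one, Fin.isValue, _root_.Matrix.cons_val_zero, _root_.Matrix.cons_val_one, _root_.MulZeroClass.mul_zero, _root_.mul_neg, _root_.mul_one, _root_.zero_add, _root_.Matrix.cons_val_succ, _root_.add_zero, _root_.forall_const, _root_.and_self, _root_.neg_inj, _root_.Fin.succ_zero_eq_one, _root_.IsEmpty.forall_iff])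
  unfold theta
  rw [h1]
  simp only [Matrix.of_apply, Matrix.cons_val', Matrix.cons_val_zero, Matrix.cons_val_one, Matrix.cons_val_fin_one,
    neg_eq_zero]
  have h3 : psi ι i (-g.1 0 1 * g.1 1 0) = psi ι i (g.1 0 1 * g.1 1 0) := by rw [neg_mul, psi_neg]
  have h4 : psi ι i (g.1 0 0 * -g.1 1 1) = psi ι i (g.1 0 0 * g.1 1 1) := by rw [mul_neg, psi_neg]
  rw [h3, h4]
  ring

theorem theta_h (i : ℕ) (a : Fˣ) (g : _root_.Matrix.SpecialLinearGroup (Fin 2) F) : theta ι i (g * h a) = theta ι i g := by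
  have h2 : (a : F) ≠ 0 := a.ne_zero
  have h1 : (g * h a).1 = !![g.1 0 0 * a, g.1 0 1 * (a : F)⁻¹; g.1 1 0 * a, g.1 1 1 * (a : F)⁻¹] := by
    rw [Matrix.SpecialLinearGroup.coe_mul]
    show g.1 * !![(a : F), 0; 0, (a : F)⁻¹] = _
    ext i j
    (revert i j; simp only [Matrix.mul_apply, Fin.sum_univ_two, _root_.Fin.forall_fin_succ, _root_.Matrix.of_apply, _root_.Matrix.cons_val', _root_.Matrix.cons_val_fin_one, Fin.isValue, _root_.Matrix.cons_val_zero, _root_.Matrix.cons_val_one, _root_.MulZeroClass.mul_zero, _root_.add_zero, _root_.Matrix.cons_val_succ, _root_.zero_add, _root_.forall_const, _root_.and_self, _root_.mul_eq_mul_right_iff, _root_.Units.ne_zero, _root_.or_false, _root_.inv_eq_zero, _root_.Fin.succ_zero_eq_one, _root_.IsEmpty.forall_iff])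
  unfold theta
  rw [h1]
  simp only [Matrix.of_apply, Matrix.cons_val', Matrix.cons_val_zero, Matrix.cons_val_one, Matrix.cons_val_fin_one,
    mul_eq_zero, h2, inv_eq_zero, or_false]
  have h3 : g.1 0 0 * (a : F) * (g.1 1 1 * (a : F)⁻¹) = g.1 0 0 * g.1 1 1 := by
    field_simp
  have h4 : g.1 0 1 * (a : F)⁻¹ * (g.1 1 0 * (a : F)) = g.1 0 1 * g.1 1 0 := by
    field_simp
  rw [h3, h4]

theorem cv_w (f : _root_.Matrix.SpecialLinearGroup (Fin 2) F → k) (i : ℕ) (g : _root_.Matrix.SpecialLinearGroup (Fin 2) F) :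
    cv f (theta ι i) (g * w) = cv f (theta ι i) g := by
  unfold cv
  refine Finset.sum_congr rfl fun x _ => ?_
  rw [← mul_assoc, theta_w]

/-- **commutation** -/
theorem cv_comm (i j : ℕ) (g : _root_.Matrix.SpecialLinearGroup (Fin 2) F) :
    cv (theta ι i) (theta ι j) g = cv (theta ι j) (theta ι i) g := by
  have key : ∀ (κ : Fˣ) (g : _root_.Matrix.SpecialLinearGroup (Fin 2) F), tau κ g = g →
      cv (theta ι i) (theta ι j) g = cv (theta ι j) (theta ι i) g := by
    intro κ g hg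
    conv_lhs => rw [← hg]
    exact cv_anti (tau κ) (tau_mul κ) (theta_tau ι i κ) (theta_tau ι j κ) g
  have key2 : ∀ g : _root_.Matrix.SpecialLinearGroup (Fin 2) F, g.1 0 1 ≠ 0 → g.1 1 0 ≠ 0 →
      cv (theta ι i) (theta ι j) g = cv (theta ι j) (theta ι i) g := by
    intro g hb hc
    refine key (Units.mk0 (g.1 0 1 * (g.1 1 0)⁻¹) (mul_ne_zero hb (inv_ne_zero hc))) g ?_
    apply Subtype.ext
    rw [tau_val, Units.val_mk0]
    ext i j
    (revert i j; simp only [hb, hc, _root_.Fin.forall_fin_succ, Fin.isValue, _root_.ne_eq, _root_.not_false_eq_true, _root_.inv_mul_cancel_right₀, _root_.mul_inv_rev, _root_.inv_inv, _root_.Matrix.of_apply, _root_.Matrix.cons_val', _root_.Matrix.cons_val_fin_one, _root_.Matrix.cons_val_zero, _root_.Matrix.cons_val_succ, _root_.Fin.succ_zero_eq_one, _root_.IsEmpty.forall_iff, _root_.and_true, _root_.and_self])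
  have hdet := g.2
  rw [Matrix.det_fin_two] at hdet
  by_cases hb : g.1 0 1 = 0
  · by_cases hc : g.1 1 0 = 0
    · refine key 1 g ?_
      apply Subtype.ext
      rw [tau_val]
      ext i j
      (revert i j; simp only [hb, hc, _root_.Fin.forall_fin_succ, Fin.isValue, _root_.Units.val_one, _root_.MulZeroClass.mul_zero, _root_.inv_one, _root_.Matrix.of_apply, _root_.Matrix.cons_val', _root_.Matrix.cons_val_fin_one, _root_.Matrix.cons_val_zero, _root_.Matrix.cons_val_succ, _root_.Fin.succ_zero_eq_one, _root_.IsEmpty.forall_iff, _root_.and_true, _root_.and_self])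
    · rw [← cv_w ι (theta ι i) j g, ← cv_w ι (theta ι j) i g]
      rw [hb, zero_mul, sub_zero] at hdet
      refine key2 _ ?_ ?_
      · have h1 : (g * w).1 0 1 = g.1 0 0 := by
          rw [Matrix.SpecialLinearGroup.coe_mul]
          show (g.1 * !![(0 : F), 1; -1, 0]) 0 1 = _
          simp [Matrix.mul_apply, Fin.sum_univ_two]
        rw [h1]
        exact left_ne_zero_of_mul_eq_one hdet
      · have h1 : (g * w).1 1 0 = -g.1 1 1 := by
          rw [Matrix.SpecialLinearGroup.coe_mul]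
          show (g.1 * !![(0 : F), 1; -1, 0]) 1 0 = _
          simp [Matrix.mul_apply, Fin.sum_univ_two]
        rw [h1]
        exact neg_ne_zero.2 (right_ne_zero_of_mul_eq_one hdet)
  · by_cases hc : g.1 1 0 = 0
    · rw [← cv_w ι (theta ι i) j g, ← cv_w ι (theta ι j) i g]
      rw [hc, mul_zero, sub_zero] at hdet
      refine key2 _ ?_ ?_
      · have h1 : (g * w).1 0 1 = g.1 0 0 := by
          rw [Matrix.SpecialLinearGroup.coe_mul]
          show (g.1 * !![(0 : F), 1; -1, 0]) 0 1 = _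
          simp [Matrix.mul_apply, Fin.sum_univ_two]
        rw [h1]
        exact left_ne_zero_of_mul_eq_one hdet
      · have h1 : (g * w).1 1 0 = -g.1 1 1 := by
          rw [Matrix.SpecialLinearGroup.coe_mul]
          show (g.1 * !![(0 : F), 1; -1, 0]) 1 0 = _
          simp [Matrix.mul_apply, Fin.sum_univ_two]
        rw [h1]
        exact neg_ne_zero.2 (right_ne_zero_of_mul_eq_one hdet)
    · exact key2 g hb hc

/-! ### the sum over the Bruhat cells -/

theorem val_b (x : F) (a : Fˣ) : (u x * h a).1 = !![(a : F), x * (a : F)⁻¹; 0, (a : F)⁻¹] := by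
  rw [Matrix.SpecialLinearGroup.coe_mul]
  show !![1, x; 0, 1] * !![(a : F), 0; 0, (a : F)⁻¹] = _
  rw [Matrix.mul_fin_two]
  simp

theorem val_c (r t : F) (a : Fˣ) : (u r * w * u t * h a).1 =
    !![-r * a, (1 - r * t) * (a : F)⁻¹; -(a : F), -t * (a : F)⁻¹] := by
  rw [Matrix.SpecialLinearGroup.coe_mul, Matrix.SpecialLinearGroup.coe_mul, Matrix.SpecialLinearGroup.coe_mul]
  show !![1, r; 0, 1] * !![0, 1; -1, 0] * !![1, t; 0, 1] * !![(a : F), 0; 0, (a : F)⁻¹] = _
  rw [Matrix.mul_fin_two, Matrix.mul_fin_two, Matrix.mul_fin_two]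
  ext i j
  (revert i j; simp only [_root_.Fin.forall_fin_succ, _root_.MulZeroClass.mul_zero, _root_.mul_neg, _root_.mul_one, _root_.zero_add, _root_.add_zero, _root_.neg_mul, _root_.one_mul, _root_.Matrix.of_apply, _root_.Matrix.cons_val', _root_.Matrix.cons_val_fin_one, Fin.isValue, _root_.Matrix.cons_val_zero, _root_.Matrix.cons_val_succ, _root_.forall_const, _root_.mul_eq_mul_right_iff, _root_.inv_eq_zero, _root_.Units.ne_zero, _root_.or_false, _root_.implies_true, _root_.and_true, _root_.true_and]) <;> (repeat' with_reducible apply And.intro)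
  ring

theorem bruhat_sum {M : Type*} [AddCommMonoid M] (Φ : _root_.Matrix.SpecialLinearGroup (Fin 2) F → M) :
    ∑ g, Φ g = (∑ a : Fˣ, ∑ x : F, Φ (u x * h a)) + ∑ a : Fˣ, ∑ r : F, ∑ t : F, Φ (u r * w * u t * h a) := by
  let e : (Fˣ × F) ⊕ (Fˣ × F × F) → _root_.Matrix.SpecialLinearGroup (Fin 2) F :=
    Sum.elim (fun p => u p.2 * h p.1) (fun p => u p.2.1 * w * u p.2.2 * h p.1)
  have he : Function.Bijective e := by
    constructor
    · rintro (⟨a, x⟩ | ⟨a, r, t⟩) (⟨a', x'⟩ | ⟨a', r', t'⟩) h0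
      · have h1 : (u x * h a).1 = (u x' * h a').1 := congrArg Subtype.val h0
        rw [val_b, val_b] at h1
        have h2 : (a : F) = a' := by simpa using congrFun (congrFun h1 0) 0
        have h3 : x * (a : F)⁻¹ = x' * (a' : F)⁻¹ := by simpa only [_root_.Fin.isValue, _root_.Matrix.of_apply, _root_.Matrix.cons_val', _root_.Matrix.cons_val_one, _root_.Matrix.cons_val_fin_one, _root_.Matrix.cons_val_zero] using congrFun (congrFun h1 0) 1
        have h4 : a = a' := Units.ext h2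
        subst h4
        have h5 := mul_right_cancel₀ (inv_ne_zero a.ne_zero) h3
        rw [h5]
      · exfalso
        have h1 : (u x * h a).1 = (u r' * w * u t' * h a').1 := congrArg Subtype.val h0
        rw [val_b, val_c] at h1
        have h2 : (0 : F) = -(a' : F) := by simpa using congrFun (congrFun h1 1) 0
        exact neg_ne_zero.2 a'.ne_zero h2.symm
      · exfalso
        have h1 : (u r * w * u t * h a).1 = (u x' * h a').1 := congrArg Subtype.val h0
        rw [val_b, val_c] at h1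
        have h2 : -(a : F) = 0 := by simpa using congrFun (congrFun h1 1) 0
        exact neg_ne_zero.2 a.ne_zero h2
      · have h1 : (u r * w * u t * h a).1 = (u r' * w * u t' * h a').1 := congrArg Subtype.val h0
        rw [val_c, val_c] at h1
        have h2 : -(a : F) = -(a' : F) := congrFun (congrFun h1 1) 0
        have h3 : -r * (a : F) = -r' * (a' : F) := congrFun (congrFun h1 0) 0
        have h4 : -t * (a : F)⁻¹ = -t' * (a' : F)⁻¹ := congrFun (congrFun h1 1) 1
        have h5 : a = a' := Units.ext (neg_injective h2)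
        subst h5
        have h6 := neg_injective (mul_right_cancel₀ a.ne_zero h3)
        have h7 := neg_injective (mul_right_cancel₀ (inv_ne_zero a.ne_zero) h4)
        rw [h6, h7]
    · intro g
      have hdet := g.2
      rw [Matrix.det_fin_two] at hdet
      by_cases hc : g.1 1 0 = 0
      · rw [hc, mul_zero, sub_zero] at hdet
        have ha := left_ne_zero_of_mul_eq_one hdet
        refine ⟨Sum.inl (Units.mk0 _ ha, g.1 0 1 * g.1 0 0), Subtype.ext ?_⟩
        show (u _ * h _).1 = _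
        rw [val_b, Units.val_mk0]
        ext i j
        fin_cases i <;> fin_cases j
        · rfl
        · simp [ha]
        · simp only [hc, _root_.Fin.isValue, _root_.Fin.mk_one, _root_.Fin.zero_eta, _root_.Matrix.of_apply, _root_.Matrix.cons_val', _root_.Matrix.cons_val_zero, _root_.Matrix.cons_val_fin_one, _root_.Matrix.cons_val_one]
        · simp only [_root_.Fin.isValue, _root_.Fin.mk_one, _root_.Matrix.of_apply, _root_.Matrix.cons_val', _root_.Matrix.cons_val_one, _root_.Matrix.cons_val_fin_one]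
          exact (eq_inv_of_mul_eq_one_right hdet).symm
      · refine ⟨Sum.inr (Units.mk0 (-g.1 1 0) (neg_ne_zero.2 hc), g.1 0 0 * (g.1 1 0)⁻¹, g.1 1 1 * g.1 1 0),
          Subtype.ext ?_⟩
        show (u _ * w * u _ * h _).1 = _
        rw [val_c, Units.val_mk0]
        ext i j
        fin_cases i <;> fin_cases j
        · simp only [hc, _root_.Fin.isValue, _root_.mul_neg, _root_.neg_mul, _root_.ne_eq, _root_.not_false_eq_true, _root_.inv_mul_cancel_right₀, _root_.neg_neg, _root_.inv_neg, _root_.mul_inv_cancel_right₀, _root_.Fin.zero_eta, _root_.Matrix.of_apply, _root_.Matrix.cons_val', _root_.Matrix.cons_val_zero, _root_.Matrix.cons_val_fin_one]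
        · simp only [_root_.Fin.isValue, _root_.mul_neg, _root_.neg_mul, _root_.neg_neg, _root_.inv_neg, _root_.Fin.zero_eta, _root_.Fin.mk_one, _root_.Matrix.of_apply, _root_.Matrix.cons_val', _root_.Matrix.cons_val_one, _root_.Matrix.cons_val_fin_one, _root_.Matrix.cons_val_zero]
          field_simp
          linear_combination hdet
        · simp only [_root_.Fin.isValue, _root_.mul_neg, _root_.neg_mul, _root_.neg_neg, _root_.inv_neg, _root_.Fin.mk_one, _root_.Fin.zero_eta, _root_.Matrix.of_apply, _root_.Matrix.cons_val', _root_.Matrix.cons_val_zero, _root_.Matrix.cons_val_fin_one, _root_.Matrix.cons_val_one]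
        · simp only [hc, _root_.Fin.isValue, _root_.mul_neg, _root_.neg_mul, _root_.ne_eq, _root_.not_false_eq_true, _root_.inv_mul_cancel_right₀, _root_.neg_neg, _root_.inv_neg, _root_.mul_inv_cancel_right₀, _root_.Fin.mk_one, _root_.Matrix.of_apply, _root_.Matrix.cons_val', _root_.Matrix.cons_val_one, _root_.Matrix.cons_val_fin_one]
  rw [← Fintype.sum_bijective e he (fun p => Φ (e p)) Φ (fun _ => rfl), Fintype.sum_sum_type,
    Fintype.sum_prod_type, Fintype.sum_prod_type]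
  congr 1
  refine Finset.sum_congr rfl fun a _ => ?_
  rw [Fintype.sum_prod_type]
  rfl

theorem theta_u (i : ℕ) (hi : i < 4) (x : F) : theta ι i (u x) = 2 + if x = 0 then 1 else 0 := by
  unfold theta
  show psi ι i ((1 : F) * 1) + psi ι i (x * 0) + ((if (1 : F) = 0 then 1 else 0) + (if x = 0 then 1 else 0) +
    (if (0 : F) = 0 then 1 else 0) + (if (1 : F) = 0 then 1 else 0)) = _
  rw [mul_one, mul_zero, psi_one, psi_zero ι hi]
  simp only [one_ne_zero, if_false, if_true]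
  ring

theorem theta_c (i : ℕ) (r t : F) : theta ι i (u r * w * u t) = psi ι i (r * t) + psi ι i (1 - r * t) +
    ((if r = 0 then 1 else 0) + (if r * t = 1 then 1 else 0) + if t = 0 then 1 else 0) := by
  have h1 : (u r * w * u t).1 = !![-r, 1 - r * t; -1, -t] := by
    have h2 := val_c r t 1
    rw [h_one, mul_one] at h2
    rw [h2]
    simp
  unfold theta
  rw [h1]
  show psi ι i (-r * -t) + psi ι i ((1 - r * t) * -1) + ((if -r = 0 then 1 else 0) +
    (if 1 - r * t = 0 then 1 else 0) + (if (-1 : F) = 0 then 1 else 0) + (if -t = 0 then 1 else 0)) = _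
  rw [neg_mul_neg, mul_neg_one, psi_neg]
  simp only [neg_eq_zero, one_ne_zero, zero_ne_one, if_false, sub_eq_zero, eq_comm (a := (1 : F))]
  ring

end theta

section final

variable {k : Type*} [Field k] [CharP k 3] {F : Type*} [Field F] [Fintype F] [DecidableEq F] (ι : F →+* k)
variable {V : Type*} [AddCommGroup V] [Module k V] (ρ : Representation k (_root_.Matrix.SpecialLinearGroup (Fin 2) F) V)
variable (hc : Fintype.card F = 81) (hneg : ρ (h (-1)) = 1)

theorem three (k : Type*) [Field k] [CharP k 3] {V : Type*} [AddCommGroup V] [Module k V] (Y : V) : Y + Y + Y = 0 := by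
  have h3 : (3 : k) = 0 := by exact_mod_cast CharP.cast_eq_zero k 3
  have : (3 : k) • Y = 0 := by rw [h3, zero_smul]
  rw [← this]
  module

theorem sum_const_units (k : Type*) [Field k] [CharP k 3] {F : Type*} [Field F] [Fintype F] [DecidableEq F]
    {V : Type*} [AddCommGroup V] [Module k V] (hc : Fintype.card F = 81) (Y : V) : ∑ _a : Fˣ, Y = -Y := by
  rw [Finset.sum_const, Finset.card_univ, card_units hc, eq_neg_iff_add_eq_zero, ← succ_nsmul,
    show 80 + 1 = 27 * 3 by norm_num, mul_nsmul']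
  have h1 : 3 • Y = 0 := by
    rw [← three k Y]
    abel
  rw [h1, nsmul_zero]

include hc hneg in
/-- **the Hecke operators as group ring elements** -/
theorem op_theta {i : ℕ} (hi : i < 4) {X : V} (hX : ∀ a : Fˣ, ρ (h a) X = X) (hw : ρ w X = X) :
    op ρ (theta ι i) X = Oi ι ρ i X := by
  have h1 : op ρ (theta ι i) X = ∑ g, theta ι i g • ρ g X := by
    unfold op
    rw [LinearMap.sum_apply]
    rfl
  have h2 : ∀ (g : _root_.Matrix.SpecialLinearGroup (Fin 2) F) (a : Fˣ),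
      theta ι i (g * h a) • ρ (g * h a) X = theta ι i g • ρ g X := by
    intro g a
    rw [theta_h, map_mul, Module.End.mul_apply, hX]
  rw [h1, bruhat_sum]
  simp only [h2]
  rw [sum_const_units k hc, sum_const_units k hc, Oi_br ι ρ hneg hi hX]
  -- the cells
  have hA : ∑ x : F, theta ι i (u x) • ρ (u x) X = sU ρ X + sU ρ X + X := by
    have h3 : ∀ x : F, theta ι i (u x) • ρ (u x) X = (ρ (u x) X + ρ (u x) X) + if x = 0 then X else 0 := by
      intro x
      rw [theta_u ι i hi]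
      by_cases hx : x = 0
      · rw [if_pos hx, if_pos hx, hx, u_zero_apply]
        module
      · rw [if_neg hx, if_neg hx]
        module
    rw [Finset.sum_congr rfl fun x _ => h3 x, Finset.sum_add_distrib, Finset.sum_add_distrib, Finset.sum_ite_eq' Finset.univ (0 : F),
      if_pos (Finset.mem_univ _)]
    rfl
  have hB : ∑ r : F, ∑ t : F, theta ι i (u r * w * u t) • ρ (u r * w * u t) X =
      ∑ r : F, ∑ t : F, (psi ι i (r * t) + psi ι i (1 - r * t)) • br ρ X r t +
      (ρ w (sU ρ X) + (ρ w (sU ρ X) - X) + sU ρ X) := by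
    have h3 : ∀ r t : F, theta ι i (u r * w * u t) • ρ (u r * w * u t) X =
        (psi ι i (r * t) + psi ι i (1 - r * t)) • br ρ X r t + ((if r = 0 then br ρ X r t else 0) +
          (if r * t = 1 then br ρ X r t else 0) + if t = 0 then br ρ X r t else 0) := by
      intro r t
      have h4 : ρ (u r * w * u t) X = br ρ X r t := by
        unfold br
        rw [map_mul, map_mul, Module.End.mul_apply, Module.End.mul_apply]
      rw [h4, theta_c, add_smul (psi ι i (r * t) + psi ι i (1 - r * t))]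
      congr 1
      rw [add_smul, add_smul]
      simp only [ite_smul, one_smul, zero_smul]
    have h5 : ∑ r : F, ∑ t : F, (if r = 0 then br ρ X r t else 0) = ρ w (sU ρ X) := by
      rw [sum_F]
      have h6 : ∑ a : Fˣ, ∑ t : F, (if (a : F) = 0 then br ρ X a t else 0) = 0 := by
        refine Finset.sum_eq_zero fun a _ => Finset.sum_eq_zero fun t _ => ?_
        rw [if_neg a.ne_zero]
      rw [h6, add_zero]
      unfold sU
      rw [map_sum]
      refine Finset.sum_congr rfl fun t _ => ?_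
      rw [if_pos rfl]
      unfold br
      rw [u_zero_apply]
    have h7 : ∑ r : F, ∑ t : F, (if t = 0 then br ρ X r t else 0) = sU ρ X := by
      unfold sU
      refine Finset.sum_congr rfl fun r _ => ?_
      rw [Finset.sum_ite_eq' Finset.univ (0 : F), if_pos (Finset.mem_univ _)]
      unfold br
      rw [u_zero_apply, hw]
    have h8 : ∑ r : F, ∑ t : F, (if r * t = 1 then br ρ X r t else 0) = ρ w (sU ρ X) - X := by
      have h9 : ρ w (sU ρ X) - X = ∑ a : Fˣ, ρ w (ρ (u (a : F)) X) := by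
        unfold sU
        rw [sum_F, u_zero_apply, map_add, map_sum, hw, add_sub_cancel_left]
      rw [h9, sum_F]
      have h10 : ∑ t : F, (if (0 : F) * t = 1 then br ρ X 0 t else 0) = 0 := by
        refine Finset.sum_eq_zero fun t _ => ?_
        rw [zero_mul, if_neg zero_ne_one]
      rw [h10, zero_add]
      symm
      refine Fintype.sum_bijective (fun a : Fˣ => -a⁻¹) ((Equiv.inv Fˣ).trans (Equiv.neg Fˣ)).bijective _ _
        fun a => ?_
      have h11 := w_br ρ hX a 0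
      have h12 : br ρ X a 0 = ρ (u (a : F)) X := by
        unfold br
        rw [u_zero_apply, hw]
      rw [h12, mul_zero, zero_sub] at h11
      have h13 : ((-a⁻¹ : Fˣ) : F) = -(a : F)⁻¹ := by rw [Units.val_neg, Units.val_inv_eq_inv_val]
      rw [Finset.sum_eq_single (-(a : F))]
      · rw [h13, neg_mul_neg, inv_mul_cancel₀ a.ne_zero, if_pos rfl]
        exact h11
      · intro t _ ht
        rw [if_neg]
        rw [h13]
        intro h14
        apply ht
        have h15 : (a : F) ≠ 0 := a.ne_zero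
        field_simp at h14
        exact (neg_eq_iff_eq_neg.1 h14)
      · intro h14
        exact absurd (Finset.mem_univ _) h14
    rw [Finset.sum_congr rfl fun r _ => Finset.sum_congr rfl fun t _ => h3 r t]
    simp only [Finset.sum_add_distrib]
    rw [h5, h7, h8]
  rw [hA, hB]
  generalize ∑ r : F, ∑ t : F, (psi ι i (r * t) + psi ι i (1 - r * t)) • br ρ X r t = Y
  have hP := three k (sU ρ X)
  have hQ := three k (ρ w (sU ρ X))
  generalize sU ρ X = P at *
  generalize ρ w P = Q at *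
  have h6 : -(P + P + X) + -(Y + (Q + (Q - X) + P)) - (Q - Y) = 0 := by
    rw [show -(P + P + X) + -(Y + (Q + (Q - X) + P)) - (Q - Y) = -(P + P + P) - (Q + Q + Q) by abel, hP, hQ]
    simp
  exact sub_eq_zero.1 h6

theorem add_cube {R : Type*} [Ring R] (h3 : (3 : R) = 0) {x y : R} (hxy : x * y = y * x) :
    (x + y) * (x + y) * (x + y) = x * x * x + y * y * y := by
  have h1 : (x + y) * (x + y) * (x + y) = x * x * x + y * y * y + 3 * (x * x * y + x * y * y) +
      ((x * (y * x) - x * (x * y)) + (y * x - x * y) * x + (x * (y * x) - x * (x * y)) + (y * x - x * y) * y +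
        (y * x - x * y) * y + ((y * (y * x) - y * (x * y)))) := by
    noncomm_ring
  rw [h1, h3, hxy]
  simp only [sub_self, zero_mul, add_zero]

include hc hneg in
theorem Oi_mem {i : ℕ} (hi : i < 4) {X : V} (hX : X ∈ A0 ρ) : Oi ι ρ i X ∈ A0 ρ := by
  obtain ⟨h1, h2⟩ := hX
  have hZ : ∀ a : Fˣ, ρ (h a) (E2 ι ρ i (ρ w (E2 ι ρ i X))) = E2 ι ρ i (ρ w (E2 ι ρ i X)) := by
    intro a
    rw [h_E2 ι ρ hc hi, hw_apply, h_E2 ι ρ hc hi, h1, map_smul, map_smul, smul_smul]
    have h3 : ι (a : F) ^ (4 * 3 ^ i) * ι ((a⁻¹ : Fˣ) : F) ^ (4 * 3 ^ i) = 1 := by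
      rw [← mul_pow, ← map_mul, ← Units.val_mul, mul_inv_cancel, Units.val_one, map_one, one_pow]
    rw [h3, one_smul]
  rw [Oi_apply ι ρ hneg]
  refine ⟨fun a => ?_, ?_⟩
  · rw [map_neg, map_add, hw_apply, hZ, hZ]
  · rw [map_neg, map_add, ww_apply ρ hneg, add_comm]

include hc hneg in
theorem Oi_comm {i j : ℕ} (hi : i < 4) (hj : j < 4) {X : V} (hX : X ∈ A0 ρ) :
    Oi ι ρ i (Oi ι ρ j X) = Oi ι ρ j (Oi ι ρ i X) := by
  have h1 := Oi_mem ι ρ hc hneg hi hX
  have h2 := Oi_mem ι ρ hc hneg hj hX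
  rw [← op_theta ι ρ hc hneg hi h2.1 h2.2, ← op_theta ι ρ hc hneg hj hX.1 hX.2,
    ← op_theta ι ρ hc hneg hj h1.1 h1.2, ← op_theta ι ρ hc hneg hi hX.1 hX.2, ← Module.End.mul_apply,
    ← Module.End.mul_apply, op_cv, op_cv]
  congr 2
  funext g
  exact cv_comm ι i j g

include hc hneg in
/-- **the third power of the Hecke operator** -/
theorem Ot_cube {X : V} (hX : X ∈ A0 ρ) : Ot ι ρ (Ot ι ρ (Ot ι ρ X)) = Rr ρ X := by
  let O : Fin 4 → Module.End k (A0 ρ) := fun i => (Oi ι ρ i).restrict fun X hX => Oi_mem ι ρ hc hneg i.2 hX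
  have hO : ∀ (i : Fin 4) (Y : A0 ρ), ((O i Y : A0 ρ) : V) = Oi ι ρ i (Y : V) := fun _ _ => rfl
  have hcomm : ∀ i j, O i * O j = O j * O i := by
    intro i j
    ext Y
    exact Oi_comm ι ρ hc hneg i.2 j.2 Y.2
  have h3 : (3 : Module.End k (A0 ρ)) = 0 := by
    have h4 : (3 : k) = 0 := by exact_mod_cast CharP.cast_eq_zero k 3
    have h5 : algebraMap k (Module.End k (A0 ρ)) 3 = 3 := map_ofNat _ 3
    rw [← h5, h4, map_zero]
  have hcube : ∀ (i : Fin 4) (Y : A0 ρ), (((O i * O i * O i) Y : A0 ρ) : V) = Rr ρ (Y : V) := by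
    intro i Y
    show Oi ι ρ i (Oi ι ρ i (Oi ι ρ i (Y : V))) = _
    rw [Oi_Oi ι ρ hneg hc i.2 Y.2.1, map_neg, Oi_Rr ι ρ hneg hc i.2 Y.2.1, neg_neg]
  have hsum : (O 0 + O 1 + O 2 + O 3) * (O 0 + O 1 + O 2 + O 3) * (O 0 + O 1 + O 2 + O 3) =
      O 0 * O 0 * O 0 + O 1 * O 1 * O 1 + O 2 * O 2 * O 2 + O 3 * O 3 * O 3 := by
    rw [add_cube h3 (x := O 0 + O 1 + O 2) (y := O 3), add_cube h3 (x := O 0 + O 1) (y := O 2),
      add_cube h3 (x := O 0) (y := O 1)]
    · exact hcomm 0 1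
    · rw [add_mul, mul_add, hcomm 0 2, hcomm 1 2]
    · rw [add_mul, add_mul, mul_add, mul_add, hcomm 0 3, hcomm 1 3, hcomm 2 3]
  have hOt : ∀ Y : A0 ρ, (((O 0 + O 1 + O 2 + O 3) Y : A0 ρ) : V) = Ot ι ρ (Y : V) := by
    intro Y
    rw [Ot_eq, LinearMap.sum_apply, Finset.sum_range]
    rw [Fin.sum_univ_four]
    rfl
  have h5 := congrArg Subtype.val (LinearMap.congr_fun hsum ⟨X, hX⟩)
  have h6 : (((O 0 + O 1 + O 2 + O 3) * (O 0 + O 1 + O 2 + O 3) * (O 0 + O 1 + O 2 + O 3)) ⟨X, hX⟩ : A0 ρ).1 =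
      Ot ι ρ (Ot ι ρ (Ot ι ρ X)) := by
    rw [Module.End.mul_apply, Module.End.mul_apply, hOt, hOt, hOt]
  rw [h6] at h5
  rw [h5]
  show ((O 0 * O 0 * O 0) ⟨X, hX⟩ : A0 ρ).1 + ((O 1 * O 1 * O 1) ⟨X, hX⟩ : A0 ρ).1 +
    ((O 2 * O 2 * O 2) ⟨X, hX⟩ : A0 ρ).1 + ((O 3 * O 3 * O 3) ⟨X, hX⟩ : A0 ρ).1 = _
  rw [hcube, hcube, hcube, hcube, three k (Rr ρ X), zero_add]

include hc hneg in
theorem Ot_Rr {X : V} (hX : X ∈ A0 ρ) : Ot ι ρ (Rr ρ X) = -Rr ρ X := by
  rw [Ot_eq, LinearMap.sum_apply, Finset.sum_congr rfl fun i hi =>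
    Oi_Rr ι ρ hneg hc (Finset.mem_range.1 hi) hX.1, Finset.sum_const, Finset.card_range]
  have h1 := three k (-Rr ρ X)
  rw [show (4 : ℕ) • -Rr ρ X = (-Rr ρ X + -Rr ρ X + -Rr ρ X) + -Rr ρ X by abel, h1, zero_add]

end final

/-- **the Hecke relation** -/
theorem hecke {k : Type*} [Field k] [CharP k 3] {F : Type*} [Field F] [Fintype F] (ι : F →+* k) {V : Type*}
    [AddCommGroup V] [Module k V] (ρ : Representation k (_root_.Matrix.SpecialLinearGroup (Fin 2) F) V)
    (hc : Fintype.card F = 81) (hneg : ρ (h (-1)) = 1) {X : V} (hX : X ∈ A0 ρ) :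
    Ot ι ρ (Ot ι ρ (Ot ι ρ (Ot ι ρ X + X))) = 0 := by
  classical
  rw [map_add, map_add, map_add, Ot_cube ι ρ hc hneg hX, Ot_Rr ι ρ hc hneg hX, neg_add_cancel]

end Cfsg.Agent.H940.E8L
end

-- part: H525/E8L/Fix
section
/-!
# Fixed vectors of `L₂(81)` in the first, second and fourth class (helper525, S5921)
-/

set_option autoImplicit false
set_option linter.unusedSectionVars false
set_option maxRecDepth 100000

namespace Cfsg.Agent.H525.E8L

open Matrix
open Cfsg Cfsg.Lie Cfsg.Lie.ChevalleyDatum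
open Cfsg.Agent.H943.SL2Rel Cfsg.Agent.H943.RepAdd Cfsg.Agent.H940.E8L
open Cfsg.Agent.H942.E8Alc

/-! ### the invariant form -/

section Form

/-- the form -/
noncomputable def formJ : Matrix chevE8.Idx chevE8.Idx KK := (Cfsg.Agent.H597.E8Form.form KK).choose

theorem formJ_spec : (formJ).transpose = formJ ∧ IsUnit formJ.det ∧ ∀ g ∈ chevE8.group KK,
    (g : Matrix chevE8.Idx chevE8.Idx KK).transpose * formJ * (g : Matrix chevE8.Idx chevE8.Idx KK) = formJ :=
  (Cfsg.Agent.H597.E8Form.form KK).choose_spec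

/-- the bilinear form -/
noncomputable def formB : (chevE8.Idx → KK) →ₗ[KK] (chevE8.Idx → KK) →ₗ[KK] KK := Matrix.toLinearMap₂' KK formJ

theorem formB_apply (x y : chevE8.Idx → KK) : formB x y = x ⬝ᵥ (formJ *ᵥ y) := by
  unfold formB
  rw [Matrix.toLinearMap₂'_apply']

theorem formB_nd (x : chevE8.Idx → KK) (h : ∀ y, formB x y = 0) : x = 0 := by
  have h1 : x ᵥ* formJ = 0 := by
    funext i
    have h2 := h (Pi.single i 1)
    rw [formB_apply, Matrix.dotProduct_mulVec] at h2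
    simpa only [_root_.Pi.zero_apply, _root_.dotProduct_single, _root_.mul_one] using h2
  have h2 : (x ᵥ* formJ) ᵥ* formJ⁻¹ = x := by
    rw [Matrix.vecMul_vecMul, Matrix.mul_nonsing_inv _ formJ_spec.2.1, Matrix.vecMul_one]
  rw [← h2, h1, Matrix.zero_vecMul]

variable {F : Type} [Field F]

theorem rK_apply (φ : _root_.Matrix.SpecialLinearGroup (Fin 2) F →* G8) (g : _root_.Matrix.SpecialLinearGroup (Fin 2) F) (v : chevE8.Idx → KK) :
    rK φ g v = (((φ g : G8) : GL chevE8.Idx (ZMod 3)) : Matrix chevE8.Idx chevE8.Idx (ZMod 3)).map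
      (algebraMap (ZMod 3) KK) *ᵥ v := by
  show Matrix.toLin' _ v = _
  rw [Matrix.toLin'_apply]

theorem formB_inv (φ : _root_.Matrix.SpecialLinearGroup (Fin 2) F →* G8) (g : _root_.Matrix.SpecialLinearGroup (Fin 2) F)
    (x y : chevE8.Idx → KK) : formB (rK φ g x) (rK φ g y) = formB x y := by
  have h1 := formJ_spec.2.2 ((eK (φ g) : GK) : GL chevE8.Idx KK) (eK (φ g)).2
  have h2 : (((eK (φ g) : GK) : GL chevE8.Idx KK) : Matrix chevE8.Idx chevE8.Idx KK) =
      (((φ g : G8) : GL chevE8.Idx (ZMod 3)) : Matrix chevE8.Idx chevE8.Idx (ZMod 3)).map (algebraMap (ZMod 3) KK) := by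
    rw [Cfsg.Agent.GpExc.Field.coe_emb, Cfsg.Agent.GpExc.Field.coe_glMap]
  rw [h2] at h1
  rw [rK_apply, rK_apply, formB_apply, formB_apply]
  set A := (((φ g : G8) : GL chevE8.Idx (ZMod 3)) : Matrix chevE8.Idx chevE8.Idx (ZMod 3)).map (algebraMap (ZMod 3) KK)
  rw [Matrix.mulVec_mulVec, Matrix.dotProduct_mulVec, ← Matrix.vecMul_transpose, Matrix.vecMul_vecMul,
    ← Matrix.mul_assoc, h1, ← Matrix.dotProduct_mulVec]

end Form

/-! ### descent -/

theorem descend {F : Type} [Field F] (φ : _root_.Matrix.SpecialLinearGroup (Fin 2) F →* G8) (h : ¬ NoFix (rK φ)) :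
    ∃ a : chevE8.Idx → ZMod 3, a ≠ 0 ∧ ∀ s ∈ φ.range, act s a = a := by
  unfold NoFix at h
  push Not at h
  obtain ⟨x, hx, hx0⟩ := h
  obtain ⟨i, hi⟩ : ∃ i, x i ≠ 0 := by
    by_contra hcon
    push Not at hcon
    exact hx0 (funext hcon)
  obtain ⟨ℓ, hℓ⟩ : ∃ ℓ : Module.Dual (ZMod 3) KK, ℓ (x i) ≠ 0 := by
    by_contra hcon
    push Not at hcon
    exact hi ((Module.forall_dual_apply_eq_zero_iff (ZMod 3) (x i)).1 hcon)
  refine ⟨fun j => ℓ (x j), fun h0 => hℓ (congrFun h0 i), ?_⟩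
  rintro _ ⟨g, rfl⟩
  funext j
  have h1 := congrFun (hx g) j
  rw [rK_apply] at h1
  show ∑ m, _ * ℓ (x m) = ℓ (x j)
  rw [← h1]
  show _ = ℓ (∑ m, _ * x m)
  rw [map_sum]
  refine Finset.sum_congr rfl fun m _ => ?_
  rw [Matrix.map_apply, ← Algebra.smul_def, map_smul, smul_eq_mul]

/-! ### the classes -/

theorem orbF_odd (L : List ℤ) (κ : ℕ) (hκ : κ % 2 = 1) : orbF L κ = 0 := by
  unfold orbF
  rw [if_pos hκ]

private noncomputable def _root_.Cfsg.Agent.LsF.fe384a6_0 : {f // @Cfsg.Agent.H525.E8L.orb = f} := ⟨_, by first | (delta Cfsg.Agent.H525.E8L.orb; rewrite [Cfsg.Agent.LsF.instNBEq_pat, Cfsg.Agent.LsF.instDecEq_eq, Cfsg.Agent.LsF.contains_eq, Cfsg.Agent.LsF.dBoolEq_eq, Cfsg.Agent.LsF.ite_eq]; exact rfl) | exact rfl⟩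
private noncomputable def _root_.Cfsg.Agent.LsF.fe384a6_1 : {f // @Cfsg.Agent.H525.E8L.orbF = f} := ⟨_, by first | (delta Cfsg.Agent.H525.E8L.orbF; rewrite [Cfsg.Agent.LsF.fe384a6_0.2, Cfsg.Agent.LsF.ndiv_pat, Cfsg.Agent.LsF.nmod_pat, Cfsg.Agent.LsF.instDecEq_eq, Cfsg.Agent.LsF.getD_eq, Cfsg.Agent.LsF.ite_eq]; exact rfl) | exact rfl⟩
private noncomputable def _root_.Cfsg.Agent.LsF.fe384a6_2 : {f // @Cfsg.Agent.H944.Tab.dotN = f} := ⟨_, by first | (delta Cfsg.Agent.H944.Tab.dotN List.brecOn List.brecOn.go Cfsg.Agent.H944.Tab.dotN._f; rewrite [Cfsg.Agent.LsF.nadd_pat, Cfsg.Agent.LsF.nmul_pat]; (try delta Cfsg.Agent.H944.Tab.dotN.match_1); (try delta Cfsg.Agent.H944.Tab.dotN._sparseCasesOn_1); first | dsimp -zeta only | exact rfl) | exact rfl⟩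
private noncomputable def _root_.Cfsg.Agent.LsF.fe384a6_3 : {f // @Cfsg.Agent.H525.E8L.rsum = f} := ⟨_, by first | (delta Cfsg.Agent.H525.E8L.rsum; rewrite [Cfsg.Agent.LsF.fe384a6_2.2, Cfsg.Agent.LsF.nsub_pat, Cfsg.Agent.LsF.nmod_pat, Cfsg.Agent.LsF.iadd_pat, Cfsg.Agent.LsF.map_eq, Cfsg.Agent.LsF.sum_eq, Cfsg.Agent.LsF.instIAdd_eq]; exact rfl) | exact rfl⟩
theorem v1 : 8 * orbF L1 0 + rsum (fun j => orbF L1 (2 * j)) Y1 = 0 := by (refine of_decide_eq_true ?_; (try (rewrite [Cfsg.Agent.LsF.fe384a6_1.2, Cfsg.Agent.LsF.fe384a6_3.2, Cfsg.Agent.LsF.nmul_pat, Cfsg.Agent.LsF.iadd_pat, Cfsg.Agent.LsF.imul_pat, Cfsg.Agent.LsF.instIDecEq_eq, Cfsg.Agent.LsF.decide_eq])); decide +kernel)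
theorem v1g : 8 * orbF Lg 0 + rsum (fun j => orbF Lg (2 * j)) Y1 = 56 := by (refine of_decide_eq_true ?_; (try (rewrite [Cfsg.Agent.LsF.fe384a6_1.2, Cfsg.Agent.LsF.fe384a6_3.2, Cfsg.Agent.LsF.nmul_pat, Cfsg.Agent.LsF.iadd_pat, Cfsg.Agent.LsF.imul_pat, Cfsg.Agent.LsF.instIDecEq_eq, Cfsg.Agent.LsF.decide_eq])); decide +kernel)
theorem v2 : 8 * orbF L24 0 + rsum (fun j => orbF L24 (2 * j)) Y2 = 12 := by (refine of_decide_eq_true ?_; (try (rewrite [Cfsg.Agent.LsF.fe384a6_1.2, Cfsg.Agent.LsF.fe384a6_3.2, Cfsg.Agent.LsF.nmul_pat, Cfsg.Agent.LsF.iadd_pat, Cfsg.Agent.LsF.imul_pat, Cfsg.Agent.LsF.instIDecEq_eq, Cfsg.Agent.LsF.decide_eq])); decide +kernel)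
theorem v4 : 8 * orbF L24 0 + rsum (fun j => orbF L24 (2 * j)) Y4 = 4 := by (refine of_decide_eq_true ?_; (try (rewrite [Cfsg.Agent.LsF.fe384a6_1.2, Cfsg.Agent.LsF.fe384a6_3.2, Cfsg.Agent.LsF.nmul_pat, Cfsg.Agent.LsF.iadd_pat, Cfsg.Agent.LsF.imul_pat, Cfsg.Agent.LsF.instIDecEq_eq, Cfsg.Agent.LsF.decide_eq])); decide +kernel)

/-- the indicator of the weights `4 * 3 ^ i` -/
def ind4 (κ : ℕ) : ℤ := if κ = 4 ∨ κ = 12 ∨ κ = 36 ∨ κ = 28 then 1 else 0

theorem v1i : 8 * ind4 0 + rsum (fun j => ind4 (2 * j)) Y1 = 32 := by decide +kernel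

section

variable {F : Type} [Field F] [Fintype F] (hcard : Fintype.card F = 81) (ι : F →+* KK)
  (φ : _root_.Matrix.SpecialLinearGroup (Fin 2) F →* G8)
  (hk : ∀ g, φ g = 1 ↔ g ∈ Subgroup.center (_root_.Matrix.SpecialLinearGroup (Fin 2) F))
  (lam : Fˣ) (hlam : ∀ x, x ∈ Subgroup.zpowers lam)

include hcard in
theorem charP3 : CharP F 3 := by
  obtain ⟨⟨m, hm⟩, hp', hc⟩ := FiniteField.card F (ringChar F)
  rw [hcard] at hc
  have h1 : ringChar F ∣ 3 ^ 4 := by
    rw [show (3 : ℕ) ^ 4 = 81 by norm_num, hc]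
    exact dvd_pow_self _ (by simpa using hm.ne')
  have h2 := (Nat.prime_dvd_prime_iff_eq hp' Nat.prime_three).1 (hp'.dvd_of_dvd_pow h1)
  exact h2 ▸ ringChar.charP F

include hk in
theorem rK_neg : rK φ (h (-1)) = 1 :=
  Cfsg.Agent.H943.PSLHom.rep_eq_one _ _
    ((hk _).2 (Cfsg.Agent.H943.PSLHom.h_mem_center.2 (by rw [neg_one_sq])))

include hcard hlam in
/-- the classes 2 and 4 -/
theorem fix24 {Y : List ℕ} (hT : TorZ (ι lam ^ 2) (φ (h lam)) 40 (vecL 40 Y))
    (hv : 0 < 8 * orbF L24 0 + rsum (fun j => orbF L24 (2 * j)) Y) : ¬ NoFix (rK φ) := by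
  classical
  have hch := charP3 hcard
  intro hfix
  have hval : ∀ b ≤ 80, b ≠ 0 → val (orbF L24) b + (if exc b = true then orbF L24 0 else 0) ≤ 0 := by
    intro b hb hb0
    have h1 := all81 L24_check hb
    simp only [Bool.or_eq_true, beq_iff_eq, hb0, false_or, decide_eq_true_eq] at h1
    exact h1
  have h1 := press1 ι (rK φ) hcard hlam (orbF L24) (by decide) hval hfix
  rw [fun_rK hcard ι φ hlam hT _ (orbF_odd _)] at h1
  omega

include hcard hk hlam in
/-- the class 1 -/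
theorem fix1 (hT : TorZ (ι lam ^ 2) (φ (h lam)) 40 (vecL 40 Y1)) : ¬ NoFix (rK φ) := by
  classical
  have hch := charP3 hcard
  have hneg := rK_neg φ hk
  refine p_one ι (rK φ) hcard hlam (formB_inv φ) formB_nd hneg
    (fun X hX => Cfsg.Agent.H940.E8L.hecke ι (rK φ) hcard hneg hX) ?_ ?_ ?_
  · rw [fun_rK hcard ι φ hlam hT _ (orbF_odd _)]
    exact v1
  · rw [fun_rK hcard ι φ hlam hT _ (orbF_odd _)]
    exact v1g
  · have h1 := fun_rK hcard ι φ hlam hT ind4 (fun κ hκ => by
      unfold ind4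
      rw [if_neg]
      omega)
    rw [v1i] at h1
    have hprim := Cfsg.Agent.H943.SL2Mod.primitive ι ι.injective hlam
    rw [show Fintype.card F - 1 = 80 by rw [hcard]] at hprim
    have h2 : ι lam ^ (4 * 3 ^ 3) = ι lam ^ 28 := by
      rw [show 4 * 3 ^ 3 = 80 + 28 by norm_num, pow_add, hprim.pow_eq_one, one_mul]
    have h3 : ∑ κ ∈ Finset.range 80, ind4 κ * (Module.finrank KK (eig (rK φ) (h lam) (ι lam ^ κ)) : ℤ) =
        ∑ κ ∈ ({4, 12, 36, 28} : Finset ℕ), (Module.finrank KK (eig (rK φ) (h lam) (ι lam ^ κ)) : ℤ) := by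
      rw [← Finset.sum_subset (s₁ := {4, 12, 36, 28})]
      · refine Finset.sum_congr rfl fun κ hκ => ?_
        have h4 : ind4 κ = 1 := by
          unfold ind4
          rw [if_pos]
          simpa using hκ
        rw [h4, one_mul]
      · intro κ hκ
        simp only [Finset.mem_insert, Finset.mem_singleton] at hκ
        rw [Finset.mem_range]
        omega
      · intro κ _ hκ
        have h4 : ind4 κ = 0 := by
          unfold ind4
          rw [if_neg]
          simpa using hκ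
        rw [h4, zero_mul]
    rw [h3] at h1
    rw [Finset.sum_insert (by decide), Finset.sum_insert (by decide), Finset.sum_insert (by decide),
      Finset.sum_singleton] at h1
    rw [Finset.sum_range_succ, Finset.sum_range_succ, Finset.sum_range_succ, Finset.sum_range_one, h2,
      show 4 * 3 ^ 0 = 4 by norm_num, show 4 * 3 ^ 1 = 12 by norm_num, show 4 * 3 ^ 2 = 36 by norm_num]
    omega

end

/-- the third class -/
def FixThree : Prop := ∀ (F : Type) [Field F] [Fintype F] (_ : Fintype.card F = 81) (ι : F →+* KK)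
  (φ : _root_.Matrix.SpecialLinearGroup (Fin 2) F →* G8)
  (_ : ∀ g, φ g = 1 ↔ g ∈ Subgroup.center (_root_.Matrix.SpecialLinearGroup (Fin 2) F))
  (lam : Fˣ) (_ : ∀ x, x ∈ Subgroup.zpowers lam)
  (_ : TorZ (ι lam ^ 2) (φ (h lam)) 40 (vecL 40 Y3)), ¬ NoFix (rK φ)

/-- **FIX** -/
theorem fixStmt_of (h3 : FixThree) : FixStmt := by
  intro F _ _ hcard ι φ hk lam hlam Y hY hT
  refine descend φ ?_
  simp only [List.mem_cons, List.not_mem_nil, or_false] at hY
  rcases hY with rfl | rfl | rfl | rfl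
  · exact fix1 hcard ι φ hk lam hlam hT
  · exact fix24 hcard ι φ lam hlam hT (by rw [v2]; norm_num)
  · exact h3 F hcard ι φ hk lam hlam hT
  · exact fix24 hcard ι φ lam hlam hT (by rw [v4]; norm_num)

end Cfsg.Agent.H525.E8L
end

-- part: H525/E8L/YThree
section
/-!
# Fixed vectors of `L₂(81)` in the third class (helper525, S5921)
-/

set_option autoImplicit false
set_option linter.unusedSectionVars false
set_option maxRecDepth 100000

namespace Cfsg.Agent.H525.E8L

open Matrix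
open Cfsg Cfsg.Lie Cfsg.Lie.ChevalleyDatum
open Cfsg.Agent.H943.SL2Rel Cfsg.Agent.H943.RepAdd Cfsg.Agent.H940.E8L
open Cfsg.Agent.H942.E8Alc Cfsg.Agent.H944.RootVals
open Cfsg.Agent.H943.Cert (digs)

/-- the orbit of a weight modulo 41 under multiplication by 3 -/
def orb41 (κ : ℕ) : ℕ :=
  if κ = 0 then 0 else if [1, 3, 9, 14, 27, 32, 38, 40].contains κ then 1
  else if [2, 6, 13, 18, 23, 28, 35, 39].contains κ then 2
  else if [4, 5, 12, 15, 26, 29, 36, 37].contains κ then 3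
  else if [7, 16, 19, 20, 21, 22, 25, 34].contains κ then 4
  else 5

/-- representatives of the orbits -/
def rep41 (o : ℕ) : ℕ := [0, 1, 2, 4, 7, 8].getD o 0

theorem rep_spec : ∀ κ < 41, ∃ j < 8, κ = 3 ^ j * rep41 (orb41 κ) % 41 := by decide +kernel

/-- a functional given by its values on the orbits -/
def orbG (L : List ℤ) (κ : ℕ) : ℤ := L.getD (orb41 κ) 0

theorem sum_orb (H : ℕ → ℤ) : ∑ κ ∈ Finset.range 41, H (orb41 κ) = H 0 + 8 * (H 1 + H 2 + H 3 + H 4 + H 5) := by
  have h1 : ∀ n, orb41 n = orb41 n := fun _ => rfl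
  simp only [Finset.sum_range_succ, Finset.sum_range_zero]
  have e : ∀ n o, orb41 n = o → H (orb41 n) = H o := fun n o h => by rw [h]
  rw [e 0 0 rfl, e 1 1 rfl, e 2 2 rfl, e 3 1 rfl, e 4 3 rfl, e 5 3 rfl, e 6 2 rfl, e 7 4 rfl, e 8 5 rfl, e 9 1 rfl,
    e 10 5 rfl, e 11 5 rfl, e 12 3 rfl, e 13 2 rfl, e 14 1 rfl, e 15 3 rfl, e 16 4 rfl, e 17 5 rfl, e 18 2 rfl,
    e 19 4 rfl, e 20 4 rfl, e 21 4 rfl, e 22 4 rfl, e 23 2 rfl, e 24 5 rfl, e 25 4 rfl, e 26 3 rfl, e 27 1 rfl,
    e 28 2 rfl, e 29 3 rfl, e 30 5 rfl, e 31 5 rfl, e 32 1 rfl, e 33 5 rfl, e 34 4 rfl, e 35 2 rfl, e 36 3 rfl,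
    e 37 3 rfl, e 38 1 rfl, e 39 2 rfl, e 40 1 rfl]
  ring

theorem const_orb {d : ℕ → ℕ} (hd : ∀ κ < 41, d (3 * κ % 41) = d κ) {κ : ℕ} (hκ : κ < 41) :
    d κ = d (rep41 (orb41 κ)) := by
  have h1 : ∀ (j r : ℕ), r < 41 → d (3 ^ j * r % 41) = d r := by
    intro j
    induction j with
    | zero =>
      intro r hr
      rw [pow_zero, one_mul, Nat.mod_eq_of_lt hr]
    | succ j ih =>
      intro r hr
      have h2 := hd (3 ^ j * r % 41) (Nat.mod_lt _ (by norm_num))
      rw [ih r hr] at h2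
      rw [← h2]
      congr 1
      rw [pow_succ', mul_assoc]
      exact (Nat.ModEq.mul_left 3 (Nat.mod_modEq (3 ^ j * r) 41)).symm
  obtain ⟨j, -, hj⟩ := rep_spec κ hκ
  have h2 : rep41 (orb41 κ) < 41 := by
    have h3 : ∀ κ < 41, rep41 (orb41 κ) < 41 := by decide +kernel
    exact h3 κ hκ
  conv_lhs => rw [hj]
  exact h1 j _ h2

/-- the functional inequality for all `V_b` -/
def chk2 (f g : List ℤ) : Bool := (List.range 81).all fun b => decide (0 ≤ val (orbF f) b + val41 (orbG g) b)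

private noncomputable def _root_.Cfsg.Agent.LsF.fe384a6_4 : {f // @Cfsg.Agent.H943.SL2Mod.wtOf = f} := ⟨_, by first | (delta Cfsg.Agent.H943.SL2Mod.wtOf; rewrite [Cfsg.Agent.LsF.nadd_pat, Cfsg.Agent.LsF.nmul_pat, Cfsg.Agent.LsF.nsub_pat, Cfsg.Agent.LsF.nmod_pat]; exact rfl) | exact rfl⟩
private noncomputable def _root_.Cfsg.Agent.LsF.fe384a6_5 : {f // @Cfsg.Agent.H943.Cert.digs = f} := ⟨_, by first | (delta Cfsg.Agent.H943.Cert.digs Nat.brecOn.go Nat.brecOn Cfsg.Agent.H943.Cert.digs._f; rewrite [Cfsg.Agent.LsF.nadd_pat, Cfsg.Agent.LsF.nmul_pat, Cfsg.Agent.LsF.ndiv_pat, Cfsg.Agent.LsF.nmod_pat, Cfsg.Agent.LsF.map_eq, Cfsg.Agent.LsF.flatMap_eq, Cfsg.Agent.LsF.range_eq]; (try delta Cfsg.Agent.H943.Cert.digs.match_1); (try delta Nat.casesOn); first | dsimp -zeta only | exact rfl) | exact rfl⟩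
private noncomputable def _root_.Cfsg.Agent.LsF.fe384a6_6 : {f // @Cfsg.Agent.H525.E8L.val = f} := ⟨_, by first | (delta Cfsg.Agent.H525.E8L.val; rewrite [Cfsg.Agent.LsF.fe384a6_4.2, Cfsg.Agent.LsF.fe384a6_5.2, Cfsg.Agent.LsF.map_eq, Cfsg.Agent.LsF.sum_eq, Cfsg.Agent.LsF.instIAdd_eq]; exact rfl) | exact rfl⟩
private noncomputable def _root_.Cfsg.Agent.LsF.fe384a6_7 : {f // @Cfsg.Agent.H525.E8L.wt41 = f} := ⟨_, by first | (delta Cfsg.Agent.H525.E8L.wt41; rewrite [Cfsg.Agent.LsF.nadd_pat, Cfsg.Agent.LsF.nmul_pat, Cfsg.Agent.LsF.ndiv_pat, Cfsg.Agent.LsF.nmod_pat]; exact rfl) | exact rfl⟩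
private noncomputable def _root_.Cfsg.Agent.LsF.fe384a6_8 : {f // @Cfsg.Agent.H525.E8L.val41 = f} := ⟨_, by first | (delta Cfsg.Agent.H525.E8L.val41; rewrite [Cfsg.Agent.LsF.fe384a6_7.2, Cfsg.Agent.LsF.fe384a6_5.2, Cfsg.Agent.LsF.nmod_pat, Cfsg.Agent.LsF.instDecEq_eq, Cfsg.Agent.LsF.map_eq, Cfsg.Agent.LsF.sum_eq, Cfsg.Agent.LsF.instIAdd_eq, Cfsg.Agent.LsF.ite_eq]; exact rfl) | exact rfl⟩
private noncomputable def _root_.Cfsg.Agent.LsF.fe384a6_9 : {f // @Cfsg.Agent.H525.E8L.orb41 = f} := ⟨_, by first | (delta Cfsg.Agent.H525.E8L.orb41; rewrite [Cfsg.Agent.LsF.instNBEq_pat, Cfsg.Agent.LsF.instDecEq_eq, Cfsg.Agent.LsF.contains_eq, Cfsg.Agent.LsF.dBoolEq_eq, Cfsg.Agent.LsF.ite_eq]; exact rfl) | exact rfl⟩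
private noncomputable def _root_.Cfsg.Agent.LsF.fe384a6_10 : {f // @Cfsg.Agent.H525.E8L.orbG = f} := ⟨_, by first | (delta Cfsg.Agent.H525.E8L.orbG; rewrite [Cfsg.Agent.LsF.fe384a6_9.2, Cfsg.Agent.LsF.getD_eq]; exact rfl) | exact rfl⟩
private noncomputable def _root_.Cfsg.Agent.LsF.fe384a6_11 : {f // @Cfsg.Agent.H525.E8L.chk2 = f} := ⟨_, by first | (delta Cfsg.Agent.H525.E8L.chk2; rewrite [Cfsg.Agent.LsF.fe384a6_6.2, Cfsg.Agent.LsF.fe384a6_1.2, Cfsg.Agent.LsF.fe384a6_8.2, Cfsg.Agent.LsF.fe384a6_10.2, Cfsg.Agent.LsF.iadd_pat, Cfsg.Agent.LsF.all_eq, Cfsg.Agent.LsF.range_eq, Cfsg.Agent.LsF.idecLe_eq, Cfsg.Agent.LsF.decide_eq]; exact rfl) | exact rfl⟩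
private noncomputable def _root_.Cfsg.Agent.LsF.fe384a6_12 : {f // @Cfsg.Agent.H525.E8L.exc = f} := ⟨_, by first | (delta Cfsg.Agent.H525.E8L.exc; rewrite [Cfsg.Agent.LsF.nbeq_pat, Cfsg.Agent.LsF.or_eq]; exact rfl) | exact rfl⟩
private theorem call :
    chk2 [1, 0, 0, 0, 0, 0, 0, 0, 0] [-1, 0, 0, 0, 0, 0] = true ∧
    chk2 [-1, 0, 0, 0, 0, 0, 0, 0, 1] [1, 0, 0, 0, 0, 0] = true ∧
    chk2 [0, 0, 0, 1, 1, 0, 0, 0, 0] [0, 0, 0, -1, 0, 0] = true ∧
    chk2 [0, 0, 0, -1, -1, 0, 0, 0, 1] [0, 0, 0, 1, 0, 0] = true ∧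
    chk2 [0, 1, 1, 0, 0, 0, 0, 0, 0] [0, -1, -1, 0, 0, 0] = true ∧
    chk2 [0, -1, -1, 0, 0, 0, 0, 0, 1] [0, 1, 1, 0, 0, 0] = true ∧
    chk2 [0, 0, 1, -1, 1, 1, 1, -1, 7] [0, 0, 0, 0, -3, 0] = true ∧
    chk2 [0, 0, 0, 0, 0, -1, 0, 1, -1] [0, 0, 0, 0, 1, 0] = true ∧
    chk2 [2, 0, 1, 0, 0, -1, 1, 1, 1] [0, -1, 0, 0, 0, 0] = true ∧
    chk2 [0, -1, 0, 0, 0, 0, 0, 1, 0] [0, 1, 0, 0, 0, 0] = true ∧
    chk2 [1, 1, 1, 1, 1, 1, 1, 1, 1] [-1, -1, -1, -1, -1, -1] = true ∧
    chk2 [-1, -1, -1, -1, -1, -1, -1, -1, -1] [1, 1, 1, 1, 1, 1] = true ∧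
    chk2 [0, 1, 0, 0, 0, 0, 0, 0, 0] [0, -1, 0, 0, 0, 0] = true ∧
    chk2 [0, 0, 1, 0, 1, -1, 0, 2, 2] [0, 0, -1, 0, 0, 0] = true ∧
    chk2 [0, 0, 0, 0, 1, 0, 0, 1, 3] [0, 0, 0, 0, -1, 0] = true ∧
    chk2 [0, 0, 0, 0, 0, 0, 1, 2, 0] [0, 0, 0, 0, 0, -1] = true ∧
    ((List.range 81).all fun b => b == 0 || decide (val (orbF [2, 0, 0, 1, -1, -1, 0, 1, -5]) b + val41 (orbG [0, -1, 0, 0, 2, 0]) b +
    (if exc b = true then 2 else 0) ≤ 0)) = true ∧
    ((List.range 81).all fun b => b == 0 || decide (val (orbF [1, 0, 1, 0, 0, 0, 1, 0, 2]) b + val41 (orbG [1, -1, 0, 0, -1, 0]) b = 0)) = true := by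
  (refine of_decide_eq_true ?_; (try (rewrite [Cfsg.Agent.LsF.fe384a6_11.2, Cfsg.Agent.LsF.fe384a6_6.2, Cfsg.Agent.LsF.fe384a6_1.2, Cfsg.Agent.LsF.fe384a6_8.2, Cfsg.Agent.LsF.fe384a6_10.2, Cfsg.Agent.LsF.fe384a6_12.2, Cfsg.Agent.LsF.nbeq_pat, Cfsg.Agent.LsF.iadd_pat, Cfsg.Agent.LsF.ineg_pat, Cfsg.Agent.LsF.or_eq, Cfsg.Agent.LsF.all_eq, Cfsg.Agent.LsF.range_eq, Cfsg.Agent.LsF.instIDecEq_eq, Cfsg.Agent.LsF.idecLe_eq, Cfsg.Agent.LsF.dAnd_eq, Cfsg.Agent.LsF.dBoolEq_eq, Cfsg.Agent.LsF.ite_eq, Cfsg.Agent.LsF.decide_eq])); decide +kernel)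

theorem c1 : chk2 [1, 0, 0, 0, 0, 0, 0, 0, 0] [-1, 0, 0, 0, 0, 0] = true := call.1
theorem c2 : chk2 [-1, 0, 0, 0, 0, 0, 0, 0, 1] [1, 0, 0, 0, 0, 0] = true := call.2.1
theorem c3 : chk2 [0, 0, 0, 1, 1, 0, 0, 0, 0] [0, 0, 0, -1, 0, 0] = true := call.2.2.1
theorem c4 : chk2 [0, 0, 0, -1, -1, 0, 0, 0, 1] [0, 0, 0, 1, 0, 0] = true := call.2.2.2.1
theorem c5 : chk2 [0, 1, 1, 0, 0, 0, 0, 0, 0] [0, -1, -1, 0, 0, 0] = true := call.2.2.2.2.1
theorem c6 : chk2 [0, -1, -1, 0, 0, 0, 0, 0, 1] [0, 1, 1, 0, 0, 0] = true := call.2.2.2.2.2.1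
theorem c7 : chk2 [0, 0, 1, -1, 1, 1, 1, -1, 7] [0, 0, 0, 0, -3, 0] = true := call.2.2.2.2.2.2.1
theorem c8 : chk2 [0, 0, 0, 0, 0, -1, 0, 1, -1] [0, 0, 0, 0, 1, 0] = true := call.2.2.2.2.2.2.2.1
theorem c9 : chk2 [2, 0, 1, 0, 0, -1, 1, 1, 1] [0, -1, 0, 0, 0, 0] = true := call.2.2.2.2.2.2.2.2.1
theorem c10 : chk2 [0, -1, 0, 0, 0, 0, 0, 1, 0] [0, 1, 0, 0, 0, 0] = true := call.2.2.2.2.2.2.2.2.2.1
theorem c11 : chk2 [1, 1, 1, 1, 1, 1, 1, 1, 1] [-1, -1, -1, -1, -1, -1] = true := call.2.2.2.2.2.2.2.2.2.2.1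
theorem c12 : chk2 [-1, -1, -1, -1, -1, -1, -1, -1, -1] [1, 1, 1, 1, 1, 1] = true := call.2.2.2.2.2.2.2.2.2.2.2.1

/-- the pressure functional -/
def fP : List ℤ := [2, 0, 0, 1, -1, -1, 0, 1, -5]
def gP : List ℤ := [0, -1, 0, 0, 2, 0]

theorem cP : ((List.range 81).all fun b => b == 0 || decide (val (orbF fP) b + val41 (orbG gP) b +
    (if exc b = true then 2 else 0) ≤ 0)) = true := call.2.2.2.2.2.2.2.2.2.2.2.2.2.2.2.2.1

/-- the number of trivial factors -/
def fT : List ℤ := [1, 0, 1, 0, 0, 0, 1, 0, 2]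
def gT : List ℤ := [1, -1, 0, 0, -1, 0]

theorem cT : ((List.range 81).all fun b => b == 0 || decide (val (orbF fT) b + val41 (orbG gT) b = 0)) = true :=
  call.2.2.2.2.2.2.2.2.2.2.2.2.2.2.2.2.2

/-- the value of a functional of order 40 on the module -/
def tv (L : List ℤ) : ℤ := 8 * orbF L 0 + rsum (fun j => orbF L (2 * j)) Y3

theorem orbF_symm : ∀ κ < 80, orbF fP ((80 - κ) % 80) = orbF fP κ := by decide +kernel
theorem orbG_symm : ∀ κ < 41, orbG gP ((41 - κ) % 41) = orbG gP κ := by decide +kernel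

section

variable {F : Type} [Field F] [Fintype F] [DecidableEq F] [CharP F 3] [DecidableEq KK] (hcard : Fintype.card F = 81)
  (ι : F →+* KK)
  (φ : _root_.Matrix.SpecialLinearGroup (Fin 2) F →* G8)
  (hk : ∀ g, φ g = 1 ↔ g ∈ Subgroup.center (_root_.Matrix.SpecialLinearGroup (Fin 2) F))
  (lam : Fˣ) (hlam : ∀ x, x ∈ Subgroup.zpowers lam)
  {c : _root_.Matrix.SpecialLinearGroup (Fin 2) F} {η : KK} (hN : Non41 ι hcard c η)

include hk in
theorem eig_cz (μ : KK) : eig (rK φ) (c * h (-1)) μ = eig (rK φ) c μ := by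
  apply eig_congr
  rw [map_mul, rK_neg φ hk, mul_one]

/-- the multiplicities of the weights of order 41 -/
theorem mult41 (hN : Non41 ι hcard c η) : ∃ v : Fin 8 → ZMod 41,
    ms chevE8 8 v = (ms chevE8 8 v).map (fun a => 3 * a) ∧ ∀ κ : ℕ, κ < 41 →
      Module.finrank KK (eig (rK φ) c (η ^ κ)) = (if κ = 0 then 8 else 0) + (ms chevE8 8 v).count (κ : ZMod 41) := by
  have hfac : Fact (Nat.Prime 3) := ⟨Nat.prime_three⟩
  have hx : (φ c) ^ 41 = 1 := by rw [← map_pow, hN.pow, map_one]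
  obtain ⟨v, hv, hd⟩ := Cfsg.Agent.H943.TorDim.exists_vals_dim Cfsg.Agent.H942.E8Tab.e8T 3 (F := ZMod 3) (x := φ c)
    (N := 41) (by norm_num) (by norm_num) hx hN.prim
  refine ⟨v, ?_, fun κ hκ => ?_⟩
  · have h1 := hv.frob
    rw [Nat.card_zmod] at h1
    exact h1
  · have h1 := hd (η ^ κ)
    have h2 : Module.finrank KK (eig (rK φ) c (η ^ κ)) = _ := h1
    rw [h2, Multiset.count_add]
    congr 1
    · rw [Multiset.count_replicate]
      have h3 : (1 : KK) = η ^ κ ↔ κ = 0 := by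
        constructor
        · intro h4
          have h5 := hN.prim.dvd_of_pow_eq_one κ h4.symm
          exact Nat.eq_zero_of_dvd_of_lt h5 hκ
        · rintro rfl
          rw [pow_zero]
      simp only [h3]
      rfl
    · have hinj : Function.Injective fun b : ZMod 41 => η ^ b.val := by
        intro a b hab
        exact ZMod.val_injective 41 (hN.prim.pow_inj (ZMod.val_lt a) (ZMod.val_lt b) hab)
      have h3 := Multiset.count_map_eq_count' (fun b : ZMod 41 => η ^ b.val) (ms chevE8 8 v) hinj (κ : ZMod 41)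
      have h4 : (κ : ZMod 41).val = κ := by rw [ZMod.val_natCast, Nat.mod_eq_of_lt hκ]
      simp only [h4] at h3
      exact h3

private noncomputable def _root_.Cfsg.Agent.LsF.fe384a6_13 : {f // @Cfsg.Agent.H525.E8L.tv = f} := ⟨_, by first | (delta Cfsg.Agent.H525.E8L.tv; rewrite [Cfsg.Agent.LsF.fe384a6_1.2, Cfsg.Agent.LsF.fe384a6_3.2, Cfsg.Agent.LsF.nmul_pat, Cfsg.Agent.LsF.iadd_pat, Cfsg.Agent.LsF.imul_pat]; exact rfl) | exact rfl⟩
include hk hlam in
/-- the third class -/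
theorem fix3 (hN : Non41 ι hcard c η) (hE : Enum41Stmt) (hT : TorZ (ι lam ^ 2) (φ (h lam)) 40 (vecL 40 Y3)) :
    ¬ NoFix (rK φ) := by
  obtain ⟨v, hinv, hd⟩ := mult41 hcard ι φ hN
  obtain ⟨d, hdd⟩ : ∃ d : ℕ → ℕ, ∀ κ, Module.finrank KK (eig (rK φ) c (η ^ κ)) = d κ := ⟨_, fun κ => rfl⟩
  have h3inj : Function.Injective fun a : ZMod 41 => 3 * a := by
    intro a b hab
    have h1 : ∀ a b : ZMod 41, 3 * a = 3 * b → a = b := by decide +kernel
    exact h1 a b hab
  have hd3 : ∀ κ < 41, d (3 * κ % 41) = d κ := by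
    intro κ hκ
    rw [← hdd, ← hdd, hd κ hκ, hd _ (Nat.mod_lt _ (by norm_num))]
    congr 1
    · have h1 : 3 * κ % 41 = 0 ↔ κ = 0 := by omega
      simp only [h1]
    · have h1 : ((3 * κ % 41 : ℕ) : ZMod 41) = 3 * (κ : ZMod 41) := by
        rw [ZMod.natCast_mod]
        push_cast
        rfl
      rw [h1]
      conv_lhs => rw [hinv]
      exact Multiset.count_map_eq_count' (fun a : ZMod 41 => 3 * a) (ms chevE8 8 v) h3inj (κ : ZMod 41)
  -- the value of the combined functional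
  have hval : ∀ L M : List ℤ, (RF ι lam hcard hN (orbF L) (orbG M)).psi (rK φ) = tv L +
      (M.getD 0 0 * d 0 + 8 * (M.getD 1 0 * d 1 + M.getD 2 0 * d 2 + M.getD 3 0 * d 4 + M.getD 4 0 * d 7 +
        M.getD 5 0 * d 8)) := by
    intro L M
    rw [RF_eq, fun_rK hcard ι φ hlam hT _ (orbF_odd _)]
    congr 1
    rw [Finset.sum_congr rfl fun κ _ => by rw [eig_cz φ hk]]
    have h1 : ∀ κ ∈ Finset.range 41, orbG M κ * (Module.finrank KK (eig (rK φ) c (η ^ κ)) : ℤ) =
        (fun o => M.getD o 0 * (d (rep41 o) : ℤ)) (orb41 κ) := by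
      intro κ hκ
      rw [hdd κ, const_orb hd3 (Finset.mem_range.1 hκ)]
      rfl
    refine (Finset.sum_congr rfl h1).trans ((sum_orb fun o => M.getD o 0 * (d (rep41 o) : ℤ)).trans ?_)
    rfl
  have hpos : ∀ L M : List ℤ, chk2 L M = true → 0 ≤ tv L +
      (M.getD 0 0 * d 0 + 8 * (M.getD 1 0 * d 1 + M.getD 2 0 * d 2 + M.getD 3 0 * d 4 + M.getD 4 0 * d 7 +
        M.getD 5 0 * d 8)) := by
    intro L M hLM
    rw [← hval]
    exact RF_nonneg ι hcard hlam hN (orbF L) (orbG M) (fun b hb => of_decide_eq_true (all81 hLM hb)) _ (rK φ) rfl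
  obtain ⟨t1, t2, t3, t4, t5, t6, t7, t8, t9, t10, t11, t12, tP, tT⟩ :
      tv [1, 0, 0, 0, 0, 0, 0, 0, 0] = 16 ∧
      tv [-1, 0, 0, 0, 0, 0, 0, 0, 1] = -16 ∧
      tv [0, 0, 0, 1, 1, 0, 0, 0, 0] = 48 ∧
      tv [0, 0, 0, -1, -1, 0, 0, 0, 1] = -48 ∧
      tv [0, 1, 1, 0, 0, 0, 0, 0, 0] = 120 ∧
      tv [0, -1, -1, 0, 0, 0, 0, 0, 1] = -120 ∧
      tv [0, 0, 1, -1, 1, 1, 1, -1, 7] = 56 ∧
      tv [0, 0, 0, 0, 0, -1, 0, 1, -1] = -16 ∧
      tv [2, 0, 1, 0, 0, -1, 1, 1, 1] = 72 ∧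
      tv [0, -1, 0, 0, 0, 0, 0, 1, 0] = -64 ∧
      tv [1, 1, 1, 1, 1, 1, 1, 1, 1] = 248 ∧
      tv [-1, -1, -1, -1, -1, -1, -1, -1, -1] = -248 ∧
      tv fP = 32 ∧
      tv fT = 72 := by
    (refine of_decide_eq_true ?_; (try (rewrite [Cfsg.Agent.LsF.fe384a6_13.2, Cfsg.Agent.LsF.ineg_pat, Cfsg.Agent.LsF.instIDecEq_eq, Cfsg.Agent.LsF.dAnd_eq, Cfsg.Agent.LsF.decide_eq])); decide +kernel)
  have p1 := hpos _ _ c1
  have p2 := hpos _ _ c2
  have p3 := hpos _ _ c3
  have p4 := hpos _ _ c4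
  have p5 := hpos _ _ c5
  have p6 := hpos _ _ c6
  have p7 := hpos _ _ c7
  have p8 := hpos _ _ c8
  have p9 := hpos _ _ c9
  have p10 := hpos _ _ c10
  have p11 := hpos _ _ c11
  have p12 := hpos _ _ c12
  simp only [List.getD_cons_zero, List.getD_cons_succ] at p1 p2 p3 p4 p5 p6 p7 p8 p9 p10 p11 p12
  rw [t1] at p1
  rw [t2] at p2
  rw [t3] at p3
  rw [t4] at p4
  rw [t5] at p5
  rw [t6] at p6
  rw [t7] at p7
  rw [t8] at p8
  rw [t9] at p9
  rw [t10] at p10
  rw [t11] at p11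
  rw [t12] at p12
  have q0 : d 0 = 16 := by omega
  have q3 : d 4 = 6 := by omega
  have q4 : d 7 = 2 := by omega
  have q12 : d 1 + d 2 = 15 := by omega
  have q5 : d 8 = 6 := by (clear * - p1 p2 p3 p4 p5 p6 p7 p8 p11 p12; (solve | lia | omega))
  have q1 : d 1 = 8 ∨ d 1 = 9 := by (clear * - p9 p10; (solve | lia | omega))
  have q1' : d 1 = 8 := by
    rcases q1 with q1 | q1
    · exact q1
    · exfalso
      have q2 : d 2 = 6 := by omega
      refine hE v hinv ⟨?_, ?_, ?_, ?_, ?_, ?_⟩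
      · have h1 := hd 0 (by norm_num)
        rw [if_pos rfl, Nat.cast_zero] at h1
        rw [hdd] at h1
        omega
      · have h1 := hd 1 (by norm_num)
        rw [if_neg (by norm_num), Nat.cast_one] at h1
        rw [hdd] at h1
        push_cast at h1
        (clear * - q1 h1; omega)
      · have h1 := hd 2 (by norm_num)
        rw [if_neg (by norm_num)] at h1
        rw [hdd] at h1
        push_cast at h1
        omega
      · have h1 := hd 4 (by norm_num)
        rw [if_neg (by norm_num)] at h1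
        rw [hdd] at h1
        push_cast at h1
        omega
      · have h1 := hd 7 (by norm_num)
        rw [if_neg (by norm_num)] at h1
        rw [hdd] at h1
        push_cast at h1
        omega
      · have h1 := hd 8 (by norm_num)
        rw [if_neg (by norm_num)] at h1
        rw [hdd] at h1
        push_cast at h1
        (clear * - p1 p2 p3 p4 p5 p6 p7 p8 p11 p12 h1; (solve | lia | omega))
  intro hfix
  -- a trivial composition factor
  have htriv := exists_triv ι hcard hlam hN (orbF fT) (orbG gT) (fun b hb hb0 => by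
    have h1 := all81 cT hb
    simp only [Bool.or_eq_true, beq_iff_eq, hb0, false_or, decide_eq_true_eq] at h1
    exact h1) _ (rK φ) rfl (by
      rw [hval, tT]
      show (72 : ℤ) + (1 * d 0 + 8 * (-1 * d 1 + 0 * d 2 + 0 * d 4 + -1 * d 7 + 0 * d 8)) ≠ 0
      (clear * - p2 p7 q1'; (solve | lia | omega)))
  have h1 := press2 ι (rK φ) hcard hlam hN (orbF fP) (orbG gP) (D := 2) (by norm_num) (by decide) (fun b hb hb0 => by
    have h1 := all81 cP hb
    simp only [Bool.or_eq_true, beq_iff_eq, hb0, false_or, decide_eq_true_eq] at h1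
    exact h1) orbF_symm orbG_symm (formB_inv φ) (fun y hy => by
      apply formB_nd
      intro x
      have hs : ∀ x y, formB x y = formB y x := by
        intro x y
        rw [formB_apply, formB_apply, Matrix.dotProduct_mulVec, ← Matrix.mulVec_transpose, formJ_spec.1, dotProduct_comm]
      rw [hs]
      exact hy x) htriv hfix
  rw [hval, tP] at h1
  have h2 : (32 : ℤ) + (0 * d 0 + 8 * (-1 * d 1 + 0 * d 2 + 0 * d 4 + 2 * d 7 + 0 * d 8)) ≤ -2 := h1
  (clear * - p8 q1' h2; omega)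

end

/-- **the third class** -/
theorem fixThree (hS : NonSplitStmt) (hE : Enum41Stmt) : FixThree := by
  intro F _ _ hcard ι φ hk lam hlam hT
  classical
  have hch := charP3 hcard
  obtain ⟨c, η, hN⟩ := hS F KK ι hcard
  exact fix3 hcard ι φ hk lam hlam hN hE hT

end Cfsg.Agent.H525.E8L
end

-- part: H525/E8L/YSix
section
/-!
# The class `Y6` (helper525, S5921): the multiplicities of the weights of order 41
-/

set_option autoImplicit false
set_option linter.unusedSectionVars false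
set_option maxRecDepth 100000

namespace Cfsg.Agent.H525.E8L

open Matrix
open Cfsg Cfsg.Lie Cfsg.Lie.ChevalleyDatum
open Cfsg.Agent.H943.SL2Rel Cfsg.Agent.H943.RepAdd Cfsg.Agent.H940.E8L
open Cfsg.Agent.H942.E8Alc Cfsg.Agent.H944.RootVals

/-- the sixth class -/
def Y6 : List ℕ := [1, 2, 2, 1, 1, 1, 1, 1]

/-- no element of order 41 with these multiplicities (helper943) -/
def NoSixStmt : Prop := ∀ (η : KK) (_ : IsPrimitiveRoot η 41) (x : G8) (_ : x ^ 41 = 1) (v : Fin 8 → ZMod 41)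
  (_ : TorZ η x 41 v) (_ : ∀ κ : ZMod 41, κ ≠ 0 → (ms chevE8 8 v).count κ = 6), False

theorem s2 : chk2 [0, 1, 0, 0, 0, 0, 0, 0, 0] [0, -1, 0, 0, 0, 0] = true := call.2.2.2.2.2.2.2.2.2.2.2.2.1
theorem s3 : chk2 [0, 0, 1, 0, 1, -1, 0, 2, 2] [0, 0, -1, 0, 0, 0] = true := call.2.2.2.2.2.2.2.2.2.2.2.2.2.1
theorem s5 : chk2 [0, 0, 0, 0, 1, 0, 0, 1, 3] [0, 0, 0, 0, -1, 0] = true := call.2.2.2.2.2.2.2.2.2.2.2.2.2.2.1
theorem s6 : chk2 [0, 0, 0, 0, 0, 0, 1, 2, 0] [0, 0, 0, 0, 0, -1] = true := call.2.2.2.2.2.2.2.2.2.2.2.2.2.2.2.1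

/-- the value of a functional of order 40 on the module -/
def tv6 (L : List ℤ) : ℤ := 8 * orbF L 0 + rsum (fun j => orbF L (2 * j)) Y6

section

variable {F : Type} [Field F] [Fintype F] [DecidableEq F] [CharP F 3] [DecidableEq KK] (hcard : Fintype.card F = 81)
  (ι : F →+* KK)
  (φ : _root_.Matrix.SpecialLinearGroup (Fin 2) F →* G8)
  (hk : ∀ g, φ g = 1 ↔ g ∈ Subgroup.center (_root_.Matrix.SpecialLinearGroup (Fin 2) F))
  (lam : Fˣ) (hlam : ∀ x, x ∈ Subgroup.zpowers lam)
  {c : _root_.Matrix.SpecialLinearGroup (Fin 2) F} {η : KK}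

private noncomputable def _root_.Cfsg.Agent.LsF.fe384a6_14 : {f // @Cfsg.Agent.H525.E8L.tv6 = f} := ⟨_, by first | (delta Cfsg.Agent.H525.E8L.tv6; rewrite [Cfsg.Agent.LsF.fe384a6_1.2, Cfsg.Agent.LsF.fe384a6_3.2, Cfsg.Agent.LsF.nmul_pat, Cfsg.Agent.LsF.iadd_pat, Cfsg.Agent.LsF.imul_pat]; exact rfl) | exact rfl⟩
include hk hlam in
theorem six (hN : Non41 ι hcard c η) (hT : TorZ (ι lam ^ 2) (φ (h lam)) 40 (vecL 40 Y6)) :
    ∀ κ : ℕ, κ < 41 → κ ≠ 0 → Module.finrank KK (eig (rK φ) c (η ^ κ)) = 6 := by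
  obtain ⟨v, hinv, hd⟩ := mult41 hcard ι φ hN
  obtain ⟨d, hdd⟩ : ∃ d : ℕ → ℕ, ∀ κ, Module.finrank KK (eig (rK φ) c (η ^ κ)) = d κ := ⟨_, fun κ => rfl⟩
  have h3inj : Function.Injective fun a : ZMod 41 => 3 * a := by
    intro a b hab
    have h1 : ∀ a b : ZMod 41, 3 * a = 3 * b → a = b := by decide +kernel
    exact h1 a b hab
  have hd3 : ∀ κ < 41, d (3 * κ % 41) = d κ := by
    intro κ hκ
    rw [← hdd, ← hdd, hd κ hκ, hd _ (Nat.mod_lt _ (by norm_num))]
    congr 1
    · have h1 : 3 * κ % 41 = 0 ↔ κ = 0 := by omega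
      simp only [h1]
    · have h1 : ((3 * κ % 41 : ℕ) : ZMod 41) = 3 * (κ : ZMod 41) := by
        rw [ZMod.natCast_mod]
        push_cast
        rfl
      rw [h1]
      conv_lhs => rw [hinv]
      exact Multiset.count_map_eq_count' (fun a : ZMod 41 => 3 * a) (ms chevE8 8 v) h3inj (κ : ZMod 41)
  -- the value of the combined functional
  have hval : ∀ L M : List ℤ, (RF ι lam hcard hN (orbF L) (orbG M)).psi (rK φ) = tv6 L +
      (M.getD 0 0 * d 0 + 8 * (M.getD 1 0 * d 1 + M.getD 2 0 * d 2 + M.getD 3 0 * d 4 + M.getD 4 0 * d 7 +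
        M.getD 5 0 * d 8)) := by
    intro L M
    rw [RF_eq, fun_rK hcard ι φ hlam hT _ (orbF_odd _)]
    congr 1
    rw [Finset.sum_congr rfl fun κ _ => by rw [eig_cz φ hk]]
    have h1 : ∀ κ ∈ Finset.range 41, orbG M κ * (Module.finrank KK (eig (rK φ) c (η ^ κ)) : ℤ) =
        (fun o => M.getD o 0 * (d (rep41 o) : ℤ)) (orb41 κ) := by
      intro κ hκ
      rw [hdd κ, const_orb hd3 (Finset.mem_range.1 hκ)]
      rfl
    refine (Finset.sum_congr rfl h1).trans ((sum_orb fun o => M.getD o 0 * (d (rep41 o) : ℤ)).trans ?_)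
    rfl
  have hpos : ∀ L M : List ℤ, chk2 L M = true → 0 ≤ tv6 L +
      (M.getD 0 0 * d 0 + 8 * (M.getD 1 0 * d 1 + M.getD 2 0 * d 2 + M.getD 3 0 * d 4 + M.getD 4 0 * d 7 +
        M.getD 5 0 * d 8)) := by
    intro L M hLM
    rw [← hval]
    exact RF_nonneg ι hcard hlam hN (orbF L) (orbG M) (fun b hb => of_decide_eq_true (all81 hLM hb)) _ (rK φ) rfl
  obtain ⟨t1, t2, t3, t4, t5, t6, t12⟩ :
      tv6 [1, 0, 0, 0, 0, 0, 0, 0, 0] = 8 ∧
      tv6 [0, 1, 0, 0, 0, 0, 0, 0, 0] = 48 ∧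
      tv6 [0, 0, 1, 0, 1, -1, 0, 2, 2] = 48 ∧
      tv6 [0, 0, 0, 1, 1, 0, 0, 0, 0] = 48 ∧
      tv6 [0, 0, 0, 0, 1, 0, 0, 1, 3] = 48 ∧
      tv6 [0, 0, 0, 0, 0, 0, 1, 2, 0] = 48 ∧
      tv6 [-1, -1, -1, -1, -1, -1, -1, -1, -1] = -248 := by
    (refine of_decide_eq_true ?_; (try (rewrite [Cfsg.Agent.LsF.fe384a6_14.2, Cfsg.Agent.LsF.ineg_pat, Cfsg.Agent.LsF.instIDecEq_eq, Cfsg.Agent.LsF.dAnd_eq, Cfsg.Agent.LsF.decide_eq])); decide +kernel)
  have p1 := hpos _ _ c1
  have p2 := hpos _ _ s2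
  have p3 := hpos _ _ s3
  have p4 := hpos _ _ c3
  have p5 := hpos _ _ s5
  have p6 := hpos _ _ s6
  have p12 := hpos _ _ c12
  simp only [List.getD_cons_zero, List.getD_cons_succ] at p1 p2 p3 p4 p5 p6 p12
  rw [t1] at p1
  rw [t2] at p2
  rw [t3] at p3
  rw [t4] at p4
  rw [t5] at p5
  rw [t6] at p6
  rw [t12] at p12
  have q1 : d 1 = 6 := by omega
  have q2 : d 2 = 6 := by omega
  have q4 : d 4 = 6 := by omega
  have q7 : d 7 = 6 := by omega
  have q8 : d 8 = 6 := by omega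
  intro κ hκ hκ0
  rw [hdd, const_orb hd3 hκ]
  have h1 : ∀ κ < 41, κ ≠ 0 → rep41 (orb41 κ) = 1 ∨ rep41 (orb41 κ) = 2 ∨ rep41 (orb41 κ) = 4 ∨
      rep41 (orb41 κ) = 7 ∨ rep41 (orb41 κ) = 8 := by decide +kernel
  rcases h1 κ hκ hκ0 with h2 | h2 | h2 | h2 | h2 <;> rw [h2] <;> assumption

end

/-- **no class six** -/
theorem noSix_of (hS : NonSplitStmt) (h6 : NoSixStmt) : ∀ (F : Type) [Field F] [Fintype F]
    (_ : Fintype.card F = 81) (ι : F →+* KK)
    (φ : _root_.Matrix.SpecialLinearGroup (Fin 2) F →* G8)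
    (_ : ∀ g, φ g = 1 ↔ g ∈ Subgroup.center (_root_.Matrix.SpecialLinearGroup (Fin 2) F))
    (lam : Fˣ) (_ : ∀ x, x ∈ Subgroup.zpowers lam)
    (_ : TorZ (ι lam ^ 2) (φ (h lam)) 40 (vecL 40 Y6)), False := by
  intro F _ _ hcard ι φ hk lam hlam hT
  classical
  have hch := charP3 hcard
  obtain ⟨c, η, hN⟩ := hS F KK ι hcard
  have h1 := six hcard ι φ hk lam hlam hN hT
  have hx : (φ c) ^ 41 = 1 := by rw [← map_pow, hN.pow, map_one]
  obtain ⟨v, hv⟩ := Cfsg.Agent.H943.TorZ.exists_torZ (by norm_num) (by norm_num) hx hN.prim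
  refine h6 η hN.prim (φ c) hx v hv fun κ hκ => ?_
  have h2 := hv.dims hN.prim κ
  rw [if_neg hκ, zero_add] at h2
  rw [← h2]
  have h3 : κ.val ≠ 0 := fun h => hκ ((ZMod.val_eq_zero κ).1 h)
  exact h1 κ.val (ZMod.val_lt κ) h3

end Cfsg.Agent.H525.E8L
end

-- part: H943/DimFix
section
/-!
# Fixed spaces of elements of large prime order (helper943, S5921)
-/

set_option autoImplicit false
set_option linter.unusedSectionVars false

namespace Cfsg.Agent.H943.DimFix

open CoxeterSystem Subgroup Cfsg Cfsg.Lie Cfsg.Lie.ChevalleyDatum Polynomial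
open Cfsg.Agent.ChevalleyStructure Cfsg.Agent.ChevalleyStructure.Elts Cfsg.Agent.ChevalleyStructure.CoxeterGeom
  Cfsg.Agent.ChevalleyStructure.CoxeterGeomTypes Cfsg.Agent.ChevalleyStructure.NPerm
open Cfsg.Agent.Tits.Roots Cfsg.Agent.Tits.Core Cfsg.Agent.Nodes.Reps Cfsg.Agent.Nodes.BNOf
  Cfsg.Agent.Nodes.RGDChev Cfsg.Agent.Nodes.Bruhat
open Cfsg.Agent.KFacts.RgdField Cfsg.Agent.KFacts.RgdChevCoord Cfsg.Agent.BpExc.TorCent Cfsg.Agent.BpExc.TorChev
open Cfsg.Agent.BpExc.Tow Cfsg.Agent.BpExc.TowChev Cfsg.Agent.BpExc.FamExt Cfsg.Agent.BpExc.FamUntw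
  Cfsg.Agent.BpExc.FamInst Cfsg.Agent.BpExc.LangFr Cfsg.Agent.BpExc.FamField
open Cfsg.Agent.GpExc.Field (glMap emb coe_emb glMap_xG emb_injective coe_glMap)
open Cfsg.Agent.H378.TorDual Cfsg.Agent.H378.TorChar Cfsg.Agent.H378.TorFin Cfsg.Agent.H378.LatRoot
open Cfsg.Agent.H378.Regular Cfsg.Agent.H378

universe u v

variable {D : ChevalleyDatum} {l : ℕ} {M : CoxeterMatrix (Fin l)} (hp : IsType D l M) {k : Type u} [Field k]
  {W : Type*} [Group W] (cs : CoxeterSystem M W)

include cs in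
/-- the matrix of a torus element in terms of its character -/
theorem tor_matrix (hk : LocFin k) (r : ℕ) [Fact r.Prime] [CharP k r] {t : ↥(D.group k)} (ht : t ∈ TT D k) :
    ((t : GL D.Idx k) : Matrix D.Idx D.Idx k) = Matrix.diagonal (Sum.elim (fun _ => (1 : k))
      (fun s : Fin D.nroots => ((tchar hp ⟨t, ht⟩ (Multiplicative.ofAdd (vec D l s)) : kˣ) : k))) := by
  obtain ⟨c, hc0, hc, hact⟩ := exists_c hp (t := (t : GL D.Idx k)) ht
  rw [hc]
  congr 1
  funext i
  rcases i with i | s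
  · rfl
  · show ∏ i ∈ Finset.range D.rank, c i ^ D.cartan i s =
      ((tchar hp ⟨t, ht⟩ (Multiplicative.ofAdd (vec D l s)) : kˣ) : k)
    rw [tchar_apply hp cs hk r _ (isRoot_vec hp cs s.2)]
    symm
    apply ch_eq hp s.2 ht
    apply Subtype.ext
    rw [Subgroup.coe_mul, Subgroup.coe_mul, Subgroup.coe_inv, coe_xc hp s.2, coe_xc hp s.2, hact s s.2, mul_one]

variable [IsAlgClosed k] (hk : LocFin k) (r : ℕ) [Fact r.Prime] [CharP k r]

include hp cs hk in
/-- **The character of an element of prime order** and the dimension of its fixed space. -/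
theorem exists_char [Finite W] (hka : BpExc.TorAll.HAlg r k) {x : ↥(D.group k)} {ℓ : ℕ}
    (hℓ : ℓ.Prime) (hℓr : ℓ ≠ r) (hx : x ^ ℓ = 1) (hx1 : x ≠ 1) {a : ℕ}
    (hc : ∃ c : ↥(D.group k), c * x * c⁻¹ = x ^ a) [DecidableEq k] : ∃ (w : W) (χ : Ch l k),
      χ ∈ KerOf k (rep cs hp.isCartan w - (a : ℤ) • (1 : Module.End ℤ (Fin l → ℤ))) ∧ χ ≠ 1 ∧ χ ^ ℓ = 1 ∧
      Module.finrank k (LinearMap.ker (Matrix.toLin' ((x : GL D.Idx k) : Matrix D.Idx D.Idx k) -
        (1 : k) • (1 : Module.End k (D.Idx → k)))) =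
        D.rank + (Finset.univ.filter fun s : Fin D.nroots => χ (Multiplicative.ofAdd (vec D l s)) = 1).card := by
  obtain ⟨z, hz⟩ := BpExc.TorAll.exists_toral hp r hka hℓ hℓr hx
  obtain ⟨c, hc⟩ := hc
  obtain ⟨t, ht⟩ : ∃ t, t = z⁻¹ * x * z := ⟨_, rfl⟩
  rw [← ht] at hz
  have htℓ : t ^ ℓ = 1 := by
    rw [ht]
    have : (z⁻¹ * x * z) ^ ℓ = z⁻¹ * x ^ ℓ * z := by
      have h1 := conj_pow (a := z⁻¹) (b := x) (i := ℓ)
      rwa [inv_inv] at h1
    rw [this, hx]; group
  have ht1 : t ≠ 1 := by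
    intro h1
    apply hx1
    have : x = z * t * z⁻¹ := by rw [ht]; group
    rw [this, h1]; group
  have hta : t ^ a = z⁻¹ * x ^ a * z := by
    rw [ht]
    have h1 := conj_pow (a := z⁻¹) (b := x) (i := a)
    rwa [inv_inv] at h1
  have hta' : t ^ a ∈ TT D k := Subgroup.pow_mem _ hz _
  have e1 : z⁻¹ * c⁻¹ * z * t ^ a = t * (z⁻¹ * c⁻¹ * z) := by
    rw [hta, ← hc, ht]
    group
  obtain ⟨m', -, w, g, hg, hgs, -⟩ := exists_form' hp cs hk r hta' hz e1
  have hgt : g * t ^ a * g⁻¹ = t := by rw [hgs]; group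
  have hgm : g * t ^ a * g⁻¹ ∈ TT D k := by rw [hgt]; exact hz
  have hχ := fun y => tchar_conj hp cs hk r hg hta' hgm y
  have e2 : (⟨g * t ^ a * g⁻¹, hgm⟩ : ↥(TT D k)) = ⟨t, hz⟩ := Subtype.ext hgt
  have e3 : (⟨t ^ a, hta'⟩ : ↥(TT D k)) = ⟨t, hz⟩ ^ a := rfl
  rw [e2, e3, map_pow] at hχ
  have hK : tchar hp ⟨t, hz⟩ ∈ KerOf k (rep cs hp.isCartan w - (a : ℤ) • (1 : Module.End ℤ (Fin l → ℤ))) := by
    rw [mem_kerOf]
    intro y
    rw [LinearMap.sub_apply, LinearMap.smul_apply, Module.End.one_apply, sub_eq_add_neg, ofAdd_add, map_mul, hχ,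
      ofAdd_neg, map_inv, ofAdd_zsmul, map_zpow, zpow_natCast, MonoidHom.pow_apply, mul_inv_cancel]
  have hχ1 : tchar hp ⟨t, hz⟩ ≠ 1 := by
    intro h1
    have h2 := tchar_injective hp (h1.trans (map_one (tchar hp)).symm)
    exact ht1 (congrArg Subtype.val h2)
  refine ⟨w, tchar hp ⟨t, hz⟩, hK, hχ1, tchar_pow_eq_one hp hz htℓ, ?_⟩
  have hA : (((z⁻¹ : ↥(D.group k)) : GL D.Idx k) : Matrix D.Idx D.Idx k) * ((x : GL D.Idx k) : Matrix D.Idx D.Idx k) *
      (((((z⁻¹ : ↥(D.group k)) : GL D.Idx k))⁻¹ : GL D.Idx k) : Matrix D.Idx D.Idx k) =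
      Matrix.diagonal (Sum.elim (fun _ => (1 : k))
      (fun s : Fin D.nroots => ((tchar hp ⟨t, hz⟩ (Multiplicative.ofAdd (vec D l s)) : kˣ) : k))) := by
    rw [← tor_matrix hp cs hk r hz, ht, ← Subgroup.coe_inv, inv_inv, Subgroup.coe_mul, Subgroup.coe_mul, Units.val_mul,
      Units.val_mul]
  rw [TorDim.finrank_ker_conj_diag _ _ hA 1]
  have e4 : (Finset.univ : Finset D.Idx) = Finset.univ.disjSum Finset.univ := Finset.univ_disjSum_univ.symm
  rw [Finset.card_filter, Fintype.sum_sum_type]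
  congr 1
  · simp only [_root_.Sum.elim_inl, ↓ _root_.reduceIte, _root_.Finset.sum_const, _root_.Finset.card_univ, _root_.Fintype.card_fin, _root_.smul_eq_mul, _root_.mul_one]
  · rw [Finset.card_filter]
    refine Finset.sum_congr rfl fun s _ => ?_
    simp only [Sum.elim_inr, Units.val_eq_one]

end Cfsg.Agent.H943.DimFix
end

-- part: H943/E8Fix
section
/-!
# Fixed spaces of elements of `E8(3)` of order 1093 (helper943, S5921)
-/

set_option autoImplicit false
set_option maxRecDepth 10000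

namespace Cfsg.Agent.H943.E8Fix

open Cfsg.Agent.ChevalleyStructure.CoxeterGeom Cfsg.Agent.Tits.Roots
  Cfsg.Agent.Nodes.RGDChev
open Cfsg.Lie Cfsg.Agent.ChevalleyStructure Cfsg.Agent.ChevalleyStructure.Elts
  Cfsg.Agent.ChevalleyStructure.NPerm Cfsg.Agent.ChevalleyStructure.CoxeterGeomTypes
open Cfsg.Agent.GpExc.Field (emb emb_injective coe_emb coe_glMap)
open Cfsg.Agent.H378.TorFin Cfsg.Agent.H378.TorDual
open Cfsg.Agent.H943.LatFix

/-- the Cartan matrix of `E8` -/
def C8 : Fin 8 → Fin 8 → ℤ :=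
  ![![2, 0, -1, 0, 0, 0, 0, 0], ![0, 2, 0, -1, 0, 0, 0, 0], ![-1, 0, 2, -1, 0, 0, 0, 0], ![0, -1, -1, 2, -1, 0, 0, 0],
    ![0, 0, 0, -1, 2, -1, 0, 0], ![0, 0, 0, 0, -1, 2, -1, 0], ![0, 0, 0, 0, 0, -1, 2, -1], ![0, 0, 0, 0, 0, 0, -1, 2]]

private noncomputable def _root_.Cfsg.Agent.LsF.fe384a6_15 : {f // @Cfsg.Lie.ChevalleyDatum.cartan = f} := ⟨_, by first | (delta Cfsg.Lie.ChevalleyDatum.cartan; rewrite [Cfsg.Agent.LsF.agetD_eq]; exact rfl) | exact rfl⟩
private noncomputable def _root_.Cfsg.Agent.LsF.fe384a6_16 : {f // @Cfsg.Lie.ChevalleyDatum.simple = f} := ⟨_, by first | (delta Cfsg.Lie.ChevalleyDatum.simple; rewrite [Cfsg.Agent.LsF.agetD_eq]; exact rfl) | exact rfl⟩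
private noncomputable def _root_.Cfsg.Agent.LsF.fe384a6_17 : {f // @Cfsg.Agent.ChevalleyStructure.CoxeterGeomTypes.cartanOf = f} := ⟨_, by first | (delta Cfsg.Agent.ChevalleyStructure.CoxeterGeomTypes.cartanOf; rewrite [Cfsg.Agent.LsF.fe384a6_15.2, Cfsg.Agent.LsF.fe384a6_16.2]; exact rfl) | exact rfl⟩
private noncomputable def _root_.Cfsg.Agent.LsF.fe384a6_18 : {f // @Cfsg.Agent.H943.E8Fix.C8 = f} := ⟨_, by first | (delta Cfsg.Agent.H943.E8Fix.C8; rewrite [Cfsg.Agent.LsF.ineg_pat, Cfsg.Agent.LsF.vecCons_eq]; exact rfl) | exact rfl⟩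
theorem cartan_eq : cartanOf chevE8 8 = C8 := by
  funext i j
  revert i j
  (refine of_decide_eq_true ?_; (try (rewrite [Cfsg.Agent.LsF.fe384a6_17.2, Cfsg.Agent.LsF.fe384a6_18.2, Cfsg.Agent.LsF.instIDecEq_eq, Cfsg.Agent.LsF.dForallFin_eq, Cfsg.Agent.LsF.decide_eq])); decide +kernel)

theorem C8_symm : ∀ i j, C8 i j = C8 j i := by decide +kernel

theorem C8_diag : ∀ i, C8 i i = 2 := by decide +kernel

theorem ipQ_C8 (x : Fin 8 → ℚ) : ipQ C8 x x = 2 * (x 0 - x 2 / 2) ^ 2 + 2 * (x 1 - x 3 / 2) ^ 2 +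
    3 / 2 * (x 2 - 2 / 3 * x 3) ^ 2 + 5 / 6 * (x 3 - 6 / 5 * x 4) ^ 2 + 4 / 5 * (x 4 - 5 / 4 * x 5) ^ 2 +
    3 / 4 * (x 5 - 4 / 3 * x 6) ^ 2 + 2 / 3 * (x 6 - 3 / 2 * x 7) ^ 2 + 1 / 2 * x 7 ^ 2 := by
  simp only [ipQ, C8, Fin.sum_univ_eight, Matrix.cons_val]
  push_cast
  ring

theorem ipQ_C8_pos (x : Fin 8 → ℚ) (h : ipQ C8 x x = 0) : x = 0 := by
  rw [ipQ_C8] at h
  have key : ∀ s0 s1 s2 s3 s4 s5 s6 s7 : ℚ, 2 * s0 ^ 2 + 2 * s1 ^ 2 + 3 / 2 * s2 ^ 2 + 5 / 6 * s3 ^ 2 + 4 / 5 * s4 ^ 2 +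
      3 / 4 * s5 ^ 2 + 2 / 3 * s6 ^ 2 + 1 / 2 * s7 ^ 2 = 0 →
      s0 = 0 ∧ s1 = 0 ∧ s2 = 0 ∧ s3 = 0 ∧ s4 = 0 ∧ s5 = 0 ∧ s6 = 0 ∧ s7 = 0 := fun s0 s1 s2 s3 s4 s5 s6 s7 h => by
    have a0 := sq_nonneg s0
    have a1 := sq_nonneg s1
    have a2 := sq_nonneg s2
    have a3 := sq_nonneg s3
    have a4 := sq_nonneg s4
    have a5 := sq_nonneg s5
    have a6 := sq_nonneg s6
    have a7 := sq_nonneg s7
    have z : ∀ {s : ℚ}, s ^ 2 ≤ 0 → s = 0 := fun h => pow_eq_zero_iff two_ne_zero |>.1 (le_antisymm h (sq_nonneg _))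
    refine ⟨z ?_, z ?_, z ?_, z ?_, z ?_, z ?_, z ?_, z ?_⟩ <;> linarith only [h, a0, a1, a2, a3, a4, a5, a6, a7]
  obtain ⟨b0, b1, b2, b3, b4, b5, b6, b7⟩ := key _ _ _ _ _ _ _ _ h
  funext i
  rw [Pi.zero_apply]
  have c6 : x 6 = 0 := by linarith only [b7, b6]
  have c5 : x 5 = 0 := by linarith only [b7, b6, b5]
  have c4 : x 4 = 0 := by linarith only [b7, b6, b5, b4]
  have c3 : x 3 = 0 := by linarith only [b7, b6, b5, b4, b3]
  have c2 : x 2 = 0 := by linarith only [b7, b6, b5, b4, b3, b2]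
  have c1 : x 1 = 0 := by linarith only [b7, b6, b5, b4, b3, b1]
  have c0 : x 0 = 0 := by linarith only [b7, b6, b5, b4, b3, b2, b0]
  fin_cases i <;> assumption

theorem ip_C8_nonneg (x : Fin 8 → ℤ) : 0 ≤ ip C8 x x := by
  have h : (0 : ℚ) ≤ ipQ C8 (H378.LatCyc.vq x) (H378.LatCyc.vq x) := by
    rw [ipQ_C8]
    positivity
  rw [ipQ_vq] at h
  exact_mod_cast h

/-- base change for the dimension of an eigenspace -/
theorem finrank_ker_map {F K : Type*} [Field F] [Field K] (f : F →+* K) {n : Type*} [Fintype n] [DecidableEq n]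
    (A : Matrix n n F) :
    Module.finrank K (LinearMap.ker (Matrix.toLin' (A.map f) - (1 : K) • (1 : Module.End K (n → K)))) =
      Module.finrank F (LinearMap.ker (Matrix.toLin' A - (1 : F) • (1 : Module.End F (n → F)))) := by
  have key : ∀ {K : Type _} [Field K] (B : Matrix n n K),
      (B - 1).rank + Module.finrank K (LinearMap.ker (Matrix.toLin' B - (1 : K) • (1 : Module.End K (n → K)))) =
        Fintype.card n := by
    intro K _ B
    have e2 : Matrix.toLin' B - (1 : K) • (1 : Module.End K (n → K)) = Matrix.toLin' (B - 1) := by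
      rw [map_sub, Matrix.toLin'_one, one_smul]
      rfl
    rw [e2]
    have := LinearMap.finrank_range_add_finrank_ker (Matrix.toLin' (B - 1))
    rw [Module.finrank_fintype_fun_eq_card] at this
    rw [← this]
    rfl
  have key' : ∀ {K : Type _} [Field K] (B : Matrix n n K),
      (B - 1).rank + Module.finrank K (LinearMap.ker (Matrix.toLin' B - (1 : K) • (1 : Module.End K (n → K)))) =
        Fintype.card n := by
    intro K _ B
    have e2 : Matrix.toLin' B - (1 : K) • (1 : Module.End K (n → K)) = Matrix.toLin' (B - 1) := by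
      rw [map_sub, Matrix.toLin'_one, one_smul]
      rfl
    rw [e2]
    have := LinearMap.finrank_range_add_finrank_ker (Matrix.toLin' (B - 1))
    rw [Module.finrank_fintype_fun_eq_card] at this
    rw [← this]
    rfl
  have k1 := key A
  have k2 := key' (A.map f)
  have k3 : (A.map f - 1).rank = (A - 1).rank := by
    rw [← Cfsg.Agent.H593.RobinsonRank.rank_map f (A - 1)]
    congr 1
    rw [Matrix.map_sub _ (map_sub _), Matrix.map_one _ (map_zero _) (map_one _)]
  rw [k3] at k2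
  omega

/-- **elements of `E8(3)` of order 1093 have fixed spaces of dimension at most 20** -/
theorem finrank_1093 {x : ↥(chevE8.group (ZMod 3))} (hx : x ^ 1093 = 1) (hx1 : x ≠ 1) :
    Module.finrank (ZMod 3) (LinearMap.ker (Matrix.toLin' (((x : ↥(chevE8.group (ZMod 3))) : GL chevE8.Idx (ZMod 3)) :
        Matrix chevE8.Idx chevE8.Idx (ZMod 3)) - (1 : ZMod 3) • (1 : Module.End (ZMod 3) (chevE8.Idx → ZMod 3)))) ≤ 20 := by
  classical
  have : Fact (Nat.Prime 3) := ⟨Nat.prime_three⟩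
  obtain ⟨k, _, _, f, r, _, _, n, hk, hka, hn0, hn⟩ := exists_closure (ZMod 3)
  have hn3 : r ^ n = 3 := by rw [← hn, Nat.card_zmod]
  have hr3 : r = 3 := by
    have h1 : r ∣ 3 := hn3 ▸ dvd_pow_self r hn0.ne'
    exact (Nat.prime_dvd_prime_iff_eq (Fact.out (p := r.Prime)) Nat.prime_three).1 h1
  have hp1093 : Nat.Prime 1093 := by norm_num
  have : Fact (Nat.Prime 7) := ⟨by norm_num⟩
  have hr : (1093 : ℕ) ≠ r := by rw [hr3]; norm_num
  set X := emb E8Tab.e8T.inList f x with hX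
  have hXl : X ^ 1093 = 1 := by rw [hX, ← map_pow, hx, map_one]
  have hX1 : X ≠ 1 := fun h => hx1 (emb_injective E8Tab.e8T.inList f (h.trans (map_one _).symm))
  have hc3 := Fusion.frob_conj E8Tab.e8T r hka (n := n) (phi_emb' E8Tab.e8T f r hn x) (ℓ := 1093) hp1093 hr hXl
  rw [hn3] at hc3
  let cs : CoxeterSystem CoxeterMatrix.E₈ CoxeterMatrix.E₈.Group := CoxeterMatrix.E₈.toCoxeterSystem
  have hcard : Nat.card CoxeterMatrix.E₈.Group = 696729600 :=
    Cfsg.Agent.S1093.result (⟨8, CoxeterMatrix.E₈⟩, 696729600) (by simp)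
  have : Finite CoxeterMatrix.E₈.Group := Nat.finite_of_card_ne_zero (by rw [hcard]; norm_num)
  obtain ⟨w, χ, h1, h2, h3, h4⟩ := DimFix.exists_char E8Tab.e8T cs hk r hka hp1093 hr hXl hX1 hc3
  have e1 : ((X : GL chevE8.Idx k) : Matrix chevE8.Idx chevE8.Idx k) =
      (((x : ↥(chevE8.group (ZMod 3))) : GL chevE8.Idx (ZMod 3)) : Matrix chevE8.Idx chevE8.Idx (ZMod 3)).map f := by
    rw [hX, coe_emb, coe_glMap]
  rw [e1, finrank_ker_map] at h4
  rw [h4]
  have hinj : Function.Injective fun s : Fin chevE8.nroots => vec chevE8 8 s := fun a b hab =>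
    Fin.ext (vec_inj E8Tab.e8T a.2 b.2 hab)
  have h5 := card_le (cs := cs) (h := E8Tab.e8T.isCartan) (k := k) (by rw [cartan_eq]; exact C8_symm)
    (by rw [cartan_eq]; exact C8_diag) (by rw [cartan_eq]; exact ipQ_C8_pos) (by rw [cartan_eq]; exact ip_C8_nonneg)
    (m := 7) (by norm_num) (by decide) (w := w) (ℓ := 1093) hp1093 (by rw [hcard]; norm_num) (by norm_num) (q := 3)
    (by
      rw [Polynomial.cyclotomic_prime]
      simp [Finset.sum_range_succ])
    (by norm_num) h1 h2 h3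
    (((Finset.univ.filter fun s : Fin chevE8.nroots => χ (Multiplicative.ofAdd (vec chevE8 8 s)) = 1)).map ⟨_, hinj⟩)
    (by
      intro a ha
      rw [Finset.mem_map] at ha
      obtain ⟨s, hs, rfl⟩ := ha
      exact ⟨isRoot_vec E8Tab.e8T cs s.2, (Finset.mem_filter.1 hs).2⟩)
  rw [Finset.card_map] at h5
  have h6 : chevE8.rank = 8 := rfl
  rw [h6]
  omega

end Cfsg.Agent.H943.E8Fix
end

private theorem dce_eb479ffdc7b8 : _root_.True := by
  try have : _root_.True := by simp only [_root_.Cfsg.Agent.H378.TorChar.tchar.congr_simp]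
  try have : _root_.True := by simp only [_root_.Cfsg.Agent.H525.E8L.exc.eq_1]
  try have : _root_.True := by simp only [_root_.Cfsg.Agent.H943.E8Fix.C8.eq_1]
  try have : _root_.True := by simp only [_root_.Cfsg.Agent.H940.E8L.theta.congr_simp]
  try have : _root_.True := by simp only [_root_.Cfsg.Agent.H943.LatFix.ipQ.eq_1]
  exact _root_.True.intro
end

-- part: H525/E8L/Final
section
prune_inst 0xc1000200014000000000050060001c0280000000000800000800000070008c0000000860000000000000000000050040000000000000000000000000000000000000000000400000000010000000000000000000000000000000000000000000000000800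
set_option linter.all false
open scoped Cfsg.Agent.FastGrp

-- part: H434/E8L/Group
section
/-!
# S5921: the group side (helper434)
-/

set_option autoImplicit false

namespace Cfsg.Agent.H434.E8L

open Matrix Cfsg Cfsg.Lie Cfsg.Agent.H525.E8L
open Cfsg.Agent.H943.SL2Rel (h u w)

section Gen

variable {G : Type*} [Group G]

/-- a subgroup between a maximal subgroup and the group -/
theorem eq_of_coatom {H N : Subgroup G} (hH : IsCoatom H) (h1 : H ≤ N) (h2 : N ≠ ⊤) : N = H :=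
  ((hH.le_iff.1 h1).resolve_left h2)

theorem mem_normalizer_of [Finite G] {S : Subgroup G} {g : G} (hg : ∀ s ∈ S, g * s * g⁻¹ ∈ S) :
    g ∈ Subgroup.normalizer (S : Set G) := by
  rw [Subgroup.mem_normalizer_iff_map_conj_eq]
  apply Subgroup.eq_of_le_of_card_ge
  · rintro _ ⟨s, hs, rfl⟩
    exact hg s hs
  · rw [Subgroup.card_map_of_injective (MulAut.conj g).injective]

/-- a subgroup normalised by a maximal subgroup of a simple group -/
theorem normalizer_coatom [Finite G] [IsSimpleGroup G] {H S : Subgroup G} (hH : IsCoatom H)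
    (hn : ∀ g ∈ H, ∀ s ∈ S, g * s * g⁻¹ ∈ S) :
    S = ⊥ ∨ S = ⊤ ∨ Subgroup.normalizer (S : Set G) = H := by
  have h1 : H ≤ Subgroup.normalizer (S : Set G) := fun g hg => mem_normalizer_of (hn g hg)
  by_cases h2 : Subgroup.normalizer (S : Set G) = ⊤
  · have h4 : S.Normal := Subgroup.normalizer_eq_top_iff.1 h2
    rcases h4.eq_bot_or_eq_top with h5 | h5
    · exact Or.inl h5
    · exact Or.inr (Or.inl h5)
  · exact Or.inr (Or.inr (eq_of_coatom hH h1 h2))

/-- the centre of `PSL₂(F)` is trivial -/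
theorem center_triv {F : Type*} [Field F] [Fintype F] (hcard : Fintype.card F = 81)
    {φ : _root_.Matrix.SpecialLinearGroup (Fin 2) F →* G} (hker : ∀ g, φ g = 1 ↔ g ∈ Subgroup.center (_root_.Matrix.SpecialLinearGroup (Fin 2) F))
    {z : _root_.Matrix.SpecialLinearGroup (Fin 2) F} (hz : ∀ x, φ z * φ x = φ x * φ z) : φ z = 1 := by
  rw [hker, Matrix.SpecialLinearGroup.mem_center_iff]
  have hc : ∀ x : _root_.Matrix.SpecialLinearGroup (Fin 2) F, ∃ r : F, r ^ 2 = 1 ∧
      (z : Matrix (Fin 2) (Fin 2) F) * (x : Matrix (Fin 2) (Fin 2) F) =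
        r • ((x : Matrix (Fin 2) (Fin 2) F) * (z : Matrix (Fin 2) (Fin 2) F)) := by
    intro x
    have h1 : φ (z * x * (x * z)⁻¹) = 1 := by
      rw [map_mul, map_inv, map_mul, map_mul, hz x, mul_inv_cancel]
    rw [hker, Matrix.SpecialLinearGroup.mem_center_iff] at h1
    obtain ⟨r, hr2, hr⟩ := h1
    rw [Fintype.card_fin] at hr2
    refine ⟨r, hr2, ?_⟩
    have h2 : z * x = (z * x * (x * z)⁻¹) * (x * z) := by group
    have h3 : (z : Matrix (Fin 2) (Fin 2) F) * (x : Matrix (Fin 2) (Fin 2) F) =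
        ((z * x * (x * z)⁻¹ : _root_.Matrix.SpecialLinearGroup (Fin 2) F) : Matrix (Fin 2) (Fin 2) F) *
        ((x : Matrix (Fin 2) (Fin 2) F) * (z : Matrix (Fin 2) (Fin 2) F)) := congrArg Subtype.val h2
    rw [h3, ← hr, Matrix.scalar_apply, ← Matrix.smul_eq_diagonal_mul]
  have h3 : Fact (Nat.Prime 3) := ⟨Nat.prime_three⟩
  have hch := charP_three hcard
  have h2ne : (2 : F) ≠ 0 := by
    intro h0
    have := (CharP.cast_eq_zero_iff F 3 2).1 (by exact_mod_cast h0)
    omega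
  have hself : ∀ x : F, x = -x → x = 0 := by
    intro x hx
    have : 2 * x = 0 := by linear_combination hx
    exact (mul_eq_zero.1 this).resolve_left h2ne
  have hdet : z.1 0 0 * z.1 1 1 - z.1 0 1 * z.1 1 0 = 1 := by
    have := z.2
    rwa [Matrix.det_fin_two] at this
  obtain ⟨r, hr2, hr⟩ := hc (u 1)
  have hr' : z.1 * !![1, 1; 0, 1] = r • (!![1, 1; 0, 1] * z.1) := hr
  have e00 := congrFun (congrFun hr' 0) 0
  have e01 := congrFun (congrFun hr' 0) 1
  have e10 := congrFun (congrFun hr' 1) 0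
  have e11 := congrFun (congrFun hr' 1) 1
  simp only [Matrix.mul_apply, Fin.sum_univ_two, Matrix.of_apply, Matrix.cons_val', Matrix.cons_val_zero,
    Matrix.cons_val_one, Matrix.cons_val_fin_one, mul_zero, zero_mul, add_zero, zero_add, mul_one, one_mul,
    Matrix.smul_apply, smul_eq_mul] at e00 e01 e10 e11
  -- the lower unipotent
  let v : _root_.Matrix.SpecialLinearGroup (Fin 2) F := ⟨!![1, 0; 1, 1], by simp [Matrix.det_fin_two]⟩
  obtain ⟨t, ht2, ht⟩ := hc v
  have ht' : z.1 * !![1, 0; 1, 1] = t • (!![1, 0; 1, 1] * z.1) := ht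
  have f00 := congrFun (congrFun ht' 0) 0
  have f01 := congrFun (congrFun ht' 0) 1
  have f10 := congrFun (congrFun ht' 1) 0
  have f11 := congrFun (congrFun ht' 1) 1
  simp only [Matrix.mul_apply, Fin.sum_univ_two, Matrix.of_apply, Matrix.cons_val', Matrix.cons_val_zero,
    Matrix.cons_val_one, Matrix.cons_val_fin_one, mul_zero, zero_mul, add_zero, zero_add, mul_one, one_mul,
    Matrix.smul_apply, smul_eq_mul] at f00 f01 f10 f11
  have hr1 : r = 1 := by
    rcases sq_eq_one_iff.1 hr2 with h0 | h0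
    · exact h0
    · exfalso
      rw [h0] at e10 e11
      have hc0 : z.1 1 0 = 0 := hself _ (by linear_combination e10)
      rw [hc0] at e11
      have hd0 : z.1 1 1 = 0 := hself _ (by linear_combination e11)
      rw [hc0, hd0] at hdet
      simp at hdet
  have ht1 : t = 1 := by
    rcases sq_eq_one_iff.1 ht2 with h0 | h0
    · exact h0
    · exfalso
      rw [h0] at f01 f00
      have hb0 : z.1 0 1 = 0 := hself _ (by linear_combination f01)
      rw [hb0] at f00
      have ha0 : z.1 0 0 = 0 := hself _ (by linear_combination f00)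
      rw [hb0, ha0] at hdet
      simp at hdet
  rw [hr1] at e00 e01
  rw [ht1] at f00
  have hc0 : z.1 1 0 = 0 := by linear_combination -e00
  have had : z.1 0 0 = z.1 1 1 := by linear_combination e01
  have hb0 : z.1 0 1 = 0 := by linear_combination f00
  refine ⟨z.1 0 0, ?_, ?_⟩
  · rw [Fintype.card_fin]
    rw [hb0, ← had] at hdet
    linear_combination hdet
  · ext k l
    fin_cases k <;> fin_cases l
    · simp [Matrix.scalar_apply]
    · simpa only [Matrix.scalar_apply, _root_.Fin.isValue, _root_.Fin.zero_eta, _root_.Fin.mk_one, _root_.ne_eq, _root_.zero_ne_one, _root_.not_false_eq_true, _root_.Matrix.diagonal_apply_ne] using hb0.symm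
    · simpa only [Matrix.scalar_apply, _root_.Fin.isValue, _root_.Fin.mk_one, _root_.Fin.zero_eta, _root_.ne_eq, _root_.one_ne_zero, _root_.not_false_eq_true, _root_.Matrix.diagonal_apply_ne] using hc0.symm
    · simpa [Matrix.scalar_apply] using had

theorem exists_gen [Finite G] [IsSimpleGroup G] {F : Type*} [Field F] [Fintype F] (hcard : Fintype.card F = 81)
    (H : Subgroup G) (hmax : IsCoatom H)
    (e : ↥(generalizedFittingSubgroup ↥H) ≃* ProjectiveSpecialLinearGroup (Fin 2) F) :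
    ∃ φ : _root_.Matrix.SpecialLinearGroup (Fin 2) F →* G,
      (∀ g, φ g = 1 ↔ g ∈ Subgroup.center (_root_.Matrix.SpecialLinearGroup (Fin 2) F)) ∧ φ.range ≤ H ∧
      (∀ g ∈ H, ∀ s ∈ φ.range, g * s * g⁻¹ ∈ φ.range) ∧ (∀ g ∈ H, ∀ s ∈ φ.range, g⁻¹ * s * g ∈ φ.range) ∧
      (∀ g : G, (∀ s ∈ φ.range, g * s * g⁻¹ ∈ φ.range) → g ∈ H) ∧ ∀ g : G, (∀ s ∈ φ.range, g * s = s * g) → g = 1 := by
  set E : Subgroup ↥H := generalizedFittingSubgroup ↥H with hE
  have hEn : E.Normal := Cfsg.Agent.Lib.GenFitting.genFitting_normal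
  have hEc : Subgroup.centralizer (E : Set ↥H) ≤ E := Cfsg.Agent.Lib.GenFitting.centralizer_genFitting_le
  let φ : _root_.Matrix.SpecialLinearGroup (Fin 2) F →* G :=
    ((H.subtype.comp E.subtype).comp e.symm.toMonoidHom).comp
      (QuotientGroup.mk' (Subgroup.center (_root_.Matrix.SpecialLinearGroup (Fin 2) F)))
  have hφ : ∀ x, φ x = ((e.symm (QuotientGroup.mk' (Subgroup.center (_root_.Matrix.SpecialLinearGroup (Fin 2) F)) x) : ↥E) : ↥H) :=
    fun x => rfl
  have hker : ∀ g, φ g = 1 ↔ g ∈ Subgroup.center (_root_.Matrix.SpecialLinearGroup (Fin 2) F) := by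
    intro g
    rw [hφ, OneMemClass.coe_eq_one, OneMemClass.coe_eq_one, map_eq_one_iff _ e.symm.injective]
    exact QuotientGroup.eq_one_iff g
  have hrange : φ.range = E.map H.subtype := by
    ext x
    constructor
    · rintro ⟨y, rfl⟩
      exact ⟨_, (e.symm (QuotientGroup.mk' (Subgroup.center (_root_.Matrix.SpecialLinearGroup (Fin 2) F)) y)).2, rfl⟩
    · rintro ⟨z, hz, rfl⟩
      obtain ⟨y, hy⟩ := QuotientGroup.mk'_surjective (Subgroup.center (_root_.Matrix.SpecialLinearGroup (Fin 2) F)) (e ⟨z, hz⟩)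
      refine ⟨y, ?_⟩
      rw [hφ, hy, e.symm_apply_apply]
      rfl
  have hle : φ.range ≤ H := by
    rw [hrange]
    exact Subgroup.map_subtype_le _
  have hnorm : ∀ g ∈ H, ∀ s ∈ φ.range, g * s * g⁻¹ ∈ φ.range := by
    intro g hg s hs
    rw [hrange] at hs ⊢
    obtain ⟨z, hz, rfl⟩ := hs
    exact ⟨(⟨g, hg⟩ * z * ⟨g, hg⟩⁻¹ :), hEn.conj_mem z hz _, rfl⟩
  have hnorm' : ∀ g ∈ H, ∀ s ∈ φ.range, g⁻¹ * s * g ∈ φ.range := by
    intro g hg s hs
    have := hnorm g⁻¹ (H.inv_mem hg) s hs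
    rwa [inv_inv] at this
  have hw : φ w ≠ 1 := by
    intro h0
    exact Cfsg.Agent.H943.PSLHom.w_not_mem_center ((hker _).1 h0)
  have hnrm : ∀ g : G, (∀ s ∈ φ.range, g * s * g⁻¹ ∈ φ.range) → g ∈ H := by
    have h2 : Subgroup.normalizer (φ.range : Set G) = H := by
      rcases normalizer_coatom hmax hnorm with h5 | h5 | h5
      · exfalso
        apply hw
        have : φ w ∈ φ.range := ⟨w, rfl⟩
        rwa [h5, Subgroup.mem_bot] at this
      · exfalso
        exact hmax.1 (top_le_iff.1 (h5 ▸ hle))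
      · exact h5
    intro g hg
    rw [← h2]
    exact mem_normalizer_of hg
  refine ⟨φ, hker, hle, hnorm, hnorm', hnrm, ?_⟩
  intro g hg
  have hgH : g ∈ H := hnrm g fun s hs => by rw [hg s hs, mul_inv_cancel_right]; exact hs
  have h1 : (⟨g, hgH⟩ : ↥H) ∈ Subgroup.centralizer (E : Set ↥H) := by
    rw [Subgroup.mem_centralizer_iff]
    intro z hz
    apply Subtype.ext
    have : (z : G) ∈ φ.range := by rw [hrange]; exact ⟨z, hz, rfl⟩
    exact (hg z this).symm
  have h2 : g ∈ φ.range := by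
    rw [hrange]
    exact ⟨_, hEc h1, rfl⟩
  obtain ⟨z, rfl⟩ := h2
  exact center_triv hcard hker fun x => hg _ ⟨x, rfl⟩

end Gen

/-- **GROUP** -/
theorem groupStmt : GroupStmt := by
  intro F _ _ hcard H ⟨e⟩ hmax
  have hsimple : IsSimpleGroup G8 := Cfsg.Agent.H834.E8.noFix.1
  obtain ⟨φ, hker, hle, hnorm, hnorm', hnrm, hcent⟩ := exists_gen hcard H hmax e
  exact ⟨φ,
    { card := hcard
      coatom := hmax
      ker := hker
      le := hle
      norm := hnorm
      nrm := hnrm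
      cent := hcent
      comm := fun a ha b hb => comm81 hcard hker hcent (hnorm a ha) (hnorm' a ha) (hnorm b hb) (hnorm' b hb)
      four := fun a ha => four81 hcard hker hcent (hnorm a ha) (hnorm' a ha)
      cyc := fun lam hlam => cyc81 hcard hker hcent H hnorm hlam }⟩

/-- the pointwise stabiliser of a subspace -/
def pst (A : Submodule (ZMod 3) (chevE8.Idx → ZMod 3)) : Subgroup G8 where
  carrier := {g | ∀ a ∈ A, act g a = a}
  one_mem' := fun a _ => act_one a
  mul_mem' := fun {x y} hx hy a ha => by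
    show act (x * y) a = a
    rw [act_mul, hy a ha, hx a ha]
  inv_mem' := fun {x} hx a ha => by
    show act x⁻¹ a = a
    have h1 : act x a = a := hx a ha
    have h2 := act_mul x⁻¹ x a
    rw [inv_mul_cancel, act_one, h1] at h2
    exact h2.symm

theorem act_conj {g s : G8} {a : chevE8.Idx → ZMod 3} (h : act s (act g⁻¹ a) = act g⁻¹ a) : act (g * s * g⁻¹) a = a := by
  rw [act_mul, act_mul, h, ← act_mul, mul_inv_cancel, act_one]

/-- **CENTRE** -/
theorem centreStmt : CentreStmt := by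
  intro F _ _ H φ st A hA hinv hfix g hg
  have hsimple : IsSimpleGroup G8 := Cfsg.Agent.H834.E8.noFix.1
  have hnf := Cfsg.Agent.H834.E8.noFix.2
  have hgC : g ∈ pst A := hg
  have h1 : ∀ x ∈ H, ∀ s ∈ pst A, x * s * x⁻¹ ∈ pst A := by
    intro x hx s hs a ha
    exact act_conj (hs _ (hinv x⁻¹ (H.inv_mem hx) a ha))
  rcases normalizer_coatom st.coatom h1 with h5 | h5 | h5
  · rw [h5, Subgroup.mem_bot] at hgC
    rw [hgC]
    exact H.one_mem
  · exfalso
    apply hA
    rw [eq_bot_iff]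
    intro a ha
    rw [Submodule.mem_bot]
    apply hnf
    intro x hx
    have h6 : (⟨x, hx⟩ : G8) ∈ pst A := by rw [h5]; trivial
    exact h6 a ha
  · rw [← h5]
    exact Subgroup.le_normalizer hgC

end Cfsg.Agent.H434.E8L
end

-- part: H72/E8T/Torus
section
/-!
# Involutions in the centre of the centralisers of elements of order 40 of `E₈(3)` (S5921)
-/

set_option autoImplicit false
set_option linter.unusedSectionVars false
set_option maxRecDepth 100000

namespace Cfsg.Agent.H72.E8T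

open Cfsg.Agent.H942.CB

section Gen

open CoxeterSystem Cfsg Cfsg.Lie Cfsg.Lie.ChevalleyDatum
open Cfsg.Agent.ChevalleyStructure Cfsg.Agent.ChevalleyStructure.Elts Cfsg.Agent.ChevalleyStructure.CoxeterGeom
  Cfsg.Agent.ChevalleyStructure.CoxeterGeomTypes Cfsg.Agent.ChevalleyStructure.NPerm
open Cfsg.Agent.Tits.Roots Cfsg.Agent.Tits.Core Cfsg.Agent.Nodes Cfsg.Agent.Nodes.Reps Cfsg.Agent.Nodes.BNOf
  Cfsg.Agent.Nodes.RGDChev Cfsg.Agent.Nodes.Bruhat Cfsg.Agent.Nodes.SubComb Cfsg.Agent.Nodes.Coroot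
  Cfsg.Agent.Nodes.NormalForm
open Cfsg.Agent.KFacts.RgdField Cfsg.Agent.KFacts.RgdChevCoord Cfsg.Agent.BpExc.TorCent Cfsg.Agent.BpExc.TorChev
open Cfsg.Agent.GpExc.Field Cfsg.Agent.BpExc.Tow Cfsg.Agent.BpExc.TowChev Cfsg.Agent.BpExc.Fr
  Cfsg.Agent.BpExc.LangFr Cfsg.Agent.LangThm Cfsg.Agent.BpExc Cfsg.Agent.H129.TorusChar Cfsg.Agent.H129.TorusMain
open Cfsg.Agent.H720.TorusReal Cfsg.Agent.Nodes.Unique Cfsg.Agent.H897.T5Cent
open Cfsg.Agent.H897.T5Lat (Frm bf bf_apply)
open Cfsg.Agent.BpExc.FamUntw Cfsg.Agent.BpExc.FamInst Cfsg.Agent.BpExc.FamField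

universe u v

variable {D : ChevalleyDatum} {l : ℕ} {M : CoxeterMatrix (Fin l)} (hp : IsType D l M) {k : Type u} [Field k]
  [IsAlgClosed k] {W : Type v} [Group W] [Finite W] (cs : CoxeterSystem M W) (hk : LocFin k) {p : ℕ} [Fact p.Prime]
  [CharP k p] (Fm : _root_.Cfsg.Agent.H897.T5Lat.Frm cs hp.isCartan (bf (cartanOf D l)))
variable {F0 : Type u} [Field F0] [Finite F0] (f : F0 →+* k) {n : ℕ} (hn : Nat.card F0 = p ^ n)
  {B : Fin l → Fin l → ℤ} (hB : InvC D l 1 B)

include hk Fm hn hB in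
/-- Elements of the torus with compatible characters are conjugated to rational elements simultaneously. -/
theorem exists_conj (hn0 : 0 < n) {N : ℕ} (hN0 : N ≠ 0) (hNp : N.Coprime p) {x : ↥(D.group F0)} (hx : x ^ N = 1)
    {z t : ↥(D.group k)} (hz : z⁻¹ * emb hp.inList f x * z = t) (ht : t ∈ TT D k) (w : W)
    (hw : ∀ a, cX hp t (rep cs hp.isCartan w a) = cX hp t a ^ p ^ n) {s : ↥(D.group k)} (hs : s ∈ TT D k)
    (hws : ∀ a, cX hp s (rep cs hp.isCartan w a) = cX hp s a ^ p ^ n) :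
    ∃ (z1 : ↥(D.group k)) (g : ↥(D.group F0)), emb hp.inList f x = z1 * t * z1⁻¹ ∧
      emb hp.inList f g = z1 * s * z1⁻¹ := by
  classical
  have hN : NSys M (TT D k) (nc hp k) := nsysT hp hk p
  set! σ := phi D k p n with hσ
  have hσF : IsFrob p n σ := phi_isFrob p n
  have F : Fr cs hp.isCartan (TT D k) (XX D l k) σ (AddEquiv.refl _) := phi_fr hp cs p hk n
  have hσx : σ (emb hp.inList f x) = emb hp.inList f x := Cfsg.Agent.H378.TorFin.phi_emb' hp f p hn x
  obtain ⟨n1, hn1⟩ := exists_rp cs hN w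
  have hnt : n1 * σ t * n1⁻¹ = t := (tau_iff hp cs hk hσF F hn1 ht).2 hw
  have hns : n1 * σ s * n1⁻¹ = s := (tau_iff hp cs hk hσF F hn1 hs).2 hws
  have htN : t ^ N = 1 := by
    rw [← hz]
    have h1 : (z⁻¹ * emb hp.inList f x * z) ^ N = z⁻¹ * (emb hp.inList f x) ^ N * z := by
      have := conj_pow (i := N) (a := z⁻¹) (b := emb hp.inList f x)
      rwa [inv_inv] at this
    rw [h1, ← map_pow, hx, map_one, mul_one, inv_mul_cancel]
  have hC := con_of_frm' (p := p) hp cs hk Fm hB (N := N) (Nat.coprime_one_left N) hN0 hNp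
  obtain ⟨z1, hz1, hz2⟩ := star hp cs hk p hC hn0 hσF F hB one_ne_zero hn1 hσx hz ht htN hnt
  have h3 : σ z1 = z1 * n1 := by rw [← hz1]; group
  have h4 : σ (z1 * s * z1⁻¹) = z1 * s * z1⁻¹ := by
    rw [map_mul, map_mul, map_inv, h3]
    calc z1 * n1 * σ s * (z1 * n1)⁻¹ = z1 * (n1 * σ s * n1⁻¹) * z1⁻¹ := by group
      _ = _ := by rw [hns]
  obtain ⟨g, hg⟩ := Cfsg.Agent.H378.TorFin.fix_mem hp f p hn hB h4
  exact ⟨z1, g, by rw [← hz2]; group, hg⟩

end Gen

/-! ### the action over the algebraic closure -/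

section E8

open CoxeterSystem Matrix
open Cfsg Cfsg.Lie Cfsg.Lie.ChevalleyDatum
open Cfsg.Agent.ChevalleyStructure Cfsg.Agent.ChevalleyStructure.Elts Cfsg.Agent.ChevalleyStructure.CoxeterGeom
  Cfsg.Agent.ChevalleyStructure.CoxeterGeomTypes Cfsg.Agent.ChevalleyStructure.NPerm
  Cfsg.Agent.ChevalleyStructure.RootVec Cfsg.Agent.ChevalleyStructure.RootVecTab
open Cfsg.Agent.Tits.Roots Cfsg.Agent.Tits.Core Cfsg.Agent.Nodes Cfsg.Agent.Nodes.Reps Cfsg.Agent.Nodes.BNOf
  Cfsg.Agent.Nodes.RGDChev Cfsg.Agent.Nodes.NormalForm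
open Cfsg.Agent.GpExc.Field Cfsg.Agent.BpExc.TowChev Cfsg.Agent.H129.TorusChar Cfsg.Agent.KFacts.RgdChevCoord
open Cfsg.Agent.H942.E8Tab Cfsg.Agent.H942.E8Alc
open Cfsg.Agent.H944.Tab Cfsg.Agent.H944.Kac
open Cfsg.Agent.H525.E8L

/-- the action of `E₈(K)` on its natural module -/
noncomputable def actK (g : GK) (v : chevE8.Idx → KK) : chevE8.Idx → KK :=
  ((g : GL chevE8.Idx KK) : Matrix chevE8.Idx chevE8.Idx KK) *ᵥ v

theorem actK_mul (g g' : GK) (v : chevE8.Idx → KK) : actK (g * g') v = actK g (actK g' v) := by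
  unfold actK
  rw [Subgroup.coe_mul, Units.val_mul, Matrix.mulVec_mulVec]

theorem actK_one (v : chevE8.Idx → KK) : actK 1 v = v := by
  unfold actK
  rw [Subgroup.coe_one, Units.val_one, Matrix.one_mulVec]

theorem actK_inv (g : GK) (v : chevE8.Idx → KK) : actK g (actK g⁻¹ v) = v := by
  rw [← actK_mul, mul_inv_cancel, actK_one]

/-- extension of scalars -/
noncomputable def ext (v : chevE8.Idx → ZMod 3) : chevE8.Idx → KK := fun i => algebraMap (ZMod 3) KK (v i)

theorem ext_injective : Function.Injective ext := by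
  intro a b h
  funext i
  exact (algebraMap (ZMod 3) KK).injective (congrFun h i)

theorem actK_ext (g : G8) (v : chevE8.Idx → ZMod 3) : actK (eK g) (ext v) = ext (_root_.Cfsg.Agent.H525.E8L.act g v) := by
  funext i
  unfold actK ext Cfsg.Agent.H525.E8L.act
  rw [RingHom.map_mulVec]
  rfl

/-- the action of the torus -/
theorem actK_tor {t : GK} (ht : t ∈ TT chevE8 KK) (v : chevE8.Idx → KK) (i : chevE8.Idx) :
    actK t v i = Sum.elim (fun _ => (1 : KK)) (fun s : Fin chevE8.nroots => cX e8T t (_root_.Cfsg.Agent.Nodes.RGDChev.vec chevE8 8 s)) i * v i := by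
  unfold actK
  rw [TT_diag' e8T ht, Matrix.mulVec_diagonal]

/-- fixed vectors of `t` are fixed by `s` -/
theorem tor_fix {s t : GK} (hs : s ∈ TT chevE8 KK) (ht : t ∈ TT chevE8 KK)
    (h : ∀ i : Fin chevE8.nroots, cX e8T t (_root_.Cfsg.Agent.Nodes.RGDChev.vec chevE8 8 i) = 1 → cX e8T s (_root_.Cfsg.Agent.Nodes.RGDChev.vec chevE8 8 i) = 1)
    {v : chevE8.Idx → KK} (hv : actK t v = v) : actK s v = v := by
  funext i
  have h1 := congrFun hv i
  rw [actK_tor ht] at h1
  rw [actK_tor hs]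
  rcases i with i | i
  · simp
  · simp only [Sum.elim_inr] at h1 ⊢
    by_cases h2 : v (Sum.inr i) = 0
    · rw [h2, mul_zero]
    · have h3 : cX e8T t (_root_.Cfsg.Agent.Nodes.RGDChev.vec chevE8 8 i) = 1 := by
        refine mul_right_cancel₀ h2 ?_
        rw [h1, one_mul]
      rw [h i h3, one_mul]

/-- simultaneous conjugates: fixed vectors -/
theorem fix_of {x g : G8} {z s t : GK} (hs : s ∈ TT chevE8 KK) (ht : t ∈ TT chevE8 KK)
    (hx : eK x = z * t * z⁻¹) (hg : eK g = z * s * z⁻¹)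
    (h : ∀ i : Fin chevE8.nroots, cX e8T t (_root_.Cfsg.Agent.Nodes.RGDChev.vec chevE8 8 i) = 1 → cX e8T s (_root_.Cfsg.Agent.Nodes.RGDChev.vec chevE8 8 i) = 1)
    {v : chevE8.Idx → ZMod 3} (hv : _root_.Cfsg.Agent.H525.E8L.act x v = v) : _root_.Cfsg.Agent.H525.E8L.act g v = v := by
  have h1 : actK (eK x) (ext v) = ext v := by rw [actK_ext, hv]
  have h2 : actK t (actK z⁻¹ (ext v)) = actK z⁻¹ (ext v) := by
    have h3 : t * z⁻¹ = z⁻¹ * eK x := by rw [hx]; group
    rw [← actK_mul, h3, actK_mul, h1]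
  have h4 := tor_fix hs ht h h2
  apply ext_injective
  rw [← actK_ext, hg, actK_mul, actK_mul, h4, actK_inv]

/-! ### functionals -/

/-- the roots -/
theorem root_cases (i : Fin chevE8.nroots) : ∃ r ∈ R8, _root_.Cfsg.Agent.Nodes.RGDChev.vec chevE8 8 i = toR r ∨ _root_.Cfsg.Agent.Nodes.RGDChev.vec chevE8 8 i = - toR r := by
  have h1 : IsRoot cs8 e8T.isCartan (_root_.Cfsg.Agent.Nodes.RGDChev.vec chevE8 8 (i : ℕ)) := (isRoot_iff e8T cs8 _).2 ⟨i, i.2, rfl⟩
  rcases h1.pos_or_neg with h2 | h2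
  · obtain ⟨r, hr, e⟩ := mem_pos_iff.1 ⟨h1, h2⟩
    exact ⟨r, hr, Or.inl e⟩
  · obtain ⟨r, hr, e⟩ := mem_pos_iff.1 ⟨h1.neg, neg_nonneg.2 h2⟩
    exact ⟨r, hr, Or.inr (by rw [← e, _root_.neg_neg])⟩

theorem fz_toR (Y : List ℕ) {r : List ℕ} (hr : r ∈ R8) : fz (YZ Y) (toR r) = ((dotN r Y : ℕ) : ℤ) := by
  rw [dotN_eq 8 r Y (len8 r hr)]
  unfold fz toR
  push_cast
  refine Finset.sum_congr rfl fun i _ => ?_
  rw [YZ_getD, mul_comm]

theorem isMC_fz {ζ : KK} (hζ0 : ζ ≠ 0) (c : List ℤ) : IsMC fun a : Fin 8 → ℤ => ζ ^ fz c a := ⟨by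
  show ζ ^ fz c 0 = 1
  have : fz c 0 = 0 := by unfold fz; simp
  rw [this, zpow_zero], fun a b => by
  show ζ ^ fz c (a + b) = _
  rw [fz_add, zpow_add₀ hζ0]⟩

theorem cX_fz {ζ : KK} (hζ : IsPrimitiveRoot ζ 40) {t : GK} (htT : t ∈ TT chevE8 KK) {Y : List ℕ}
    (hv : ∀ i, cX e8T t (sr i) = ζ ^ (vecL 40 Y i).val) (a : Fin 8 → ℤ) : cX e8T t a = ζ ^ fz (YZ Y) a := by
  refine (isMC_cX e8T htT).ext (isMC_fz (hζ.ne_zero (by norm_num)) _) (fun i => ?_) a
  rw [hv, fz_sr, YZ_getD, zpow_natCast]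
  unfold vecL
  rw [ZMod.val_natCast]
  exact pow_mod_orderOf' hζ _

/-- the twist -/
theorem twist {ζ : KK} (hζ : IsPrimitiveRoot ζ 40) {t : GK} {Y w : List ℕ} (hYl : (YZ Y).length = 8)
    (hX : ∀ a, cX e8T t a = ζ ^ fz (YZ Y) a) (hw : ∀ i ∈ w, i < 8)
    (hwY : ∀ i : Fin 8, ((actW w (YZ Y)).getD i 0 - 3 * (YZ Y).getD i 0) % (40 : ℤ) = 0) (a : Fin 8 → ℤ) :
    cX e8T t (rep cs8 e8T.isCartan (word w) a) = cX e8T t a ^ 3 ^ 1 := by
  have hζ0 : ζ ≠ 0 := hζ.ne_zero (by norm_num)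
  have h31 : (3 : ℕ) ^ 1 = 3 := rfl
  rw [h31, hX, hX]
  have hw3 : (40 : ℤ) ∣ fz (YZ Y) (rep cs8 e8T.isCartan (word w) a) - 3 * fz (YZ Y) a := by
    rw [← fz_actW w hw hYl]
    exact fz_dvd (fun i => Int.dvd_of_emod_eq_zero (hwY i)) a
  obtain ⟨m, hm⟩ := hw3
  have h1 : fz (YZ Y) (rep cs8 e8T.isCartan (word w) a) = fz (YZ Y) a * 3 + ((40 : ℕ) : ℤ) * m := by
    push_cast
    linarith only [hm]
  rw [h1, zpow_add₀ hζ0, _root_.zpow_mul, _root_.zpow_mul, zpow_natCast ζ 40, hζ.pow_eq_one, _root_.one_zpow, mul_one]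
  exact zpow_ofNat _ 3

/-- the checks -/
structure Chk (Y Z w : List ℕ) : Prop where
  lenY : (YZ Y).length = 8
  lenZ : (YZ Z).length = 8
  w8 : ∀ i ∈ w, i < 8
  wY : ∀ i : Fin 8, ((actW w (YZ Y)).getD i 0 - 3 * (YZ Y).getD i 0) % (40 : ℤ) = 0
  wZ : ∀ i : Fin 8, ((actW w (YZ Z)).getD i 0 - 3 * (YZ Z).getD i 0) % (40 : ℤ) = 0
  roots : ∀ r ∈ R8, dotN r Y % 40 = 0 → dotN r Z % 40 = 0
  two : ∀ i : Fin 8, (2 * Z.getD i 0) % 40 = 0
  ne_one : ∃ i : Fin 8, Z.getD i 0 % 40 ≠ 0
  ne_pow : ∃ i : Fin 8, Z.getD i 0 % 40 ≠ (20 * Y.getD i 0) % 40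

theorem torus_of {Y Z w : List ℕ} (hc : Chk Y Z w) {ζ : KK} (hζ : IsPrimitiveRoot ζ 40) {x : G8} (hx : x ^ 40 = 1)
    (hT : TorZ ζ x 40 (vecL 40 Y)) :
    ∃ g : G8, g ≠ 1 ∧ g * g = 1 ∧ g ≠ x ^ 20 ∧ g * x = x * g ∧ ∀ v, _root_.Cfsg.Agent.H525.E8L.act x v = v → _root_.Cfsg.Agent.H525.E8L.act g v = v := by
  classical
  obtain ⟨z, t, hz, htT, hv⟩ := hT
  have hζ0 : ζ ≠ 0 := hζ.ne_zero (by norm_num)
  have hkch : CharP KK 3 := charP_of_injective_algebraMap (algebraMap (ZMod 3) KK).injective 3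
  have hlf : LocFin KK := locFin_of_isAlgebraic 3 KK
  have hX := cX_fz hζ htT hv
  obtain ⟨s, hs, hsX⟩ := exists_cX e8T invC_E8 one_ne_zero (isMC_fz hζ0 (YZ Z)) (fun i => ⟨_, pow_one _⟩)
  obtain ⟨z1, g, h1, h2⟩ := exists_conj (F0 := ZMod 3) e8T cs8 hlf frm8 (algebraMap (ZMod 3) KK) (p := 3)
    (n := 1) (by rw [Nat.card_eq_fintype_card, ZMod.card]; rfl) invC_E8 one_pos (N := 40) (by norm_num)
    (by norm_num) hx hz htT (word w) (twist hζ hc.lenY hX hc.w8 hc.wY) hs
    (twist hζ hc.lenZ hsX hc.w8 hc.wZ)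
  have hinj : Function.Injective eK := emb_injective e8T.inList (algebraMap (ZMod 3) KK)
  have hone : eK 1 = 1 := map_one (emb e8T.inList (algebraMap (ZMod 3) KK))
  have hmul : ∀ a b : G8, eK (a * b) = eK a * eK b := map_mul (emb e8T.inList (algebraMap (ZMod 3) KK))
  have hpow : ∀ (a : G8) (n : ℕ), eK (a ^ n) = eK a ^ n := map_pow (emb e8T.inList (algebraMap (ZMod 3) KK))
  have h1' : eK x = z1 * t * z1⁻¹ := h1
  have h2' : eK g = z1 * s * z1⁻¹ := h2
  have hss : ∀ a : ℕ, ζ ^ ((a : ℕ) : ℤ) = 1 ↔ a % 40 = 0 := by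
    intro a
    rw [zpow_natCast, hζ.pow_eq_one_iff_dvd]
    exact ⟨Nat.mod_eq_zero_of_dvd, Nat.dvd_of_mod_eq_zero⟩
  refine ⟨g, ?_, ?_, ?_, ?_, fun v hv' => fix_of hs htT h1' h2' ?_ hv'⟩
  · intro h0
    rw [h0, hone] at h2'
    have h3 : s = 1 := by
      have : s = z1⁻¹ * (z1 * s * z1⁻¹) * z1 := by group
      rw [this, ← h2']
      group
    obtain ⟨i, hi⟩ := hc.ne_one
    apply hi
    rw [← hss, ← YZ_getD, ← fz_sr, ← hsX, h3, cX_one]
  · apply hinj
    rw [hmul, h2', hone]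
    have h3 : s * s = 1 := by
      refine cX_inj e8T (mul_mem hs hs) (one_mem _) fun i => ?_
      rw [cX_mul e8T hs hs, cX_one, hsX]
      have h4 := (hss _).2 (hc.two i)
      rw [← zpow_add₀ hζ0, fz_sr, YZ_getD, ← two_mul]
      exact_mod_cast h4
    calc z1 * s * z1⁻¹ * (z1 * s * z1⁻¹) = z1 * (s * s) * z1⁻¹ := by group
      _ = 1 := by rw [h3]; group
  · intro h0
    rw [h0, hpow, h1'] at h2'
    have h3 : s = t ^ 20 := by
      have e1 : (z1 * t * z1⁻¹) ^ 20 = z1 * t ^ 20 * z1⁻¹ := conj_pow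
      rw [e1] at h2'
      exact (mul_left_cancel (mul_right_cancel h2')).symm
    obtain ⟨i, hi⟩ := hc.ne_pow
    apply hi
    have h4 : cX e8T s (sr i) = cX e8T t (sr i) ^ 20 := by rw [h3, cX_pow e8T htT]
    rw [hsX, hX, fz_sr, fz_sr, YZ_getD, YZ_getD, zpow_natCast, zpow_natCast, ← pow_mul] at h4
    have h5 := hζ.pow_inj (i := Z.getD i 0 % 40) (j := (Y.getD i 0 * 20) % 40) (Nat.mod_lt _ (by norm_num))
      (Nat.mod_lt _ (by norm_num)) (by rw [pow_mod_orderOf' hζ, pow_mod_orderOf' hζ, h4])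
    rw [h5, mul_comm]
  · apply hinj
    rw [hmul, hmul, h1', h2']
    have h3 : s * t = t * s := Cfsg.Agent.H720.TorusReal.TT_comm e8T hs htT
    calc z1 * s * z1⁻¹ * (z1 * t * z1⁻¹) = z1 * (s * t) * z1⁻¹ := by group
      _ = z1 * (t * s) * z1⁻¹ := by rw [h3]
      _ = _ := by group
  · intro i hi
    obtain ⟨r, hr, h3⟩ := root_cases i
    have h4 : cX e8T t (toR r) = 1 := by
      rcases h3 with h3 | h3
      · rw [← h3, hi]
      · have h5 : toR r = - _root_.Cfsg.Agent.Nodes.RGDChev.vec chevE8 8 i := by rw [h3, _root_.neg_neg]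
        rw [h5, (isMC_cX e8T htT).neg, hi, inv_one]
    rw [hX, fz_toR Y hr, hss] at h4
    have h5 : cX e8T s (toR r) = 1 := by
      rw [hsX, fz_toR Z hr, hss]
      exact hc.roots r hr h4
    rcases h3 with h3 | h3
    · rw [h3, h5]
    · rw [h3, (isMC_cX e8T hs).neg, h5, inv_one]

/-! ### the certificates -/

/-- the word for the first class -/
def w1 : List ℕ := [7, 5, 4, 3, 2, 1, 3, 4, 5, 6, 0, 2, 3, 4, 5, 1, 3, 4, 2, 3, 0, 2, 1, 3, 4, 5, 6, 7]
/-- the word for the second class -/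
def w2 : List ℕ := [6, 7, 0, 2, 3, 4, 5, 1, 3, 4, 2, 3, 0, 2, 1, 3, 4, 5, 6, 5, 4, 3, 2, 1, 3, 4, 5, 0, 2, 3, 4, 1,
  3, 2, 0]
/-- the word for the fourth class -/
def w4 : List ℕ := [4, 5, 3, 4, 2, 3, 0, 2, 1, 3, 4, 5, 6, 7, 2, 3, 0, 2, 1, 3, 4, 5, 6, 3, 2, 1, 3, 4, 5, 0, 2, 3,
  4, 1, 3, 2, 0]

theorem chk1 : Chk Y1 [0, 0, 0, 0, 0, 0, 20, 20] w1 where
  lenY := by decide +kernel
  lenZ := by decide +kernel
  w8 := by decide +kernel
  wY := by decide +kernel
  wZ := by decide +kernel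
  roots := by decide +kernel
  two := by decide +kernel
  ne_one := by decide +kernel
  ne_pow := by decide +kernel

theorem chk2 : Chk Y2 [20, 0, 0, 0, 0, 0, 0, 0] w2 where
  lenY := by decide +kernel
  lenZ := by decide +kernel
  w8 := by decide +kernel
  wY := by decide +kernel
  wZ := by decide +kernel
  roots := by decide +kernel
  two := by decide +kernel
  ne_one := by decide +kernel
  ne_pow := by decide +kernel

theorem chk4 : Chk Y4 [0, 0, 0, 20, 0, 0, 20, 0] w4 where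
  lenY := by decide +kernel
  lenZ := by decide +kernel
  w8 := by decide +kernel
  wY := by decide +kernel
  wZ := by decide +kernel
  roots := by decide +kernel
  two := by decide +kernel
  ne_one := by decide +kernel
  ne_pow := by decide +kernel

/-- **TORUS.** -/
theorem torus : TorusStmt := by
  intro ζ hζ x hx Y hY hT
  simp only [List.mem_cons, List.not_mem_nil, or_false] at hY
  rcases hY with rfl | rfl | rfl
  · exact torus_of chk1 hζ hx hT
  · exact torus_of chk2 hζ hx hT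
  · exact torus_of chk4 hζ hx hT

end E8

end Cfsg.Agent.H72.E8T
end

-- part: H943/SL2Seven
section
/-!
# Representations of `PSL(2, 2187)` over the field with three elements (helper943)

`seven` : `dim V = a + 2187 s + 7 m`, `dim C_V(w) = a + 1093 s + 7 m'` with `m' ≤ m`.
-/

set_option autoImplicit false
set_option linter.unusedSectionVars false

namespace Cfsg.Agent.H943.SL2Mod

open Matrix Cfsg.Agent.H943.SL2Rel Cfsg.Agent.H943.RepAdd

theorem seven_dvd_of_pow {n : ℕ} (h : 3 ^ n ≡ 1 [MOD 1093]) : 7 ∣ n := by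
  have h1 : (3 ^ 7) ^ (n / 7) * 3 ^ (n % 7) = 3 ^ n := by rw [← pow_mul, ← pow_add, Nat.div_add_mod]
  have h2 : (3 ^ 7) ^ (n / 7) * 3 ^ (n % 7) ≡ 3 ^ (n % 7) [MOD 1093] := by
    have h3 : 3 ^ 7 ≡ 1 [MOD 1093] := by decide
    have h4 := (h3.pow (n / 7)).mul_right (3 ^ (n % 7))
    rwa [one_pow, one_mul] at h4
  rw [h1] at h2
  have h5 : 3 ^ (n % 7) ≡ 1 [MOD 1093] := h2.symm.trans h
  have h6 : n % 7 < 7 := Nat.mod_lt _ (by norm_num)
  have h7 : n % 7 = 0 := by
    generalize n % 7 = r at h5 h6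
    interval_cases r
    · rfl
    · exact absurd h5 (by decide)
    · exact absurd h5 (by decide)
    · exact absurd h5 (by decide)
    · exact absurd h5 (by decide)
    · exact absurd h5 (by decide)
    · exact absurd h5 (by decide)
  exact Nat.dvd_of_mod_eq_zero h7

section

variable {k : Type*} [Field k] [Fintype k] [CharP k 3] {F : Type*} [Field F] [Fintype F] [DecidableEq F] [CharP F 3]

theorem finrank_seven {V : Type*} [AddCommGroup V] [Module k V] [FiniteDimensional k V] (hk : Fintype.card k = 3)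
    {ρ : Representation k (_root_.Matrix.SpecialLinearGroup (Fin 2) F) V} (hI : Irr ρ) {D : Submodule k V} {c : k}
    (G : Good ρ D c) (hD : TSimple ρ D) (h1 : ρ (h (-1)) = 1) (hF : Fintype.card F = 2187) {b : Fˣ}
    (hb : ∃ d ∈ D, ρ (h b) d ≠ d) (g : _root_.Matrix.SpecialLinearGroup (Fin 2) F) (μ : k) :
    7 ∣ Module.finrank k (eig ρ g μ) := by
  have : Fact (Nat.Prime 3) := ⟨by norm_num⟩
  have : Fact (Nat.Prime 1093) := ⟨by norm_num⟩
  obtain ⟨α, hα, hαD⟩ := exists_end ρ 3 hI G hD b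
  have hpow : ∀ n : ℕ, (∀ g x, (α ^ n) (ρ g x) = ρ g ((α ^ n) x)) ∧ ∀ x ∈ D, (α ^ n) x = ρ (h (b ^ n)) x := by
    intro n
    induction n with
    | zero =>
      refine ⟨fun g x => rfl, fun x _ => ?_⟩
      rw [pow_zero, pow_zero, h_one, map_one]
      rfl
    | succ n ih =>
      constructor
      · intro g x
        rw [pow_succ']
        show α ((α ^ n) (ρ g x)) = ρ g (α ((α ^ n) x))
        rw [ih.1, hα]
      · intro x hx
        rw [pow_succ', pow_succ']
        show α ((α ^ n) x) = _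
        rw [ih.2 x hx, hαD _ (G.tinv _ _ hx), apply_mul, ← h_mul]
  have hcard : Fintype.card Fˣ = 2186 := by rw [Fintype.card_units, hF]
  have hb1 : ρ (h (b ^ 1093)) = 1 := by
    have h2 : (b ^ 1093) ^ 2 = 1 := by
      rw [← pow_mul]
      have := pow_card_eq_one (x := b)
      rwa [hcard] at this
    have h3 : ((b ^ 1093 : Fˣ) : F) ^ 2 = 1 := by
      rw [← Units.val_pow_eq_pow_val, h2, Units.val_one]
    rcases mul_self_eq_one_iff.1 ((sq _).symm.trans h3) with h4 | h4
    · rw [show b ^ 1093 = 1 from Units.ext h4, h_one, map_one]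
    · rw [show b ^ 1093 = -1 from Units.ext h4, h1]
  obtain ⟨d0, hd0, hd0'⟩ := Submodule.exists_mem_ne_zero_of_ne_bot hD.1
  -- `α ^ 1093 = 1`
  have h1093 : ∀ x, (α ^ 1093) x = x := by
    rcases ker_eq ρ hI (((α ^ 1093 : V ≃ₗ[k] V) : Module.End k V) - 1) (by
      intro g x
      show (α ^ 1093) (ρ g x) - ρ g x = ρ g ((α ^ 1093) x - x)
      rw [(hpow 1093).1, map_sub]) with h2 | h2
    · exfalso
      have h3 : d0 ∈ LinearMap.ker (((α ^ 1093 : V ≃ₗ[k] V) : Module.End k V) - 1) := by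
        rw [LinearMap.mem_ker]
        show (α ^ 1093) d0 - d0 = 0
        rw [(hpow 1093).2 d0 hd0, hb1]
        exact sub_self _
      rw [h2] at h3
      exact hd0' ((Submodule.mem_bot k).1 h3)
    · intro x
      have h3 := LinearMap.congr_fun h2 x
      have h4 : (α ^ 1093) x - x = 0 := h3
      exact sub_eq_zero.1 h4
  have hα1 : ¬ ∀ x, α x = x := by
    intro h2
    obtain ⟨d, hd, hd'⟩ := hb
    exact hd' (by rw [← hαD d hd, h2])
  have hβf : ∀ x, α x = x → x = 0 := by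
    rcases ker_eq ρ hI ((α : Module.End k V) - 1) (by
      intro g x
      show α (ρ g x) - ρ g x = ρ g (α x - x)
      rw [hα, map_sub]) with h2 | h2
    · intro x hx
      have h3 : x ∈ LinearMap.ker ((α : Module.End k V) - 1) := by
        rw [LinearMap.mem_ker]
        show α x - x = 0
        rw [hx, sub_self]
      rw [h2] at h3
      exact (Submodule.mem_bot k).1 h3
    · exfalso
      apply hα1
      intro x
      have h3 : α x - x = 0 := LinearMap.congr_fun h2 x
      exact sub_eq_zero.1 h3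
  have : Finite (eig ρ g μ) := Module.finite_of_finite k
  have hmod := card_modEq_one (k := k) (l := 1093) α h1093 hβf (eig ρ g μ) (fun x hx => by
    rw [mem_eig] at hx ⊢
    rw [← hα, hx, map_smul])
  apply seven_dvd_of_pow
  rw [Module.natCard_eq_pow_finrank (K := k), Nat.card_eq_fintype_card, hk] at hmod
  exact hmod

theorem not_sq7 (hF : Fintype.card F = 2187) (x : F) : x ^ 2 ≠ -1 := by
  intro hx
  have hx0 : x ≠ 0 := by
    rintro rfl
    rw [zero_pow two_ne_zero] at hx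
    exact one_ne_zero (neg_eq_zero.1 hx.symm)
  have h1 := FiniteField.pow_card_sub_one_eq_one x hx0
  rw [hF] at h1
  have h2 : x ^ 2186 = (x ^ 2) ^ 1093 := by rw [← pow_mul]
  rw [h2, hx] at h1
  have h3 : (-1 : F) ^ 1093 = -1 := Odd.neg_one_pow (by decide)
  rw [h3] at h1
  have h4 : (2 : F) = 0 := by linear_combination -h1
  have h5 : ((2 : ℕ) : F) = 0 := by exact_mod_cast h4
  rw [CharP.cast_eq_zero_iff F 3] at h5
  omega

theorem irr_seven {V : Type*} [AddCommGroup V] [Module k V] [FiniteDimensional k V] (hk : Fintype.card k = 3)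
    {ρ : Representation k (_root_.Matrix.SpecialLinearGroup (Fin 2) F) V} (hI : Irr ρ) (h1 : ρ (h (-1)) = 1)
    (hF : Fintype.card F = 2187) : ∃ a s m m' : ℕ, Module.finrank k V = a + 2187 * s + 7 * m ∧
      Module.finrank k (eig ρ w 1) = a + 1093 * s + 7 * m' ∧ m' ≤ m := by
  have : Fact (Nat.Prime 3) := ⟨by norm_num⟩
  obtain ⟨D, c, G, hD, hc⟩ := exists_type ρ 3 hI
  rcases hc with rfl | ⟨rfl, hT⟩
  · by_cases hT : ∀ a, ∀ d ∈ D, ρ (h a) d = d
    · obtain ⟨h2, h3⟩ := triv_of_type ρ hI G hD hT 3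
      refine ⟨1, 0, 0, 0, by rw [h3], ?_, le_rfl⟩
      have h4 : eig ρ w 1 = ⊤ := by
        rw [eq_top_iff]
        intro x _
        rw [mem_eig, h2, one_smul]
      rw [h4, finrank_top, h3]
    · push Not at hT
      obtain ⟨b, d, hd, hd'⟩ := hT
      have h2 := finrank_seven hk hI G hD h1 hF ⟨d, hd, hd'⟩
      have h3 : eig ρ 1 1 = ⊤ := by
        rw [eq_top_iff]
        intro x _
        rw [mem_eig, map_one, one_smul]
        rfl
      obtain ⟨m, hm⟩ := h2 1 1
      rw [h3, finrank_top] at hm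
      obtain ⟨m', hm'⟩ := h2 w 1
      refine ⟨0, 0, m, m', by omega, by omega, ?_⟩
      have h4 := Submodule.finrank_le (eig ρ w 1)
      omega
  · obtain ⟨h2, h3⟩ := st_of_type ρ 3 hI G hD hT (not_sq7 hF) (two_ne k)
    rw [hF] at h2 h3
    exact ⟨0, 1, 0, 0, by omega, by omega, le_rfl⟩

end

section

universe v

variable {k : Type*} [Field k] [Fintype k] [CharP k 3] {F : Type*} [Field F] [Fintype F] [DecidableEq F] [CharP F 3]

/-- **representations of `PSL(2, 2187)` in characteristic three** -/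
theorem seven (hk : Fintype.card k = 3) (hF : Fintype.card F = 2187) (n : ℕ) :
    ∀ (V : Type v) [AddCommGroup V] [Module k V] [FiniteDimensional k V]
      (ρ : Representation k (_root_.Matrix.SpecialLinearGroup (Fin 2) F) V) (_ : ρ (h (-1)) = 1) (_ : Module.finrank k V = n),
      ∃ a s m m' : ℕ, Module.finrank k V = a + 2187 * s + 7 * m ∧
        Module.finrank k (eig ρ w 1) = a + 1093 * s + 7 * m' ∧ m' ≤ m := by
  induction n using Nat.strong_induction_on with
  | _ n ih =>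
    intro V _ _ _ ρ h1 hn
    rcases subsingleton_or_nontrivial V with hV | hV
    · refine ⟨0, 0, 0, 0, ?_, ?_, le_rfl⟩
      · exact Module.finrank_zero_of_subsingleton
      · exact Module.finrank_zero_of_subsingleton
    · obtain ⟨W, hW, hW0, hmin⟩ := exists_irr_sub ρ
      have hIW := irr_subRep ρ hW hW0 hmin
      have e1 : subRep ρ W hW (h (-1)) = 1 := by
        refine LinearMap.ext fun x => Subtype.ext ?_
        rw [coe_subRep, h1]
        rfl
      have e2 : quotRep ρ W hW (h (-1)) = 1 := by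
        refine LinearMap.ext fun x => ?_
        obtain ⟨y, rfl⟩ := W.mkQ_surjective x
        rw [quotRep_mk, h1]
        rfl
      have hpos : 0 < Module.finrank k W := by
        have := hIW.1
        exact Module.finrank_pos
      have hadd := Submodule.finrank_quotient_add_finrank W
      obtain ⟨a, s, m, m', i1, i2, i3⟩ := irr_seven hk hIW e1 hF
      obtain ⟨a', s', l, l', j1, j2, j3⟩ := ih (Module.finrank k (V ⧸ W)) (by omega) (V ⧸ W) (quotRep ρ W hW) e2 rfl
      have hww : ρ w ^ 2 = 1 := by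
        rw [sq, ← map_mul, w_w, h1]
      have h2 : ((2 : ℕ) : k) ≠ 0 := by
        have := two_ne k
        exact_mod_cast this
      have hE := finrank_eig ρ W hW hww h2 (one_pow 2) one_ne_zero
      exact ⟨a + a', s + s', m + l, m' + l', by (clear * - hadd i1 j1; solve | lia | omega), by omega, by omega⟩

end

end Cfsg.Agent.H943.SL2Mod
end

-- part: H943/L2187
section
/-!
# No subgroup `L2(2187)` in `E8(3)` (helper943)

An involution has a fixed space of dimension 136 (`120 ≡ 1 mod 7` is not possible), so an element of order 1093, a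
product of two involutions, fixes a space of dimension at least `2 * 136 - 248 = 24`; but the fixed space of such an
element has dimension at most `8 + 12`.
-/

set_option autoImplicit false

namespace Cfsg.Agent.H943.L2187

open Matrix Cfsg.Agent.H943.SL2Rel Cfsg.Agent.H943.PSLHom Cfsg.Agent.H943.RepAdd
open Cfsg.Lie

theorem finrank_eig_conj {k G V : Type*} [Field k] [Group G] [AddCommGroup V] [Module k V] (ρ : Representation k G V)
    (c g : G) (μ : k) : Module.finrank k (eig ρ (c * g * c⁻¹) μ) = Module.finrank k (eig ρ g μ) := by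
  have h1 : ∀ x : V, ρ c (ρ c⁻¹ x) = x := fun x => by
    rw [← Module.End.mul_apply, ← map_mul, mul_inv_cancel, map_one]; rfl
  have h2 : ∀ x : V, ρ c⁻¹ (ρ c x) = x := fun x => by
    rw [← Module.End.mul_apply, ← map_mul, inv_mul_cancel, map_one]; rfl
  let e : V ≃ₗ[k] V := LinearEquiv.ofLinearMap (ρ c) (ρ c⁻¹) (LinearMap.ext h1) (LinearMap.ext h2)
  have h3 : (eig ρ g μ).map (e : V →ₗ[k] V) = eig ρ (c * g * c⁻¹) μ := by
    ext x
    constructor
    · rintro ⟨y, hy, rfl⟩
      rw [SetLike.mem_coe, mem_eig] at hy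
      rw [mem_eig]
      show ρ (c * g * c⁻¹) (ρ c y) = μ • ρ c y
      rw [map_mul, map_mul, Module.End.mul_apply, Module.End.mul_apply, h2, hy, map_smul]
    · intro hx
      rw [mem_eig] at hx
      refine ⟨ρ c⁻¹ x, ?_, h1 x⟩
      rw [SetLike.mem_coe, mem_eig]
      rw [map_mul, map_mul, Module.End.mul_apply, Module.End.mul_apply] at hx
      have h4 := congrArg (ρ c⁻¹) hx
      rw [h2, map_smul] at h4
      exact h4
  rw [← h3]
  exact LinearEquiv.finrank_map_eq e _

/-- **no `L2(2187)` in `E8(3)`** -/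
theorem no_L2187 {F : Type*} [Field F] [Fintype F] (hF : Fintype.card F = 2187)
    (H : Subgroup ↥(chevE8.group (ZMod 3))) : IsEmpty (↥H ≃* ProjectiveSpecialLinearGroup (Fin 2) F) := by
  classical
  refine ⟨fun e => ?_⟩
  have : Fact (Nat.Prime 3) := ⟨Nat.prime_three⟩
  have hchF : CharP F 3 := by
    obtain ⟨⟨m, hm⟩, hp', hcard⟩ := FiniteField.card F (ringChar F)
    rw [hF] at hcard
    have h1 : ringChar F ∣ 3 ^ 7 := by
      rw [show (3 : ℕ) ^ 7 = 2187 by norm_num, hcard]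
      exact dvd_pow_self _ (by simpa using hm.ne')
    have h2 := (Nat.prime_dvd_prime_iff_eq hp' Nat.prime_three).1 (hp'.dvd_of_dvd_pow h1)
    exact h2 ▸ ringChar.charP F
  obtain ⟨φ, hφ⟩ := exists_hom H e
  let ρ := rep (RingHom.id (ZMod 3)) φ
  have h1 : φ (h (-1)) = 1 := (hφ _).2 (h_mem_center.2 (by rw [neg_one_sq]))
  have h2 : φ w ^ 2 = 1 := by rw [pow_two, ← map_mul, w_w, h1]
  have h3 : φ w ≠ 1 := fun h0 => w_not_mem_center ((hφ _).1 h0)
  obtain ⟨a, s, m, m', e1, e2, e3⟩ := Cfsg.Agent.H943.SL2Mod.seven (k := ZMod 3) (by rw [ZMod.card]) hF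
    (Module.finrank (ZMod 3) (chevE8.Idx → ZMod 3)) (chevE8.Idx → ZMod 3) ρ (rep_eq_one _ _ h1) rfl
  have hdim : Module.finrank (ZMod 3) (chevE8.Idx → ZMod 3) = 248 := by
    rw [Module.finrank_fintype_fun_eq_card, L243.card_idx]
  rw [hdim] at e1
  have e4 : ∀ g, ρ g = Matrix.toLin' (((φ g : ↥(chevE8.group (ZMod 3))) : GL chevE8.Idx (ZMod 3)) :
        Matrix chevE8.Idx chevE8.Idx (ZMod 3)) := by
    intro g
    show Matrix.toLin' ((((φ g : ↥(chevE8.group (ZMod 3))) : GL chevE8.Idx (ZMod 3)) :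
        Matrix chevE8.Idx chevE8.Idx (ZMod 3)).map (RingHom.id (ZMod 3))) = _
    congr 1
  have h4 : Module.finrank (ZMod 3) (eig ρ w 1) = 136 := by
    have h5 := L243.finrank_invol h2 h3
    rw [← e4 w] at h5
    rcases h5 with h5 | h5
    · exact h5
    · exfalso
      unfold eig at e2
      rw [h5] at e2
      (clear * - e1 e2; solve | lia | omega)
  -- a unit of large order
  obtain ⟨b, hb⟩ : ∃ b : Fˣ, b ^ 4 ≠ 1 := by
    by_contra hcon
    push Not at hcon
    have h6 := (IsCyclic.exponent_eq_card (α := Fˣ))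
    rw [Nat.card_eq_fintype_card, Fintype.card_units, hF] at h6
    have h7 := Monoid.exponent_dvd_of_forall_pow_eq_one hcon
    rw [h6] at h7
    exact absurd (Nat.le_of_dvd (by norm_num) h7) (by norm_num)
  have hconj : h b * w * (h b)⁻¹ = w * h (b⁻¹ ^ 2) := by
    rw [h_w, mul_assoc, ← h_inv, ← h_mul, pow_two]
  have h5 : Module.finrank (ZMod 3) (eig ρ (w * h (b⁻¹ ^ 2)) 1) = 136 := by
    rw [← hconj, finrank_eig_conj, h4]
  have h6 : eig ρ w 1 ⊓ eig ρ (w * h (b⁻¹ ^ 2)) 1 ≤ eig ρ (h (b⁻¹ ^ 2)) 1 := by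
    rintro x ⟨hx1, hx2⟩
    rw [SetLike.mem_coe, mem_eig, one_smul] at hx1 hx2
    rw [mem_eig, one_smul]
    rw [map_mul, Module.End.mul_apply] at hx2
    have h7 : ρ w (ρ w (ρ (h (b⁻¹ ^ 2)) x)) = ρ w (ρ w x) := by rw [hx2, hx1, hx1]
    have h8 : ∀ y, ρ w (ρ w y) = y := by
      intro y
      rw [← Module.End.mul_apply, ← map_mul, w_w, rep_eq_one _ _ h1]
      rfl
    rwa [h8, h8] at h7
  have h7 := Submodule.finrank_sup_add_finrank_inf_eq (eig ρ w 1) (eig ρ (w * h (b⁻¹ ^ 2)) 1)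
  have h8 := Submodule.finrank_le (eig ρ w 1 ⊔ eig ρ (w * h (b⁻¹ ^ 2)) 1)
  have h9 := Submodule.finrank_mono h6
  rw [hdim] at h8
  -- the element of order 1093
  have hy1 : φ (h (b⁻¹ ^ 2)) ≠ 1 := by
    intro h0
    apply hb
    have h10 := h_mem_center.1 ((hφ _).1 h0)
    rw [← pow_mul, inv_pow, inv_eq_one] at h10
    exact h10
  have hy : φ (h (b⁻¹ ^ 2)) ^ 1093 = 1 := by
    rw [← map_pow, ← h_pow, ← pow_mul]
    have h10 : b⁻¹ ^ (2 * 1093) = 1 := by
      have h11 := pow_card_eq_one (x := b⁻¹)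
      rwa [Fintype.card_units, hF] at h11
    rw [h10, h_one, map_one]
  have h10 := E8Fix.finrank_1093 hy hy1
  rw [← e4] at h10
  have h11 : Module.finrank (ZMod 3) (eig ρ (h (b⁻¹ ^ 2)) 1) ≤ 20 := h10
  (clear * - h4 h5 h7 h8 h9 h11; omega)

end Cfsg.Agent.H943.L2187
end

-- part: H940/E8L/NonSplit
section
/-!
# The elements of order 41 of `SL(2, 81)` on the modules `V_b` (helper940, for S5921)

* `finrank_eig_of_conj` : if `g` is conjugate to `h μ` over `k`, the multiplicities of the eigenvalues of `g` on `V_b` are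
  those of `h μ`;
* `exists_nonsplit` : the element of order 41.
-/

set_option autoImplicit false
set_option linter.unusedSectionVars false

namespace Cfsg.Agent.H940.E8L.NonSplit

open Matrix Cfsg.Agent.H943.SL2Rel Cfsg.Agent.H943.RepAdd Cfsg.Agent.H943.SL2Mod

section big

variable {k : Type*} [Field k]

/-- the monomial `x ^ m y ^ (b - m)` on `k²` -/
def monk (k : Type*) [Field k] (b m : ℕ) : k × k → k := fun z => z.1 ^ m * z.2 ^ (b - m)

/-- the module -/
def L (k : Type*) [Field k] (b : ℕ) : Submodule k (k × k → k) := Submodule.span k (monk k b '' Bb k b)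

theorem monk_mem {b m : ℕ} (hm : m ∈ Bb k b) : monk k b m ∈ L k b := Submodule.subset_span ⟨m, hm, rfl⟩

theorem u_monk (t : k) {b m : ℕ} (hm : m ∈ Bb k b) : fRep k k (u t) (monk k b m) ∈ L k b := by
  have h1 : fRep k k (u t) (monk k b m) =
      ∑ j ∈ Finset.range (b - m + 1), (t ^ j * ((b - m).choose j : k)) • monk k b (m + j) := by
    funext z
    obtain ⟨x, y⟩ := z
    rw [Finset.sum_apply]
    show (x * 1 + y * 0) ^ m * (x * t + y * 1) ^ (b - m) =
      ∑ j ∈ Finset.range (b - m + 1), (t ^ j * ((b - m).choose j : k)) * (x ^ (m + j) * y ^ (b - (m + j)))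
    rw [mul_one, mul_zero, add_zero, mul_one, add_pow, Finset.mul_sum]
    refine Finset.sum_congr rfl fun j _ => ?_
    rw [mul_pow, pow_add, Nat.sub_sub]
    ring
  rw [h1]
  refine sum_mem fun j hj => ?_
  by_cases h0 : ((b - m).choose j : k) = 0
  · rw [h0, mul_zero, zero_smul]
    exact Submodule.zero_mem _
  · refine Submodule.smul_mem _ _ (monk_mem ?_)
    have hj' : j ≤ b - m := Nat.lt_succ_iff.1 (Finset.mem_range.1 hj)
    have hmb := hm.1
    have h2 : m + j ≤ b := by omega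
    refine ⟨h2, fun h3 => ?_⟩
    have h4 := Nat.choose_mul (n := b) (k := m + j) (s := m) (Nat.le_add_right m j)
    have h5 : ((b.choose (m + j) * (m + j).choose m : ℕ) : k) = ((b.choose m * (b - m).choose (m + j - m) : ℕ) : k) := by
      rw [h4]
    rw [Nat.cast_mul, Nat.cast_mul, h3, zero_mul, Nat.add_sub_cancel_left] at h5
    exact mul_ne_zero hm.2 h0 h5.symm

theorem w_monk {b m : ℕ} (hm : m ∈ Bb k b) : fRep k k w (monk k b m) ∈ L k b := by
  have h1 : fRep k k w (monk k b m) = (-1 : k) ^ m • monk k b (b - m) := by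
    funext z
    obtain ⟨x, y⟩ := z
    show (x * 0 + y * (-1)) ^ m * (x * 1 + y * 0) ^ (b - m) = (-1 : k) ^ m * (x ^ (b - m) * y ^ (b - (b - m)))
    rw [mul_zero, zero_add, mul_one, mul_zero, add_zero, Nat.sub_sub_self hm.1, mul_neg_one, neg_pow y m]
    ring
  rw [h1]
  refine Submodule.smul_mem _ _ (monk_mem ⟨Nat.sub_le _ _, ?_⟩)
  rw [Nat.choose_symm hm.1]
  exact hm.2

theorem h_monk (a : kˣ) (b m : ℕ) : fRep k k (h a) (monk k b m) = ((a : k) ^ m * (a : k)⁻¹ ^ (b - m)) • monk k b m := by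
  funext z
  obtain ⟨x, y⟩ := z
  show (x * a + y * 0) ^ m * (x * 0 + y * (a : k)⁻¹) ^ (b - m) = ((a : k) ^ m * (a : k)⁻¹ ^ (b - m)) * (x ^ m * y ^ (b - m))
  rw [mul_zero, add_zero, mul_zero, zero_add, mul_pow, mul_pow]
  ring

theorem L_inv (b : ℕ) (g : _root_.Matrix.SpecialLinearGroup (Fin 2) k) : ∀ f ∈ L k b, fRep k k g f ∈ L k b := by
  have key : ∀ g : _root_.Matrix.SpecialLinearGroup (Fin 2) k, (∀ m ∈ Bb k b, fRep k k g (monk k b m) ∈ L k b) →
      ∀ f ∈ L k b, fRep k k g f ∈ L k b := by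
    intro g hg f hf
    have h1 : L k b ≤ (L k b).comap (fRep k k g) := Submodule.span_le.2 (by
      rintro _ ⟨m, hm, rfl⟩
      exact hg m hm)
    exact h1 hf
  refine induct (P := fun g => ∀ f ∈ L k b, fRep k k g f ∈ L k b) ?_ ?_ ?_ ?_ g
  · intro t
    exact key _ fun m hm => u_monk t hm
  · intro a
    refine key _ fun m hm => ?_
    rw [h_monk]
    exact Submodule.smul_mem _ _ (monk_mem hm)
  · exact key _ fun m hm => w_monk hm
  · intro a c ha hc f hf
    rw [map_mul]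
    exact (ha _ (hc _ hf) :)

end big

section restr

variable {k : Type*} [Field k] {F : Type*} [Field F] (ι : F →+* k)

/-- restriction -/
def res : (k × k → k) →ₗ[k] (F × F → k) where
  toFun f z := f (ι z.1, ι z.2)
  map_add' _ _ := rfl
  map_smul' _ _ := rfl

theorem res_fRep (g : _root_.Matrix.SpecialLinearGroup (Fin 2) F) (f : k × k → k) :
    res ι (fRep k k (SpecialLinearGroup.map ι g) f) = fRep k F g (res ι f) := by
  funext z
  show f (ι z.1 * ι (g.1 0 0) + ι z.2 * ι (g.1 1 0), ι z.1 * ι (g.1 0 1) + ι z.2 * ι (g.1 1 1)) =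
    f (ι (z.1 * g.1 0 0 + z.2 * g.1 1 0), ι (z.1 * g.1 0 1 + z.2 * g.1 1 1))
  simp only [map_add, map_mul]

variable [Fintype F] [DecidableEq F] [DecidableEq k] (p : ℕ) [Fact p.Prime] [CharP k p] [CharP F p]

theorem res_monk (b m : ℕ) : res ι (monk k b m) = mon ι b m := rfl

include p in
/-- **the multiplicities of the eigenvalues of a semisimple element** -/
theorem finrank_eig_of_conj (hι : Function.Injective ι) (hodd : Odd (Fintype.card F)) {b : ℕ}
    (hb : b ≤ Fintype.card F - 1) (g : _root_.Matrix.SpecialLinearGroup (Fin 2) F) (P : _root_.Matrix.SpecialLinearGroup (Fin 2) k) (μ : kˣ)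
    (hP : SpecialLinearGroup.map ι g * P = P * h μ) (ν : k) :
    Module.finrank k (eig (rb ι p hodd hb) g ν) =
      ((Bf k b).filter fun m => (μ : k) ^ m * (μ : k)⁻¹ ^ (b - m) = ν).card := by
  let f : (Bf k b → k) →ₗ[k] Vb ι b :=
    { toFun := fun x => ⟨res ι (fRep k k P (∑ m : Bf k b, x m • monk k b m)), by
        have h1 : fRep k k P (∑ m : Bf k b, x m • monk k b m) ∈ L k b := L_inv b P _ (sum_mem fun m _ =>
          Submodule.smul_mem _ _ (monk_mem (mem_Bf.1 m.2)))
        have h2 : L k b ≤ (Vb ι b).comap (res ι) := Submodule.span_le.2 (by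
          rintro _ ⟨m, hm, rfl⟩
          exact mon_mem_Vb ι p hodd hb hm)
        exact h2 h1⟩
      map_add' := fun x y => Subtype.ext (by
        show res ι (fRep k k P (∑ m : Bf k b, (x m + y m) • monk k b m)) =
          res ι (fRep k k P (∑ m : Bf k b, x m • monk k b m)) + res ι (fRep k k P (∑ m : Bf k b, y m • monk k b m))
        rw [← map_add, ← map_add, ← Finset.sum_add_distrib]
        (with_reducible congr 2)
        exact Finset.sum_congr rfl fun m _ => add_smul _ _ _)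
      map_smul' := fun c x => Subtype.ext (by
        show res ι (fRep k k P (∑ m : Bf k b, (c * x m) • monk k b m)) =
          c • res ι (fRep k k P (∑ m : Bf k b, x m • monk k b m))
        rw [← map_smul, ← map_smul, Finset.smul_sum]
        congr 2
        exact Finset.sum_congr rfl fun m _ => mul_smul _ _ _) }
  have hf : ∀ x, ((f x : Vb ι b) : F × F → k) = res ι (fRep k k P (∑ m : Bf k b, x m • monk k b m)) := fun _ => rfl
  have hPP : ∀ y, fRep k k P (fRep k k P⁻¹ y) = y := fun y => by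
    rw [← Module.End.mul_apply, ← map_mul, mul_inv_cancel, map_one, Module.End.one_apply]
  have hsurj : Function.Surjective f := by
    rw [← LinearMap.range_eq_top, eq_top_iff]
    rintro ⟨y, hy⟩ -
    have h1 : Submodule.span k (mon ι b '' Bb k b) ≤ (LinearMap.range f).map (Vb ι b).subtype := by
      refine Submodule.span_le.2 ?_
      rintro _ ⟨m, hm, rfl⟩
      have h2 : fRep k k P⁻¹ (monk k b m) ∈ L k b := L_inv b P⁻¹ _ (monk_mem hm)
      have h3 : ∀ y ∈ L k b, ∃ x : Bf k b → k, y = ∑ m : Bf k b, x m • monk k b m := by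
        intro y hy
        unfold L at hy
        induction hy using Submodule.span_induction with
        | mem x hx =>
          obtain ⟨m, hm, rfl⟩ := hx
          refine ⟨Pi.single ⟨m, mem_Bf.2 hm⟩ 1, ?_⟩
          rw [Finset.sum_eq_single (⟨m, mem_Bf.2 hm⟩ : Bf k b)]
          · rw [Pi.single_eq_same, one_smul]
          · intro m' _ hne
            rw [Pi.single_eq_of_ne hne, zero_smul]
          · intro h0
            exact absurd (Finset.mem_univ _) h0
        | zero => exact ⟨0, by simp only [_root_.Finset.univ_eq_attach, _root_.Pi.zero_apply, _root_.zero_smul, _root_.Finset.sum_const_zero]⟩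
        | add x y _ _ hx hy =>
          obtain ⟨c, rfl⟩ := hx
          obtain ⟨c', rfl⟩ := hy
          refine ⟨c + c', ?_⟩
          rw [← Finset.sum_add_distrib]
          exact Finset.sum_congr rfl fun m _ => (add_smul _ _ _).symm
        | smul a x _ hx =>
          obtain ⟨c, rfl⟩ := hx
          refine ⟨a • c, ?_⟩
          rw [Finset.smul_sum]
          exact Finset.sum_congr rfl fun m _ => (mul_smul _ _ _).symm
      obtain ⟨x, hx⟩ := h3 _ h2
      refine ⟨f x, ⟨_, rfl⟩, ?_⟩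
      show ((f x : Vb ι b) : F × F → k) = _
      rw [hf, ← hx, hPP, res_monk]
    obtain ⟨z, ⟨x, rfl⟩, e⟩ := h1 (Vb_le ι b hy)
    exact ⟨x, Subtype.ext e⟩
  have hfd : FiniteDimensional k (Vb ι b) := Module.Finite.of_surjective f hsurj
  have hinj : Function.Injective f := by
    refine (LinearMap.injective_iff_surjective_of_finrank_eq_finrank ?_).2 hsurj
    rw [finrank_Vb ι p hι hodd hb, Module.finrank_fintype_fun_eq_card, Fintype.card_coe]
  have h1 := finrank_diag (LinearEquiv.ofBijective f ⟨hinj, hsurj⟩) (rb ι p hodd hb g)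
    (fun m => (μ : k) ^ (m : ℕ) * (μ : k)⁻¹ ^ (b - m)) (by
    intro x
    apply Subtype.ext
    show fRep k F g ((f x : Vb ι b) : F × F → k) = ((f _ : Vb ι b) : F × F → k)
    rw [hf, hf, ← res_fRep, ← Module.End.mul_apply, ← map_mul, hP, map_mul, Module.End.mul_apply, map_sum]
    (with_reducible congr 2)
    refine Finset.sum_congr rfl fun m _ => ?_
    rw [map_smul, h_monk, smul_smul, mul_comm]) ν
  unfold eig
  rw [h1, Fintype.card_subtype]
  rw [← Finset.card_map (Function.Embedding.subtype fun m => m ∈ Bf k b)]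
  congr 1
  ext m
  simp only [Finset.mem_map, Finset.mem_filter, Finset.mem_univ, true_and, Function.Embedding.coe_subtype]
  constructor
  · rintro ⟨m', h2, rfl⟩
    exact ⟨m'.2, h2⟩
  · rintro ⟨h2, h3⟩
    exact ⟨⟨m, h2⟩, h3, rfl⟩

end restr

/-- **the element of order 41** -/
theorem exists_nonsplit {k : Type*} [Field k] [IsAlgClosed k] [CharP k 3] {F : Type*} [Field F] [Fintype F]
    (ι : F →+* k) (hF : Fintype.card F = 81) :
    ∃ (c : _root_.Matrix.SpecialLinearGroup (Fin 2) F) (P : _root_.Matrix.SpecialLinearGroup (Fin 2) k) (μ : kˣ), c ^ 41 = 1 ∧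
      IsPrimitiveRoot (μ : k) 41 ∧ SpecialLinearGroup.map ι c * P = P * h μ := by
  have h41 : NeZero ((41 : ℕ) : k) := ⟨by
    rw [Ne, CharP.cast_eq_zero_iff k 3]
    decide⟩
  obtain ⟨m, hm⟩ := HasEnoughRootsOfUnity.exists_primitiveRoot k 41
  have hm0 : m ≠ 0 := hm.ne_zero (by norm_num)
  have h3 : Fact (Nat.Prime 3) := ⟨Nat.prime_three⟩
  -- the trace
  have hmi : m ^ 81 = m⁻¹ := by
    apply eq_inv_of_mul_eq_one_left
    rw [← pow_succ, show 81 + 1 = 41 * 2 by norm_num, pow_mul, hm.pow_eq_one, one_pow]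
  have hfix : (m + m⁻¹) ^ 81 = m + m⁻¹ := by
    have h1 : (m + m⁻¹) ^ 3 ^ 4 = m ^ 3 ^ 4 + m⁻¹ ^ 3 ^ 4 := add_pow_char_pow m m⁻¹ 3 4
    have h2 : (3 : ℕ) ^ 4 = 81 := by norm_num
    rw [h2] at h1
    rw [h1, inv_pow, hmi, inv_inv, add_comm]
  obtain ⟨t, ht⟩ : ∃ t : F, ι t = m + m⁻¹ := by
    classical
    by_contra hcon
    push Not at hcon
    have h1 : (Polynomial.X ^ 81 - Polynomial.X : Polynomial k) = 0 := by
      refine Polynomial.eq_zero_of_natDegree_lt_card_of_eval_eq_zero' _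
        (insert (m + m⁻¹) (Finset.univ.image ι)) ?_ ?_
      · intro x hx
        rw [Finset.mem_insert, Finset.mem_image] at hx
        rw [Polynomial.eval_sub, Polynomial.eval_pow, Polynomial.eval_X, sub_eq_zero]
        rcases hx with rfl | ⟨y, -, rfl⟩
        · exact hfix
        · rw [← map_pow]
          congr 1
          have := FiniteField.pow_card y
          rwa [hF] at this
      · rw [Finset.card_insert_of_notMem (by
          rw [Finset.mem_image]
          rintro ⟨y, -, hy⟩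
          exact hcon y hy), Finset.card_image_of_injective _ ι.injective, Finset.card_univ, hF]
        refine lt_of_le_of_lt (b := 81) ?_ (by norm_num)
        compute_degree
    have h2 := congrArg (fun q => Polynomial.coeff q 81) h1
    simp [Polynomial.coeff_X] at h2
  have hd : m⁻¹ - m ≠ 0 := by
    intro h0
    have h1 : m ^ 2 = 1 := by
      have h2 : m⁻¹ = m := sub_eq_zero.1 h0
      rw [pow_two]
      nth_rewrite 2 [← h2]
      exact mul_inv_cancel₀ hm0
    have h6 := hm.dvd_of_pow_eq_one 2 h1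
    omega
  let δ : k := (m⁻¹ - m)⁻¹
  have hδ : (m⁻¹ - m) * δ = 1 := mul_inv_cancel₀ hd
  let c : _root_.Matrix.SpecialLinearGroup (Fin 2) F := ⟨!![0, 1; -1, t], by simp [Matrix.det_fin_two]⟩
  let P : _root_.Matrix.SpecialLinearGroup (Fin 2) k := ⟨!![1, δ; m, m⁻¹ * δ], by
    rw [Matrix.det_fin_two]
    simp only [Matrix.of_apply, Matrix.cons_val', Matrix.cons_val_zero, Matrix.cons_val_one, Matrix.cons_val_fin_one]
    linear_combination hδ⟩
  have hcP : SpecialLinearGroup.map ι c * P = P * h (Units.mk0 m hm0) := by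
    apply Subtype.ext
    rw [Matrix.SpecialLinearGroup.coe_mul, Matrix.SpecialLinearGroup.coe_mul]
    have h1 : (SpecialLinearGroup.map ι c).1 = !![0, 1; -1, m + m⁻¹] := by
      rw [← ht]
      ext i j
      fin_cases i <;> fin_cases j
      · exact map_zero ι
      · exact map_one ι
      · exact (map_neg ι 1).trans (by rw [map_one]; rfl)
      · rfl
    show (SpecialLinearGroup.map ι c).1 * !![1, δ; m, m⁻¹ * δ] = !![1, δ; m, m⁻¹ * δ] * !![m, 0; 0, m⁻¹]
    rw [h1, Matrix.mul_fin_two, Matrix.mul_fin_two]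
    ext i j
    fin_cases i <;> fin_cases j
    · simp only [_root_.mul_one, _root_.one_mul, _root_.zero_add, _root_.MulZeroClass.zero_mul, _root_.neg_mul, _root_.Fin.zero_eta, _root_.Fin.isValue, _root_.Matrix.of_apply, _root_.Matrix.cons_val', _root_.Matrix.cons_val_zero, _root_.Matrix.cons_val_fin_one, _root_.MulZeroClass.mul_zero, _root_.add_zero]
    · simp only [_root_.mul_one, _root_.one_mul, _root_.zero_add, _root_.MulZeroClass.zero_mul, _root_.neg_mul, _root_.Fin.zero_eta, _root_.Fin.isValue, _root_.Fin.mk_one, _root_.Matrix.of_apply, _root_.Matrix.cons_val', _root_.Matrix.cons_val_one, _root_.Matrix.cons_val_fin_one, _root_.Matrix.cons_val_zero, _root_.MulZeroClass.mul_zero, _root_.add_zero]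
      ring
    · simp only [_root_.mul_one, _root_.one_mul, _root_.zero_add, _root_.MulZeroClass.zero_mul, _root_.neg_mul, _root_.Fin.mk_one, _root_.Fin.isValue, _root_.Fin.zero_eta, _root_.Matrix.of_apply, _root_.Matrix.cons_val', _root_.Matrix.cons_val_zero, _root_.Matrix.cons_val_fin_one, _root_.Matrix.cons_val_one, _root_.MulZeroClass.mul_zero, _root_.add_zero]
      field_simp
      ring
    · simp only [_root_.mul_one, _root_.one_mul, _root_.zero_add, _root_.MulZeroClass.zero_mul, _root_.neg_mul, _root_.Fin.mk_one, _root_.Fin.isValue, _root_.Matrix.of_apply, _root_.Matrix.cons_val', _root_.Matrix.cons_val_one, _root_.Matrix.cons_val_fin_one, _root_.MulZeroClass.mul_zero, _root_.add_zero]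
      field_simp
      ring
  refine ⟨c, P, Units.mk0 m hm0, ?_, hm, hcP⟩
  -- the order
  have h1 : SpecialLinearGroup.map ι c = P * h (Units.mk0 m hm0) * P⁻¹ := by
    rw [← hcP, mul_inv_cancel_right]
  have h2 : (Units.mk0 m hm0) ^ 41 = 1 := by
    apply Units.ext
    rw [Units.val_pow_eq_pow_val, Units.val_mk0, hm.pow_eq_one, Units.val_one]
  have h4 : SpecialLinearGroup.map ι (c ^ 41) = 1 := by
    rw [map_pow, h1, conj_pow, ← h_pow, h2, h_one, mul_one, mul_inv_cancel]
  have h5 : Function.Injective (SpecialLinearGroup.map (n := Fin 2) ι) := by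
    intro a b hab
    apply Subtype.ext
    ext i j
    have h6 := congrFun (congrFun (congrArg Subtype.val hab) i) j
    exact ι.injective h6
  exact h5 (h4.trans (map_one _).symm)

theorem count41 {k : Type*} [Field k] [DecidableEq k] [CharP k 3] {μ : kˣ} (hμ : IsPrimitiveRoot (μ : k) 41) {b : ℕ}
    (hb : b ≤ 80) (hbe : Even b) {κ : ℕ} (hκ : κ < 41) :
    ((Bf k b).filter fun m => (μ : k) ^ m * (μ : k)⁻¹ ^ (b - m) = ((μ : k) ^ 2) ^ κ).card =
      ((Cfsg.Agent.H943.Cert.digs 4 b).filter fun m => (m + 40 * (b / 2)) % 41 = κ).length := by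
  have hμ0 : (μ : k) ≠ 0 := μ.ne_zero
  have hη : IsPrimitiveRoot ((μ : k) ^ 2) 41 := hμ.pow_of_coprime 2 (by norm_num)
  have h1 : ∀ m ∈ Bf k b, (μ : k) ^ m * (μ : k)⁻¹ ^ (b - m) = ((μ : k) ^ 2) ^ ((m + 40 * (b / 2)) % 41) := by
    intro m hm
    have hmb : m ≤ b := (mem_Bf.1 hm).1
    have h2 : ((μ : k) ^ 2) ^ ((m + 40 * (b / 2)) % 41) = ((μ : k) ^ 2) ^ (m + 40 * (b / 2)) := by
      conv_rhs => rw [← Nat.div_add_mod (m + 40 * (b / 2)) 41]
      rw [pow_add, pow_mul, hη.pow_eq_one, one_pow, one_mul]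
    rw [h2]
    have h3 : (μ : k) ^ (b - m) * (μ : k)⁻¹ ^ (b - m) = 1 := by
      rw [← mul_pow, mul_inv_cancel₀ hμ0, one_pow]
    have h4 : ((μ : k) ^ 2) ^ (m + 40 * (b / 2)) * (μ : k) ^ (b - m) = (μ : k) ^ m := by
      rw [← pow_mul, ← pow_add]
      have h5 : 2 * (m + 40 * (b / 2)) + (b - m) = m + 41 * b := by
        obtain ⟨c, rfl⟩ := hbe
        (clear * - hmb; solve | lia | omega)
      rw [h5, pow_add, pow_mul, hμ.pow_eq_one, one_pow, mul_one]
    rw [← h4, mul_assoc, h3, mul_one]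
  have h2 : ((Bf k b).filter fun m => (μ : k) ^ m * (μ : k)⁻¹ ^ (b - m) = ((μ : k) ^ 2) ^ κ) =
      (Bf k b).filter fun m => (m + 40 * (b / 2)) % 41 = κ := by
    refine Finset.filter_congr fun m hm => ?_
    rw [h1 m hm]
    constructor
    · intro h3
      exact hη.pow_inj (Nat.mod_lt _ (by norm_num)) hκ h3
    · intro h3
      rw [h3]
  have h3 : ((Cfsg.Agent.H943.Cert.digs 4 b).toFinset.filter fun m => (m + 40 * (b / 2)) % 41 = κ) =
      ((Cfsg.Agent.H943.Cert.digs 4 b).filter fun m => (m + 40 * (b / 2)) % 41 = κ).toFinset := by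
    ext m
    simp
  rw [h2, Cfsg.Agent.H943.Cert.Bf_eq (n := 4) (by omega), h3, List.toFinset_card_of_nodup]
  exact (Cfsg.Agent.H943.Cert.nodup_digs 4 b).filter _

end Cfsg.Agent.H940.E8L.NonSplit
end

-- part: H940/E8L/NonSplitStmt
section
/-!
# NONSPLIT (S5921; helper940)
-/

set_option autoImplicit false

namespace Cfsg.Agent.H940.E8L

open Cfsg.Agent.H525.E8L in
/-- **the element of order 41** -/
theorem nonSplitStmt : NonSplitStmt := by
  intro F _ _ _ _ k _ _ _ _ ι hF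
  obtain ⟨c, P, μ, hc, hμ, hP⟩ := NonSplit.exists_nonsplit ι hF
  refine ⟨c, (μ : k) ^ 2, hc, hμ.pow_of_coprime 2 (by norm_num), ?_⟩
  intro b hb hbe κ hκ
  have h3 : Fact (Nat.Prime 3) := ⟨Nat.prime_three⟩
  rw [NonSplit.finrank_eig_of_conj ι 3 ι.injective (odd_of hF) hb c P μ hP, NonSplit.count41 hμ (by omega) hbe hκ]
  rfl

end Cfsg.Agent.H940.E8L
end

-- part: H940/E8L/En41
section
/-!
# ENUM41 (S5921; helper940): no class of elements of order 41 with the multiplicities of P3'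
-/

set_option autoImplicit false
set_option maxRecDepth 100000

namespace Cfsg.Agent.H940.E8L.En41

open Cfsg.Lie Cfsg.Agent.ChevalleyStructure Cfsg.Agent.H944.RootVals
open Cfsg.Agent.H944.Tab Cfsg.Agent.H943.E8Tab Cfsg.Agent.H943.En

local infixl:65 " ⊞ " => Nat.add
local infixl:70 " ⊠ " => Nat.mul

theorem list41_chk : ∀ Y ∈ Cfsg.Agent.H943.En41.list41, (pv Y).count 1 + (pv Y).count (41 - 1) = 9 →
    (pv Y).count 2 + (pv Y).count (41 - 2) ≠ 6 := by decide +kernel

/-- **the 3-stable alcove vectors of order dividing 41** -/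
theorem enum41' {Y : List ℕ} (hl : Y.length = 8) (hθ : dotN th8 Y ≤ 41)
    (hst : ∀ c : ZMod 41, (ms chevE8 8 (vecOf 41 Y)).count (3 * c) = (ms chevE8 8 (vecOf 41 Y)).count c)
    (h1 : (ms chevE8 8 (vecOf 41 Y)).count ((1 : ℕ) : ZMod 41) = 9)
    (h2 : (ms chevE8 8 (vecOf 41 Y)).count ((2 : ℕ) : ZMod 41) = 6) : False := by
  rw [count_vec _ hθ (by norm_num) (by norm_num)] at h1 h2
  exact list41_chk Y (Cfsg.Agent.H943.En41.enum41 hl hθ hst) h1 h2

end Cfsg.Agent.H940.E8L.En41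

namespace Cfsg.Agent.H940.E8L

open Cfsg.Lie Cfsg.Agent.ChevalleyStructure Cfsg.Agent.H944.RootVals Cfsg.Agent.H525.E8L

/-- **ENUM41** -/
theorem enum41Stmt : Enum41Stmt := by
  rintro v hst ⟨-, h1, h2, -, -, -⟩
  obtain ⟨Y, hl, hθ, hY⟩ := Cfsg.Agent.H942.E8Alc.exists_alc (N := 41) (by norm_num) v
  have hY' : ms chevE8 8 (Cfsg.Agent.H943.E8Tab.vecOf 41 Y) = ms chevE8 8 v := hY
  have hinj : Function.Injective (fun a : ZMod 41 => 3 * a) := by
    intro a b hab
    have h14 : (14 : ZMod 41) * (3 * a) = 14 * (3 * b) := congrArg (fun x => 14 * x) hab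
    have e : ∀ x : ZMod 41, 14 * (3 * x) = 42 * x := fun x => by ring
    have e2 : (42 : ZMod 41) = 1 := by decide
    rw [e, e, e2, one_mul, one_mul] at h14
    exact h14
  have hs : ∀ c : ZMod 41, (ms chevE8 8 v).count (3 * c) = (ms chevE8 8 v).count c := by
    intro c
    conv_lhs => rw [hst]
    exact Multiset.count_map_eq_count' _ _ hinj c
  refine En41.enum41' hl hθ ?_ ?_ ?_
  · rw [hY']; exact hs
  · rw [hY']; exact h1
  · rw [hY']; exact h2

end Cfsg.Agent.H940.E8L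
end

-- part: H525/E8L/Final
section
/-!
# S5921: assembly (helper525)
-/

set_option autoImplicit false

namespace Cfsg.Agent.H525.E8L

open Matrix
open Cfsg.Lie

theorem noSixStmt : NoSixStmt := fun _ hη _ hx _ h h6 => Cfsg.Agent.H943.No6.no6 hη hx h h6

/-- CLASS -/
theorem classStmt : ClassStmt := by
  intro F _ _ hcard ι φ hk lam hlam
  obtain ⟨Y, hY, hT⟩ := Cfsg.Agent.H943.ClassA.classes F hcard ι φ hk lam hlam
  simp only [List.mem_cons, List.not_mem_nil, or_false] at hY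
  rcases hY with h | h | h | h | h | h | h
  · exact ⟨Y, by simp [h], hT⟩
  · exact ⟨Y, by simp [h], hT⟩
  · exact ⟨Y, by simp [h], hT⟩
  · exact ⟨Y, by simp [h], hT⟩
  · exact ⟨Y, by simp [h], hT⟩
  · subst h
    exact (noSix_of Cfsg.Agent.H940.E8L.nonSplitStmt noSixStmt F hcard ι φ hk lam hlam hT).elim
  · exact ⟨Y, by simp [h], hT⟩

/-- **`L₂(81)`** -/
theorem no_L81 (h3 : P3Stmt) (h57 : P57Stmt) {F : Type*} [Field F] [Fintype F]
    (hcard : Fintype.card F = 81) (H : Subgroup G8)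
    (hH : Nonempty (↥(Cfsg.generalizedFittingSubgroup ↥H) ≃* ProjectiveSpecialLinearGroup (Fin 2) F)) :
    ¬ IsCoatom H := by
  obtain ⟨e⟩ := hH
  have h3' : Fact (Nat.Prime 3) := ⟨Nat.prime_three⟩
  have : Fintype (GaloisField 3 4) := Fintype.ofFinite _
  have hc : Fintype.card (GaloisField 3 4) = 81 := by
    rw [← Nat.card_eq_fintype_card, GaloisField.card 3 4 (by norm_num)]
    norm_num
  have e' : F ≃+* GaloisField 3 4 := FiniteField.ringEquivOfCardEq (by rw [hcard, hc])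
  exact no_L81_of Cfsg.Agent.H434.E8L.groupStmt Cfsg.Agent.H434.E8L.centreStmt classStmt
    (fixStmt_of (fixThree Cfsg.Agent.H940.E8L.nonSplitStmt Cfsg.Agent.H940.E8L.enum41Stmt)) Cfsg.Agent.H72.E8T.torus h3 h57 (GaloisField 3 4) hc H
    ⟨e.trans (Cfsg.Agent.LieClassical.FieldTransfer.pslCongr e')⟩

/-- **S5921** -/
theorem s5921_of (h3 : P3Stmt) (h57 : P57Stmt)
    {F : Type*} [Field F] [Fintype F] (n : ℕ) (hn : n = 4 ∨ n = 5 ∨ n = 6 ∨ n = 7) (hF : Fintype.card F = 3 ^ n)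
    (H : Subgroup ↥(Cfsg.Lie.chevE8.group (ZMod 3)))
    (hH : Nonempty (↥(Cfsg.generalizedFittingSubgroup ↥H) ≃* Matrix.ProjectiveSpecialLinearGroup (Fin 2) F)) :
    ¬ IsCoatom H := by
  have key : ∀ e : ↥(Cfsg.generalizedFittingSubgroup ↥H) ≃* Matrix.ProjectiveSpecialLinearGroup (Fin 2) F,
      Nonempty (↥((Cfsg.generalizedFittingSubgroup ↥H).map H.subtype) ≃* ProjectiveSpecialLinearGroup (Fin 2) F) :=
    fun e => ⟨(Subgroup.equivMapOfInjective _ _ H.subtype_injective).symm.trans e⟩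
  rcases hn with rfl | rfl | rfl | rfl
  · exact no_L81 h3 h57 (by rw [hF]; norm_num) H hH
  · obtain ⟨e⟩ := hH
    obtain ⟨e'⟩ := key e
    exact ((Cfsg.Agent.H943.L243.no_L243 (by rw [hF]; norm_num) _).false e').elim
  · obtain ⟨e⟩ := hH
    obtain ⟨e'⟩ := key e
    exact ((Cfsg.Agent.H943.L729.no_L729 (by rw [hF]; norm_num) _).false e').elim
  · obtain ⟨e⟩ := hH
    obtain ⟨e'⟩ := key e
    exact ((Cfsg.Agent.H943.L2187.no_L2187 (by rw [hF]; norm_num) _).false e').elim

end Cfsg.Agent.H525.E8L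
end
end
end
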